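import Mathlib
import Groth.Agent.H98.SegreFinite

set_option autoImplicit false
set_option linter.unusedSectionVars false
universe u

/-!
# `X ⊗[k] Y` as a module over `T` through `ψ : T → R ⊗[k] S`

`TP ψ X Y` is a type synonym of `X ⊗[k] Y` carrying the `T`-module structure
`t • w = GrSeg.act (ψ t) w`.
-/

namespace Groth.Agent.H81.Seg

open scoped TensorProduct

section Synonym

variable {k : Type u} [CommRing k] {R S T : Type u} [CommRing R] [CommRing S] [CommRing T]
  [Algebra k R] [Algebra k S] [Algebra k T]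

/-- `X ⊗[k] Y` viewed as a `T`-module through `ψ : T → R ⊗ S` -/
def TP (_ψ : T →ₐ[k] R ⊗[k] S) (X Y : Type u) [AddCommGroup X] [Module k X]
    [AddCommGroup Y] [Module k Y] : Type u := X ⊗[k] Y

variable (ψ : T →ₐ[k] R ⊗[k] S)

section
variable (X Y : Type u) [AddCommGroup X] [Module k X] [AddCommGroup Y] [Module k Y]

instance : AddCommGroup (TP ψ X Y) := inferInstanceAs (AddCommGroup (X ⊗[k] Y))
instance : Module k (TP ψ X Y) := inferInstanceAs (Module k (X ⊗[k] Y))

/-- the identity, as a `k`-linear equivalence -/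
def TP.of : X ⊗[k] Y ≃ₗ[k] TP ψ X Y := LinearEquiv.refl k _

end

variable (X Y : Type u) [AddCommGroup X] [Module R X] [Module k X] [IsScalarTower k R X]
  [AddCommGroup Y] [Module S Y] [Module k Y] [IsScalarTower k S Y]

noncomputable instance : Module T (TP ψ X Y) :=
  Module.compHom (X ⊗[k] Y) ((H98.actRingHom k R S X Y).comp (ψ : T →+* R ⊗[k] S))

variable {X Y}

theorem smul_def (t : T) (w : TP ψ X Y) :
    t • w = (GrSeg.act k R S X Y (ψ t) (w : X ⊗[k] Y) : X ⊗[k] Y) := rfl

instance : IsScalarTower k T (TP ψ X Y) := by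
  refine ⟨fun c t w => ?_⟩
  change GrSeg.act k R S X Y (ψ (c • t)) (w : X ⊗[k] Y) =
    c • GrSeg.act k R S X Y (ψ t) (w : X ⊗[k] Y)
  rw [map_smul, map_smul]
  rfl

end Synonym

section Maps

variable {k : Type u} [CommRing k] {R S T : Type u} [CommRing R] [CommRing S] [CommRing T]
  [Algebra k R] [Algebra k S] [Algebra k T] (ψ : T →ₐ[k] R ⊗[k] S)
variable {X Y : Type u} [AddCommGroup X] [Module R X] [Module k X] [IsScalarTower k R X]
  [AddCommGroup Y] [Module S Y] [Module k Y] [IsScalarTower k S Y]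
  {X' Y' : Type u} [AddCommGroup X'] [Module R X'] [Module k X'] [IsScalarTower k R X']
  [AddCommGroup Y'] [Module S Y'] [Module k Y'] [IsScalarTower k S Y']
  {X'' Y'' : Type u} [AddCommGroup X''] [Module R X''] [Module k X''] [IsScalarTower k R X'']
  [AddCommGroup Y''] [Module S Y''] [Module k Y''] [IsScalarTower k S Y'']

/-- `f ⊗ g` as a `k`-linear map -/
noncomputable def kmap (f : X →ₗ[R] X') (g : Y →ₗ[S] Y') : X ⊗[k] Y →ₗ[k] X' ⊗[k] Y' :=
  TensorProduct.map (f.restrictScalars k) (g.restrictScalars k)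

theorem kmap_tmul (f : X →ₗ[R] X') (g : Y →ₗ[S] Y') (x : X) (y : Y) :
    kmap (k := k) f g (x ⊗ₜ[k] y) = f x ⊗ₜ[k] g y := rfl

/-- `f ⊗ g` commutes with the action of `R ⊗ S` -/
theorem kmap_act (f : X →ₗ[R] X') (g : Y →ₗ[S] Y') (a : R ⊗[k] S) (w : X ⊗[k] Y) :
    kmap (k := k) f g (GrSeg.act k R S X Y a w) = GrSeg.act k R S X' Y' a (kmap (k := k) f g w) := by
  induction a using TensorProduct.induction_on with
  | zero => simp
  | add a b ha hb => rw [map_add, LinearMap.add_apply, map_add, ha, hb, map_add, LinearMap.add_apply]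
  | tmul r s =>
    induction w using TensorProduct.induction_on with
    | zero => simp
    | add x y hx hy => rw [map_add, map_add, hx, hy, map_add, map_add]
    | tmul x y =>
      rw [GrSeg.act_tmul, kmap_tmul, kmap_tmul, GrSeg.act_tmul, map_smul, map_smul]

/-- `f ⊗ g` as a `T`-linear map -/
noncomputable def tpMap (f : X →ₗ[R] X') (g : Y →ₗ[S] Y') : TP ψ X Y →ₗ[T] TP ψ X' Y' where
  toFun w := kmap (k := k) f g w
  map_add' a b := map_add (kmap (k := k) f g) a b
  map_smul' t w := by
    change kmap (k := k) f g (GrSeg.act k R S X Y (ψ t) w) =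
      GrSeg.act k R S X' Y' (ψ t) (kmap (k := k) f g w)
    exact kmap_act f g (ψ t) w

theorem tpMap_apply (f : X →ₗ[R] X') (g : Y →ₗ[S] Y') (w : TP ψ X Y) :
    tpMap ψ f g w = kmap (k := k) f g w := rfl

theorem kmap_comp (f : X →ₗ[R] X') (g : Y →ₗ[S] Y') (f' : X' →ₗ[R] X'') (g' : Y' →ₗ[S] Y'')
    (w : X ⊗[k] Y) :
    kmap (k := k) f' g' (kmap (k := k) f g w) = kmap (k := k) (f' ∘ₗ f) (g' ∘ₗ g) w := by
  unfold kmap
  rw [← LinearMap.comp_apply, ← TensorProduct.map_comp]
  rfl

theorem kmap_id (w : X ⊗[k] Y) :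
    kmap (k := k) (LinearMap.id : X →ₗ[R] X) (LinearMap.id : Y →ₗ[S] Y) w = w := by
  unfold kmap
  have : ((LinearMap.id : X →ₗ[R] X).restrictScalars k) = LinearMap.id := rfl
  have h2 : ((LinearMap.id : Y →ₗ[S] Y).restrictScalars k) = LinearMap.id := rfl
  rw [this, h2, TensorProduct.map_id, LinearMap.id_apply]

end Maps

section Field

variable {k : Type u} [Field k] {R S T : Type u} [CommRing R] [CommRing S] [CommRing T]
  [Algebra k R] [Algebra k S] [Algebra k T] (ψ : T →ₐ[k] R ⊗[k] S)
variable {X Y : Type u} [AddCommGroup X] [Module R X] [Module k X] [IsScalarTower k R X]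
  [AddCommGroup Y] [Module S Y] [Module k Y] [IsScalarTower k S Y]
  {X' Y' : Type u} [AddCommGroup X'] [Module R X'] [Module k X'] [IsScalarTower k R X']
  [AddCommGroup Y'] [Module S Y'] [Module k Y'] [IsScalarTower k S Y']

theorem kmap_injective (f : X →ₗ[R] X') (g : Y →ₗ[S] Y') (hf : Function.Injective f)
    (hg : Function.Injective g) : Function.Injective (kmap (k := k) f g) :=
  TensorProduct.map_injective_of_flat_flat _ _ hf hg

theorem kmap_surjective (f : X →ₗ[R] X') (g : Y →ₗ[S] Y') (hf : Function.Surjective f)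
    (hg : Function.Surjective g) : Function.Surjective (kmap (k := k) f g) :=
  TensorProduct.map_surjective (g := f.restrictScalars k) (g' := g.restrictScalars k) hf hg

/-- the kernel of `f ⊗ g` for surjective `f`, `g` is spanned by the `x ⊗ y` with `f x = 0` or `g y = 0` -/
theorem ker_kmap_le_span (f : X →ₗ[R] X') (g : Y →ₗ[S] Y') (hf : Function.Surjective f)
    (hg : Function.Surjective g) :
    LinearMap.ker (kmap (k := k) f g) ≤
      Submodule.span k {w | ∃ x y, (f x = 0 ∨ g y = 0) ∧ w = x ⊗ₜ[k] y} := by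
  unfold kmap
  rw [TensorProduct.map_ker (LinearMap.exact_subtype_ker_map (f.restrictScalars k)) hf
    (LinearMap.exact_subtype_ker_map (g.restrictScalars k)) hg]
  apply sup_le
  · rintro _ ⟨w, rfl⟩
    induction w using TensorProduct.induction_on with
    | zero => rw [map_zero]; exact Submodule.zero_mem _
    | add a b ha hb => rw [map_add]; exact Submodule.add_mem _ ha hb
    | tmul x y =>
      exact Submodule.subset_span ⟨x, y.1, Or.inr y.2, rfl⟩
  · rintro _ ⟨w, rfl⟩
    induction w using TensorProduct.induction_on with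
    | zero => rw [map_zero]; exact Submodule.zero_mem _
    | add a b ha hb => rw [map_add]; exact Submodule.add_mem _ ha hb
    | tmul x y =>
      exact Submodule.subset_span ⟨x.1, y, Or.inl x.2, rfl⟩

end Field

end Groth.Agent.H81.Seg
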