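import Mathlib
import Groth.Agent.H81.TopTensor
import Groth.Agent.H58.LCColim3
import Groth.Agent.H58.LCCd

set_option autoImplicit false
set_option linter.unusedSectionVars false
set_option linter.style.haveILetI false
universe u

/-!
# General vanishing lemmas for local cohomology: retracts, finite sums, directed unions, `β →₀ X`
-/

namespace Groth.Agent.H81.Seg

open CategoryTheory CategoryTheory.Limits Groth.Agent.H58.LC Groth.Agent.H81.TopTensor

variable {R : Type u} [CommRing R] (I : Ideal R) (i : ℕ)

/-- a module which is a finite sum of retracts of modules with vanishing `H^i_I` has vanishing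
`H^i_I` -/
theorem subsingleton_H_of_retracts {M : Type u} [AddCommGroup M] [Module R M]
    {ι : Type*} [Fintype ι] (X : ι → Type u) [∀ j, AddCommGroup (X j)] [∀ j, Module R (X j)]
    (inj : ∀ j, X j →ₗ[R] M) (pr : ∀ j, M →ₗ[R] X j)
    (hsum : ∀ m : M, ∑ j, inj j (pr j m) = m)
    (h : ∀ j, Subsingleton (LocCoh.H I i (X j))) : Subsingleton (LocCoh.H I i M) := by
  have hid : (LinearMap.id : M →ₗ[R] M) = ∑ j, inj j ∘ₗ pr j := by
    ext m
    rw [LinearMap.id_apply, LinearMap.sum_apply]
    exact (hsum m).symm
  have key : ∀ x : LocCoh.H I i M, x = 0 := by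
    intro x
    have h1 : Hmap I i (LinearMap.id : M →ₗ[R] M) x = x := by
      rw [Hmap_id]
      rfl
    rw [← h1, hid, Hmap_sum, LinearMap.sum_apply]
    apply Finset.sum_eq_zero
    intro j _
    rw [Hmap_comp_apply]
    haveI := h j
    rw [Subsingleton.elim (Hmap I i (pr j) x) 0, map_zero]
  exact ⟨fun x y => (key x).trans (key y).symm⟩

/-- a retract of a module with vanishing `H^i_I` has vanishing `H^i_I` -/
theorem subsingleton_H_of_retract {M N : Type u} [AddCommGroup M] [Module R M]
    [AddCommGroup N] [Module R N] (s : N →ₗ[R] M) (r : M →ₗ[R] N) (hrs : ∀ x, r (s x) = x)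
    (h : Subsingleton (LocCoh.H I i M)) : Subsingleton (LocCoh.H I i N) :=
  subsingleton_H_of_retracts I i (ι := Unit) (fun _ => M) (fun _ => r) (fun _ => s)
    (fun m => by simp [hrs]) (fun _ => h)

/-- finite products -/
theorem subsingleton_H_pi {ι : Type*} [Fintype ι] [DecidableEq ι] (X : ι → Type u)
    [∀ j, AddCommGroup (X j)] [∀ j, Module R (X j)] {M : Type u} [AddCommGroup M] [Module R M]
    (e : M ≃ₗ[R] (∀ j, X j))
    (h : ∀ j, Subsingleton (LocCoh.H I i (X j))) : Subsingleton (LocCoh.H I i M) :=
  subsingleton_H_of_retracts I i X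
    (fun j => e.symm.toLinearMap ∘ₗ LinearMap.single R X j)
    (fun j => LinearMap.proj j ∘ₗ e.toLinearMap)
    (fun m => by
      simp only [LinearMap.comp_apply, LinearEquiv.coe_coe, LinearMap.proj_apply]
      rw [← map_sum]
      have : ∑ j, LinearMap.single R X j (e m j) = e m := by
        funext l
        rw [Finset.sum_apply, Finset.sum_eq_single l]
        · simp
        · intro b _ hb
          simp [Pi.single_eq_of_ne (Ne.symm hb)]
        · intro hl
          exact absurd (Finset.mem_univ l) hl
      rw [this, LinearEquiv.symm_apply_apply]) h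

variable [IsNoetherianRing R]

/-- directed unions -/
theorem subsingleton_H_of_directed (M : Type u) [AddCommGroup M] [Module R M]
    {Λ : Type u} [Preorder Λ] [IsDirected Λ (· ≤ ·)] [Nonempty Λ]
    (N : Λ → Submodule R M) (hmono : Monotone N) (hcover : ∀ x : M, ∃ l, x ∈ N l)
    (h : ∀ l, Subsingleton (LocCoh.H I i (N l))) : Subsingleton (LocCoh.H I i M) := by
  let D : Λ ⥤ ModuleCat.{u} R :=
    { obj := fun l => ModuleCat.of R (N l)
      map := fun f => ModuleCat.ofHom (Submodule.inclusion (hmono (leOfHom f)))
      map_id := fun _ => by ext; rfl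
      map_comp := fun _ _ => by ext; rfl }
  let c : Cocone D :=
    { pt := ModuleCat.of R M
      ι := { app := fun l => ModuleCat.ofHom (N l).subtype
             naturality := fun _ _ _ => by ext; rfl } }
  have hc : IsColimit c := by
    apply isColimitOfReflects (forget (ModuleCat.{u} R))
    apply Types.FilteredColimit.isColimitOf
    · intro x
      let x' : M := x
      obtain ⟨l, hl⟩ := hcover x'
      exact ⟨l, (⟨x', hl⟩ : ↥(N l)), rfl⟩
    · intro l l' x x' hxx'
      obtain ⟨l'', h1, h2⟩ := exists_ge_ge l l'
      refine ⟨l'', homOfLE h1, homOfLE h2, ?_⟩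
      let y : ↥(N l) := x
      let y' : ↥(N l') := x'
      have h' : (y : M) = (y' : M) := hxx'
      change Submodule.inclusion (hmono h1) y = Submodule.inclusion (hmono h2) y'
      exact Subtype.ext h'
  have : PreservesColimitsOfShape Λ (localCohomology I i) :=
    Groth.Agent.H58.LCColim.localCohomology_preservesFiltered I i _
  have hc' := isColimitOfPreserves (localCohomology I i) hc
  have hz : IsZero ((localCohomology I i).obj (ModuleCat.of R M)) := by
    rw [IsZero.iff_id_eq_zero]
    apply hc'.hom_ext
    intro l
    have : IsZero ((localCohomology I i).obj (ModuleCat.of R (N l))) :=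
      @ModuleCat.isZero_of_subsingleton _ _ _ (h l)
    exact this.eq_of_src _ _
  exact ModuleCat.subsingleton_of_isZero hz

/-- finitely supported functions -/
theorem subsingleton_H_finsupp (β : Type u) (X : Type u) [AddCommGroup X] [Module R X]
    (h : Subsingleton (LocCoh.H I i X)) : Subsingleton (LocCoh.H I i (β →₀ X)) := by
  classical
  apply subsingleton_H_of_directed I i (β →₀ X) (Λ := Finset β)
    (fun F => Finsupp.supported X R (F : Set β))
  · intro F G hFG
    exact Finsupp.supported_mono (Finset.coe_subset.mpr hFG)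
  · intro x
    exact ⟨x.support, (Finsupp.mem_supported _ _).mpr (fun a ha => ha)⟩
  · intro F
    have e : ↥(Finsupp.supported X R (F : Set β)) ≃ₗ[R] (∀ _ : (F : Set β), X) :=
      (Finsupp.supportedEquivFinsupp (F : Set β)).trans (Finsupp.linearEquivFunOnFinite R X _)
    exact subsingleton_H_pi I i (fun _ : (F : Set β) => X) e (fun _ => h)

end Groth.Agent.H81.Seg
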