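import Mathlib
import Groth.Agent.H81.Seg.LCGen
import Groth.Agent.H81.Seg.Act
import Groth.Agent.H58.LCIndep2
import Groth.Agent.H58.LCMV4
import Groth.Agent.H2.LCExtVanish
import Groth.Agent.H81.FaltingsConn

set_option autoImplicit false
set_option linter.unusedSectionVars false
set_option linter.style.haveILetI false
universe u

/-!
# Lemma L: vanishing of `H^i_P(X ⊗_k Y)` when all `H^i_m(X)` and all `H^i_n(Y)` vanish
-/

namespace Groth.Agent.H81.Seg

open scoped TensorProduct
open CategoryTheory Groth.Agent.H58.LC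

section OneSided

variable {k : Type u} [Field k] {R : Type u} [CommRing R] [Algebra k R] [IsNoetherianRing R]

/-- tensoring with a `k`-vector space preserves the vanishing of local cohomology -/
theorem subsingleton_H_tensor_left (m : Ideal R) (i : ℕ) (X : Type u) [AddCommGroup X]
    [Module R X] [Module k X] [IsScalarTower k R X] (V : Type u) [AddCommGroup V] [Module k V]
    (h : Subsingleton (LocCoh.H m i X)) : Subsingleton (LocCoh.H m i (X ⊗[k] V)) := by
  classical
  let b := Module.Basis.ofVectorSpace k V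
  let e1 : X ⊗[k] V ≃ₗ[R] X ⊗[k] (Module.Basis.ofVectorSpaceIndex k V →₀ k) :=
    TensorProduct.AlgebraTensorModule.congr (LinearEquiv.refl R X) b.repr
  let e2 := TensorProduct.finsuppScalarRight k R X (Module.Basis.ofVectorSpaceIndex k V)
  exact subsingleton_H_of_linearEquiv m (e1.trans e2).symm i
    (subsingleton_H_finsupp m i _ X h)

end OneSided

section Abstract

variable {A : Type u} [CommRing A] [IsNoetherianRing A]

/-- extension of the ideal along `B → A` does not change local cohomology: vanishing version -/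
theorem subsingleton_H_map_of_restrict {B : Type u} [CommRing B] [IsNoetherianRing B] [Algebra B A]
    (I : Ideal B) (W : Type u) [AddCommGroup W] [Module A W] [Module B W] [IsScalarTower B A W]
    (i : ℕ) (h : Subsingleton (LocCoh.H I i W)) :
    Subsingleton (LocCoh.H (I.map (algebraMap B A)) i W) := by
  obtain ⟨φ, -⟩ := indepProp (R' := A) I i W
  exact φ.toEquiv.subsingleton

theorem subsingleton_H_restrict_of_map {B : Type u} [CommRing B] [IsNoetherianRing B] [Algebra B A]
    (I : Ideal B) (W : Type u) [AddCommGroup W] [Module A W] [Module B W] [IsScalarTower B A W]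
    (i : ℕ) (h : Subsingleton (LocCoh.H (I.map (algebraMap B A)) i W)) :
    Subsingleton (LocCoh.H I i W) := by
  obtain ⟨φ, -⟩ := indepProp (R' := A) I i W
  exact φ.symm.toEquiv.subsingleton

theorem isTors_Q_sup (a b : Ideal A) (t : ℕ) : IsTors b (Q (a ⊔ b) t) := by
  intro x
  refine ⟨t, fun r hr => ?_⟩
  obtain ⟨y, rfl⟩ := Submodule.Quotient.mk_surjective _ x
  have hr' : r ∈ (a ⊔ b) ^ t := Ideal.pow_right_mono le_sup_right t hr
  change Submodule.Quotient.mk (r • y) = 0
  rw [Submodule.Quotient.mk_eq_zero]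
  exact Ideal.mul_mem_right _ _ hr'

/-- if all `H^i_b(W)` vanish then all `H^i_{a + b}(W)` vanish -/
theorem subsingleton_H_sup_of_forall (a b : Ideal A) (W : Type u) [AddCommGroup W] [Module A W]
    (hb : ∀ i, Subsingleton (LocCoh.H b i W)) (i : ℕ) :
    Subsingleton (LocCoh.H (a ⊔ b) i W) := by
  apply Groth.Agent.H2.LCExtVanish.subsingleton_H_of_subsingleton_ext_Q (a ⊔ b) (ModuleCat.of A W) i
  intro t
  exact Groth.Agent.H2.LCExtVanish.subsingleton_ext_of_subsingleton_H b (Q (a ⊔ b) t)
    (isTors_Q_sup a b t) (i + 1) W (fun j _ => hb j) i (Nat.lt_succ_self i)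

/-- Mayer–Vietoris: if all `H^i_a(W)` and all `H^i_b(W)` vanish then all `H^i_{a ∩ b}(W)` vanish -/
theorem subsingleton_H_inf_of_forall (a b : Ideal A) (W : Type u) [AddCommGroup W] [Module A W]
    (ha : ∀ i, Subsingleton (LocCoh.H a i W)) (hb : ∀ i, Subsingleton (LocCoh.H b i W)) (i : ℕ) :
    Subsingleton (LocCoh.H (a ⊓ b) i W) := by
  have hsup := subsingleton_H_sup_of_forall a b W hb (i + 1)
  let J := CategoryTheory.injectiveResolution (ModuleCat.of A W)
  have hker := ker_δMV a b J i
  have hinj : Function.Injective (δMV a b J i) := by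
    rw [← LinearMap.ker_eq_bot, hker, eq_bot_iff]
    rintro _ ⟨⟨x, y⟩, rfl⟩
    haveI := ha i
    haveI := hb i
    have hx : x = 0 := Subsingleton.elim _ _
    have hy : y = 0 := Subsingleton.elim _ _
    rw [hx, hy]
    change Dmap a b i 0 ∈ _
    rw [map_zero]
    exact Submodule.zero_mem _
  exact hinj.subsingleton

end Abstract

section Main

variable {k : Type u} [Field k] {R S T : Type u} [CommRing R] [CommRing S] [CommRing T]
  [Algebra k R] [Algebra k S] [Algebra k T] (ψ : T →ₐ[k] R ⊗[k] S)
  [IsNoetherianRing R] [IsNoetherianRing S] [IsNoetherianRing T] [IsNoetherianRing (R ⊗[k] S)]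
variable (X Y : Type u) [AddCommGroup X] [Module R X] [Module k X] [IsScalarTower k R X]
  [AddCommGroup Y] [Module S Y] [Module k Y] [IsScalarTower k S Y]

/-- the extension of `m ⊆ R` to `R ⊗ S` -/
abbrev aI (m : Ideal R) : Ideal (R ⊗[k] S) :=
  m.map (Algebra.TensorProduct.includeLeft : R →ₐ[k] R ⊗[k] S)

/-- the extension of `n ⊆ S` to `R ⊗ S` -/
abbrev bI (n : Ideal S) : Ideal (R ⊗[k] S) :=
  n.map (Algebra.TensorProduct.includeRight : S →ₐ[k] R ⊗[k] S)

theorem subsingleton_H_aI (m : Ideal R) (hX : ∀ i, Subsingleton (LocCoh.H m i X)) (i : ℕ) :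
    letI : Module (R ⊗[k] S) (TP ψ X Y) := H98.tensorModule k R S X Y
    Subsingleton (LocCoh.H (aI (k := k) (S := S) m) i (TP ψ X Y)) := by
  letI modA : Module (R ⊗[k] S) (TP ψ X Y) := H98.tensorModule k R S X Y
  letI : Module R (TP ψ X Y) := Module.compHom _ (algebraMap R (R ⊗[k] S))
  haveI : IsScalarTower R (R ⊗[k] S) (TP ψ X Y) :=
    IsScalarTower.of_algebraMap_smul (fun r x => rfl)
  have key := subsingleton_H_map_of_restrict (A := R ⊗[k] S) m (TP ψ X Y) i ?_
  · exact key
  let e : (X ⊗[k] Y) ≃ₗ[R] TP ψ X Y :=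
    { toFun := fun w => w
      invFun := fun w => w
      left_inv := fun _ => rfl
      right_inv := fun _ => rfl
      map_add' := fun _ _ => rfl
      map_smul' := fun r w => by
        change (r • w : X ⊗[k] Y) = GrSeg.act k R S X Y (algebraMap R (R ⊗[k] S) r) w
        rw [Algebra.TensorProduct.algebraMap_apply, Algebra.algebraMap_self_apply]
        induction w using TensorProduct.induction_on with
        | zero => simp
        | add a b ha hb => rw [smul_add, ha, hb, map_add]
        | tmul x y => rw [GrSeg.act_tmul, one_smul, TensorProduct.smul_tmul'] }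
  exact subsingleton_H_of_linearEquiv m e i (subsingleton_H_tensor_left m i X Y (hX i))

theorem subsingleton_H_bI (n : Ideal S) (hY : ∀ i, Subsingleton (LocCoh.H n i Y)) (i : ℕ) :
    letI : Module (R ⊗[k] S) (TP ψ X Y) := H98.tensorModule k R S X Y
    Subsingleton (LocCoh.H (bI (k := k) (R := R) n) i (TP ψ X Y)) := by
  letI modA : Module (R ⊗[k] S) (TP ψ X Y) := H98.tensorModule k R S X Y
  letI : Algebra S (R ⊗[k] S) := Algebra.TensorProduct.rightAlgebra
  letI : Module S (TP ψ X Y) := Module.compHom _ (algebraMap S (R ⊗[k] S))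
  haveI : IsScalarTower S (R ⊗[k] S) (TP ψ X Y) :=
    IsScalarTower.of_algebraMap_smul (fun r x => rfl)
  have key := subsingleton_H_map_of_restrict (A := R ⊗[k] S) n (TP ψ X Y) i ?_
  · exact key
  let e : (Y ⊗[k] X) ≃ₗ[S] TP ψ X Y :=
    { toFun := fun w => (TensorProduct.comm k Y X w : X ⊗[k] Y)
      invFun := fun w => TensorProduct.comm k X Y (w : X ⊗[k] Y)
      left_inv := fun w => by simp
      right_inv := fun w => (TensorProduct.comm k Y X).apply_symm_apply (w : X ⊗[k] Y)
      map_add' := fun a b => map_add (TensorProduct.comm k Y X) a b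
      map_smul' := fun s w => by
        change (TensorProduct.comm k Y X (s • w) : X ⊗[k] Y) =
          GrSeg.act k R S X Y ((1 : R) ⊗ₜ[k] s) (TensorProduct.comm k Y X w)
        induction w using TensorProduct.induction_on with
        | zero => simp
        | add a b ha hb => rw [smul_add, map_add, ha, hb, map_add, map_add]
        | tmul y x =>
          rw [TensorProduct.smul_tmul', TensorProduct.comm_tmul, TensorProduct.comm_tmul,
            GrSeg.act_tmul, one_smul] }
  exact subsingleton_H_of_linearEquiv n e i (subsingleton_H_tensor_left n i Y X (hY i))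

/-- **Lemma L** -/
theorem lemmaL (m : Ideal R) (n : Ideal S) (P : Ideal T)
    (hP1 : P.map ψ ≤ aI (k := k) (S := S) m ⊓ bI (k := k) (R := R) n)
    (hP2 : aI (k := k) (S := S) m * bI (k := k) (R := R) n ≤ (P.map ψ).radical)
    (hX : ∀ i, Subsingleton (LocCoh.H m i X)) (hY : ∀ i, Subsingleton (LocCoh.H n i Y)) (i : ℕ) :
    Subsingleton (LocCoh.H P i (TP ψ X Y)) := by
  letI modA : Module (R ⊗[k] S) (TP ψ X Y) := H98.tensorModule k R S X Y
  have h1 : Subsingleton (LocCoh.H (aI (k := k) (S := S) m ⊓ bI (k := k) (R := R) n) i (TP ψ X Y)) :=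
    subsingleton_H_inf_of_forall _ _ (TP ψ X Y) (subsingleton_H_aI ψ X Y m hX)
      (subsingleton_H_bI ψ X Y n hY) i
  have hrad : (P.map ψ).radical = (aI (k := k) (S := S) m ⊓ bI (k := k) (R := R) n).radical := by
    apply le_antisymm (Ideal.radical_mono hP1)
    rw [Ideal.radical_inf, ← Ideal.radical_mul, Ideal.radical_le_radical_iff]
    exact hP2
  have h2 : Subsingleton (LocCoh.H (P.map ψ) i (TP ψ X Y)) :=
    Groth.Agent.H81.FaltingsConn.subsingleton_H_of_radical_eq _ _ hrad (TP ψ X Y) i h1
  letI : Algebra T (R ⊗[k] S) := (ψ : T →+* R ⊗[k] S).toAlgebra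
  haveI : IsScalarTower T (R ⊗[k] S) (TP ψ X Y) :=
    IsScalarTower.of_algebraMap_smul (fun r x => rfl)
  exact subsingleton_H_restrict_of_map (A := R ⊗[k] S) P (TP ψ X Y) i h2

end Main

end Groth.Agent.H81.Seg
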