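import Mathlib
import Groth.Agent.H81.Seg.LemmaL
import Groth.Agent.H58.LCTorsion2
import Groth.Agent.H58.LCGV

set_option autoImplicit false
set_option linter.unusedSectionVars false
set_option linter.style.haveILetI false
universe u

/-!
# `Γ_P`-acyclicity of `X ⊗_k Y` for `Γ_m`-acyclic `X` and `Γ_n`-acyclic `Y`, and its `P`-torsion
-/

namespace Groth.Agent.H81.Seg

open scoped TensorProduct
open CategoryTheory Groth.Agent.H58.LC

section Quot

variable {R : Type u} [CommRing R] [IsNoetherianRing R] (m : Ideal R)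
  (X : Type u) [AddCommGroup X] [Module R X]

/-- if `X` is `Γ_m`-acyclic then all the local cohomology of `X / Γ_m X` vanishes -/
theorem subsingleton_H_quot_torsion (hX : ∀ j, Subsingleton (LocCoh.H m (j + 1) X)) (i : ℕ) :
    Subsingleton (LocCoh.H m i (X ⧸ DRing.torsionSub m X)) := by
  cases i with
  | zero =>
    exact Groth.Agent.H2.LCExtVanish.subsingleton_H0_of_torsionSub_eq_bot m _
      (torsionSub_quotient_eq_bot m X)
  | succ i =>
    haveI := hX i
    exact (map_mkQ_torsionSub_bijective m X i).2.subsingleton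

end Quot

section Main

variable {k : Type u} [Field k] {R S T : Type u} [CommRing R] [CommRing S] [CommRing T]
  [Algebra k R] [Algebra k S] [Algebra k T] (ψ : T →ₐ[k] R ⊗[k] S)
variable {X Y : Type u} [AddCommGroup X] [Module R X] [Module k X] [IsScalarTower k R X]
  [AddCommGroup Y] [Module S Y] [Module k Y] [IsScalarTower k S Y]

/-- elements of `I (R ⊗ S)` kill `x ⊗ y` when `I x = 0` -/
theorem act_left_eq_zero (I : Ideal R) (x : X) (hx : ∀ r ∈ I, r • x = 0) (y : Y)
    (a : R ⊗[k] S) (ha : a ∈ aI (k := k) (S := S) I) :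
    GrSeg.act k R S X Y a (x ⊗ₜ[k] y) = 0 := by
  induction ha using Submodule.span_induction with
  | mem a ha =>
    obtain ⟨r, hr, rfl⟩ := ha
    change GrSeg.act k R S X Y (r ⊗ₜ[k] (1 : S)) (x ⊗ₜ[k] y) = 0
    rw [GrSeg.act_tmul, hx r hr, TensorProduct.zero_tmul]
  | zero => rw [map_zero, LinearMap.zero_apply]
  | add a b _ _ ha hb => rw [map_add, LinearMap.add_apply, ha, hb, add_zero]
  | smul c a _ ha =>
    rw [smul_eq_mul, H98.act_mul, LinearMap.comp_apply, ha, map_zero]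

theorem act_right_eq_zero (I : Ideal S) (y : Y) (hy : ∀ s ∈ I, s • y = 0) (x : X)
    (a : R ⊗[k] S) (ha : a ∈ bI (k := k) (R := R) I) :
    GrSeg.act k R S X Y a (x ⊗ₜ[k] y) = 0 := by
  induction ha using Submodule.span_induction with
  | mem a ha =>
    obtain ⟨s, hs, rfl⟩ := ha
    change GrSeg.act k R S X Y ((1 : R) ⊗ₜ[k] s) (x ⊗ₜ[k] y) = 0
    rw [GrSeg.act_tmul, hy s hs, TensorProduct.tmul_zero]
  | zero => rw [map_zero, LinearMap.zero_apply]
  | add a b _ _ ha hb => rw [map_add, LinearMap.add_apply, ha, hb, add_zero]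
  | smul c a _ ha =>
    rw [smul_eq_mul, H98.act_mul, LinearMap.comp_apply, ha, map_zero]

variable (m : Ideal R) (n : Ideal S) (P : Ideal T)

/-- `x ⊗ y` is `P`-torsion when `x` is `m`-torsion -/
theorem tmul_mem_torsionSub_left (hP : P.map ψ ≤ aI (k := k) (S := S) m) {x : X}
    (hx : x ∈ DRing.torsionSub m X) (y : Y) :
    ((x ⊗ₜ[k] y : X ⊗[k] Y) : TP ψ X Y) ∈ DRing.torsionSub P (TP ψ X Y) := by
  obtain ⟨c, hc⟩ := hx
  refine ⟨c, fun t ht => ?_⟩
  change GrSeg.act k R S X Y (ψ t) (x ⊗ₜ[k] y) = 0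
  apply act_left_eq_zero (m ^ c) x hc y
  have h1 : ψ t ∈ (P ^ c).map ψ := Ideal.mem_map_of_mem _ ht
  rw [Ideal.map_pow] at h1
  have h2 := Ideal.pow_right_mono hP c h1
  rwa [← Ideal.map_pow] at h2

theorem tmul_mem_torsionSub_right (hP : P.map ψ ≤ bI (k := k) (R := R) n) (x : X) {y : Y}
    (hy : y ∈ DRing.torsionSub n Y) :
    ((x ⊗ₜ[k] y : X ⊗[k] Y) : TP ψ X Y) ∈ DRing.torsionSub P (TP ψ X Y) := by
  obtain ⟨c, hc⟩ := hy
  refine ⟨c, fun t ht => ?_⟩
  change GrSeg.act k R S X Y (ψ t) (x ⊗ₜ[k] y) = 0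
  apply act_right_eq_zero (n ^ c) y hc x
  have h1 : ψ t ∈ (P ^ c).map ψ := Ideal.mem_map_of_mem _ ht
  rw [Ideal.map_pow] at h1
  have h2 := Ideal.pow_right_mono hP c h1
  rwa [← Ideal.map_pow] at h2

/-- the quotient map `X ⊗ Y → X/Γ_m X ⊗ Y/Γ_n Y`, `T`-linear -/
noncomputable abbrev qq : TP ψ X Y →ₗ[T] TP ψ (X ⧸ DRing.torsionSub m X) (Y ⧸ DRing.torsionSub n Y) :=
  tpMap ψ (DRing.torsionSub m X).mkQ (DRing.torsionSub n Y).mkQ

theorem qq_surjective : Function.Surjective (qq ψ (X := X) (Y := Y) m n) :=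
  kmap_surjective _ _ (Submodule.mkQ_surjective _) (Submodule.mkQ_surjective _)

/-- the kernel of `qq` is `P`-torsion -/
theorem ker_qq_le_torsionSub (hP : P.map ψ ≤ aI (k := k) (S := S) m ⊓ bI (k := k) (R := R) n) :
    LinearMap.ker (qq ψ (X := X) (Y := Y) m n) ≤ DRing.torsionSub P (TP ψ X Y) := by
  intro w hw
  have hw' : (w : X ⊗[k] Y) ∈ LinearMap.ker (kmap (k := k) (DRing.torsionSub m X).mkQ
      (DRing.torsionSub n Y).mkQ) := hw
  have h1 := ker_kmap_le_span _ _ (Submodule.mkQ_surjective _) (Submodule.mkQ_surjective _) hw'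
  let S0 : Submodule k (X ⊗[k] Y) :=
    { carrier := {v | (v : TP ψ X Y) ∈ DRing.torsionSub P (TP ψ X Y)}
      add_mem' := fun ha hb => (DRing.torsionSub P (TP ψ X Y)).add_mem ha hb
      zero_mem' := (DRing.torsionSub P (TP ψ X Y)).zero_mem
      smul_mem' := fun c v hv => by
        let v' : TP ψ X Y := v
        have h := (DRing.torsionSub P (TP ψ X Y)).smul_mem (algebraMap k T c)
          (show v' ∈ DRing.torsionSub P (TP ψ X Y) from hv)
        rw [algebraMap_smul] at h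
        exact h }
  have h2 : Submodule.span k {w : X ⊗[k] Y | ∃ x y, ((DRing.torsionSub m X).mkQ x = 0 ∨
      (DRing.torsionSub n Y).mkQ y = 0) ∧ w = x ⊗ₜ[k] y} ≤ S0 := by
    rw [Submodule.span_le]
    rintro _ ⟨x, y, hxy, rfl⟩
    rcases hxy with hx | hy
    · rw [Submodule.mkQ_apply, Submodule.Quotient.mk_eq_zero] at hx
      exact tmul_mem_torsionSub_left ψ m P (hP.trans inf_le_left) hx y
    · rw [Submodule.mkQ_apply, Submodule.Quotient.mk_eq_zero] at hy
      exact tmul_mem_torsionSub_right ψ n P (hP.trans inf_le_right) x hy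
  exact h2 h1

variable [IsNoetherianRing R] [IsNoetherianRing S] [IsNoetherianRing T]
  [IsNoetherianRing (R ⊗[k] S)]

/-- hypotheses on the three ideals -/
structure IdealHyp : Prop where
  le : P.map ψ ≤ aI (k := k) (S := S) m ⊓ bI (k := k) (R := R) n
  mul_le : aI (k := k) (S := S) m * bI (k := k) (R := R) n ≤ (P.map ψ).radical

variable {ψ m n P} (hI : IdealHyp ψ m n P)
  (hX : ∀ j, Subsingleton (LocCoh.H m (j + 1) X)) (hY : ∀ j, Subsingleton (LocCoh.H n (j + 1) Y))

include hI hX hY in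
/-- all the local cohomology of `X/Γ_m X ⊗ Y/Γ_n Y` vanishes -/
theorem subsingleton_H_TP_quot (i : ℕ) :
    Subsingleton (LocCoh.H P i
      (TP ψ (X ⧸ DRing.torsionSub m X) (Y ⧸ DRing.torsionSub n Y))) :=
  lemmaL ψ _ _ m n P hI.le hI.mul_le (subsingleton_H_quot_torsion m X hX)
    (subsingleton_H_quot_torsion n Y hY) i

include hI hX hY in
/-- the `P`-torsion of `X ⊗ Y` is the kernel of `X ⊗ Y → X/Γ_m X ⊗ Y/Γ_n Y` -/
theorem torsionSub_TP_eq : DRing.torsionSub P (TP ψ X Y) = LinearMap.ker (qq ψ (X := X) (Y := Y) m n) := by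
  apply le_antisymm _ (ker_qq_le_torsionSub ψ m n P hI.le)
  intro w hw
  have h0 := Groth.Agent.H2.LCExtVanish.torsionSub_eq_bot_of_subsingleton_H0 P _
    (subsingleton_H_TP_quot hI hX hY 0)
  have h1 := DRing.map_mem_torsionSub P (qq ψ (X := X) (Y := Y) m n) hw
  rw [h0] at h1
  exact h1

include hI hX hY in
/-- `X ⊗ Y` is `Γ_P`-acyclic -/
theorem subsingleton_H_TP (j : ℕ) : Subsingleton (LocCoh.H P (j + 1) (TP ψ X Y)) := by
  have hS := shortExact_of (LinearMap.ker (qq ψ (X := X) (Y := Y) m n)).subtype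
    (qq ψ (X := X) (Y := Y) m n) (Submodule.injective_subtype _) (qq_surjective ψ m n)
    (LinearMap.exact_subtype_ker_map _)
  refine subsingleton_mid P hS (j + 1) ?_ (subsingleton_H_TP_quot hI hX hY (j + 1))
  apply subsingleton_of_isPowerTorsion P j
  rintro ⟨w, hw⟩
  obtain ⟨c, hc⟩ := ker_qq_le_torsionSub ψ m n P hI.le hw
  exact ⟨c, fun t ht => Subtype.ext (hc t ht)⟩

end Main

end Groth.Agent.H81.Seg
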