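import Mathlib
import Groth.Agent.H81.Seg.Act
import Groth.Agent.H98.Segre2
import Groth.Prelude.Def_GrLC

set_option autoImplicit false
set_option linter.unusedSectionVars false
universe u

/-!
# The Segre product `X # Y` inside `X ⊗[k] Y` as a graded `T`-module

* `Dk` : the `k`-linear projection of `X ⊗ Y` on its diagonal part `⊕_n X_n ⊗ Y_n`
  (kernel: the off-diagonal part);
* `DT` : the same as a `T`-linear endomorphism of `TP ψ X Y`;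
* `seg` : the diagonal part as a `T`-submodule of `TP ψ X Y`, `segGr` its pieces, `segG` the
  bundled graded `T`-module.
-/

namespace Groth.Agent.H81.Seg

open scoped TensorProduct
open Groth.Agent.H98

section Internal

/-- a family of additive subgroups with compatible projections is an internal direct sum -/
theorem isInternal_of_proj {G : Type*} [AddCommGroup G] (𝒢 : ℤ → AddSubgroup G) (p : ℤ → G →+ G)
    (h1 : ∀ i x, p i x ∈ 𝒢 i) (h2 : ∀ i x, x ∈ 𝒢 i → p i x = x)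
    (h3 : ∀ i j x, x ∈ 𝒢 j → j ≠ i → p i x = 0)
    (h4 : ∀ x, ∃ F : Finset ℤ, x = ∑ i ∈ F, p i x) : DirectSum.IsInternal 𝒢 := by
  classical
  constructor
  · rw [injective_iff_map_eq_zero]
    intro X hX
    ext j
    have key : p j (DirectSum.coeAddMonoidHom 𝒢 X) = (X j : G) := by
      conv_lhs => rw [← DirectSum.sum_support_of X]
      rw [map_sum, map_sum]
      simp_rw [DirectSum.coeAddMonoidHom_of]
      by_cases hj : j ∈ DFinsupp.support X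
      · rw [Finset.sum_eq_single j]
        · exact h2 j _ (X j).2
        · intro i _ hij
          exact h3 j i _ (X i).2 hij
        · intro h
          exact absurd hj h
      · rw [Finset.sum_eq_zero]
        · rw [DFinsupp.notMem_support_iff] at hj
          rw [hj]
          rfl
        · intro i hi
          have : i ≠ j := fun h => hj (h ▸ hi)
          exact h3 j i _ (X i).2 this
    rw [hX, map_zero] at key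
    rw [DirectSum.zero_apply, ZeroMemClass.coe_zero]
    exact key.symm
  · intro x
    obtain ⟨F, hF⟩ := h4 x
    refine ⟨∑ i ∈ F, DirectSum.of (fun i => 𝒢 i) i ⟨p i x, h1 i x⟩, ?_⟩
    rw [map_sum]
    simp_rw [DirectSum.coeAddMonoidHom_of]
    exact hF.symm

end Internal

section Diag

variable {k : Type u} [Field k] {R S T : Type u} [CommRing R] [CommRing S] [CommRing T]
  [Algebra k R] [Algebra k S] [Algebra k T]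
  (𝒜 : ℤ → Submodule k R) [GradedAlgebra 𝒜] (ℬ : ℤ → Submodule k S) [GradedAlgebra ℬ]
variable {X Y : Type u} [AddCommGroup X] [Module R X] [Module k X] [IsScalarTower k R X]
  [AddCommGroup Y] [Module S Y] [Module k Y] [IsScalarTower k S Y]
  (𝒳 : ℤ → AddSubgroup X) [DirectSum.Decomposition 𝒳] [SetLike.GradedSMul 𝒜 𝒳]
  (𝒴 : ℤ → AddSubgroup Y) [DirectSum.Decomposition 𝒴] [SetLike.GradedSMul ℬ 𝒴]

include 𝒜 in
theorem hk (c : k) (i : ℤ) (x : X) (hx : x ∈ 𝒳 i) : c • x ∈ 𝒳 i :=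
  smul_mem_piece 𝒜 𝒳 c i x hx

include 𝒜 ℬ in
theorem isCompl_diag_off : IsCompl (diagPart (k := k) 𝒳 𝒴) (offPart (k := k) 𝒳 𝒴) :=
  ⟨diag_disjoint_off 𝒳 𝒴 (hk 𝒜 𝒳) (hk ℬ 𝒴), codisjoint_iff.mpr (diag_sup_off 𝒳 𝒴 (hk 𝒜 𝒳) (hk ℬ 𝒴))⟩

/-- the `k`-linear projection on the diagonal part -/
noncomputable def Dk : X ⊗[k] Y →ₗ[k] X ⊗[k] Y :=
  (diagPart (k := k) 𝒳 𝒴).subtype ∘ₗ
    Submodule.projectionOnto _ _ (isCompl_diag_off 𝒜 ℬ 𝒳 𝒴)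

theorem Dk_mem (w : X ⊗[k] Y) : Dk 𝒜 ℬ 𝒳 𝒴 w ∈ diagPart (k := k) 𝒳 𝒴 :=
  Submodule.coe_mem _

theorem Dk_of_mem_diag {w : X ⊗[k] Y} (hw : w ∈ diagPart (k := k) 𝒳 𝒴) : Dk 𝒜 ℬ 𝒳 𝒴 w = w := by
  unfold Dk
  rw [LinearMap.comp_apply, Submodule.subtype_apply]
  exact congrArg Subtype.val
    (Submodule.projectionOnto_apply_left (isCompl_diag_off 𝒜 ℬ 𝒳 𝒴) ⟨w, hw⟩)

theorem Dk_of_mem_off {w : X ⊗[k] Y} (hw : w ∈ offPart (k := k) 𝒳 𝒴) : Dk 𝒜 ℬ 𝒳 𝒴 w = 0 := by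
  unfold Dk
  rw [LinearMap.comp_apply, Submodule.subtype_apply]
  have := (Submodule.projectionOnto_apply_eq_zero_iff (isCompl_diag_off 𝒜 ℬ 𝒳 𝒴)).mpr hw
  rw [this]
  rfl

theorem Dk_Dk (w : X ⊗[k] Y) : Dk 𝒜 ℬ 𝒳 𝒴 (Dk 𝒜 ℬ 𝒳 𝒴 w) = Dk 𝒜 ℬ 𝒳 𝒴 w :=
  Dk_of_mem_diag 𝒜 ℬ 𝒳 𝒴 (Dk_mem 𝒜 ℬ 𝒳 𝒴 w)

/-- `w - Δ w` is off-diagonal -/
theorem sub_Dk_mem_off (w : X ⊗[k] Y) : w - Dk 𝒜 ℬ 𝒳 𝒴 w ∈ offPart (k := k) 𝒳 𝒴 := by
  have htop : w ∈ diagPart (k := k) 𝒳 𝒴 ⊔ offPart (k := k) 𝒳 𝒴 := by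
    rw [diag_sup_off 𝒳 𝒴 (hk 𝒜 𝒳) (hk ℬ 𝒴)]
    trivial
  obtain ⟨a, ha, b, hb, rfl⟩ := Submodule.mem_sup.mp htop
  rw [map_add, Dk_of_mem_diag 𝒜 ℬ 𝒳 𝒴 ha, Dk_of_mem_off 𝒜 ℬ 𝒳 𝒴 hb, add_zero, add_sub_cancel_left]
  exact hb

/-- a `k`-linear map preserving the diagonal and the off-diagonal parts commutes with `Δ` -/
theorem Dk_comm {X' Y' : Type u} [AddCommGroup X'] [Module R X'] [Module k X']
    [IsScalarTower k R X'] [AddCommGroup Y'] [Module S Y'] [Module k Y'] [IsScalarTower k S Y']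
    (𝒳' : ℤ → AddSubgroup X') [DirectSum.Decomposition 𝒳'] [SetLike.GradedSMul 𝒜 𝒳']
    (𝒴' : ℤ → AddSubgroup Y') [DirectSum.Decomposition 𝒴'] [SetLike.GradedSMul ℬ 𝒴']
    (F : X ⊗[k] Y →ₗ[k] X' ⊗[k] Y')
    (hd : ∀ w ∈ diagPart (k := k) 𝒳 𝒴, F w ∈ diagPart (k := k) 𝒳' 𝒴')
    (ho : ∀ w ∈ offPart (k := k) 𝒳 𝒴, F w ∈ offPart (k := k) 𝒳' 𝒴') (w : X ⊗[k] Y) :
    F (Dk 𝒜 ℬ 𝒳 𝒴 w) = Dk 𝒜 ℬ 𝒳' 𝒴' (F w) := by
  have h1 : F w = F (Dk 𝒜 ℬ 𝒳 𝒴 w) + F (w - Dk 𝒜 ℬ 𝒳 𝒴 w) := by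
    rw [← map_add, add_sub_cancel]
  rw [h1, map_add, Dk_of_mem_diag 𝒜 ℬ 𝒳' 𝒴' (hd _ (Dk_mem 𝒜 ℬ 𝒳 𝒴 w)),
    Dk_of_mem_off 𝒜 ℬ 𝒳' 𝒴' (ho _ (sub_Dk_mem_off 𝒜 ℬ 𝒳 𝒴 w)), add_zero]

/-- the diagonal part of the ring acts on the diagonal part -/
theorem act_diag_diag (a : R ⊗[k] S) (ha : a ∈ diagPart (k := k) 𝒜 ℬ)
    (e : X ⊗[k] Y) (he : e ∈ diagPart (k := k) 𝒳 𝒴) :
    GrSeg.act k R S X Y a e ∈ diagPart (k := k) 𝒳 𝒴 := by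
  induction ha using Submodule.span_induction with
  | mem w hw =>
    obtain ⟨i, r, hr, s, hs, rfl⟩ := hw
    induction he using Submodule.span_induction with
    | mem v hv =>
      obtain ⟨n, m, hm, y, hy, rfl⟩ := hv
      rw [GrSeg.act_tmul]
      refine Submodule.subset_span ⟨i + n, r • m, ?_, s • y, ?_, rfl⟩
      · exact SetLike.GradedSMul.smul_mem (A := 𝒜) (B := 𝒳) hr hm
      · exact SetLike.GradedSMul.smul_mem (A := ℬ) (B := 𝒴) hs hy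
    | zero => rw [map_zero]; exact Submodule.zero_mem _
    | add x y _ _ hx hy => rw [map_add]; exact Submodule.add_mem _ hx hy
    | smul c x _ hx => rw [map_smul]; exact Submodule.smul_mem _ c hx
  | zero => rw [map_zero, LinearMap.zero_apply]; exact Submodule.zero_mem _
  | add x y _ _ hx hy => rw [map_add, LinearMap.add_apply]; exact Submodule.add_mem _ hx hy
  | smul c x _ hx => rw [map_smul, LinearMap.smul_apply]; exact Submodule.smul_mem _ c hx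

/-- the diagonal part of the ring acts on the off-diagonal part -/
theorem act_diag_off (a : R ⊗[k] S) (ha : a ∈ diagPart (k := k) 𝒜 ℬ)
    (e : X ⊗[k] Y) (he : e ∈ offPart (k := k) 𝒳 𝒴) :
    GrSeg.act k R S X Y a e ∈ offPart (k := k) 𝒳 𝒴 := by
  induction ha using Submodule.span_induction with
  | mem w hw =>
    obtain ⟨i, r, hr, s, hs, rfl⟩ := hw
    induction he using Submodule.span_induction with
    | mem v hv =>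
      obtain ⟨n, n', hnn', m, hm, y, hy, rfl⟩ := hv
      rw [GrSeg.act_tmul]
      refine Submodule.subset_span ⟨i + n, i + n', fun h => hnn' (by omega), r • m, ?_, s • y, ?_, rfl⟩
      · exact SetLike.GradedSMul.smul_mem (A := 𝒜) (B := 𝒳) hr hm
      · exact SetLike.GradedSMul.smul_mem (A := ℬ) (B := 𝒴) hs hy
    | zero => rw [map_zero]; exact Submodule.zero_mem _
    | add x y _ _ hx hy => rw [map_add]; exact Submodule.add_mem _ hx hy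
    | smul c x _ hx => rw [map_smul]; exact Submodule.smul_mem _ c hx
  | zero => rw [map_zero, LinearMap.zero_apply]; exact Submodule.zero_mem _
  | add x y _ _ hx hy => rw [map_add, LinearMap.add_apply]; exact Submodule.add_mem _ hx hy
  | smul c x _ hx => rw [map_smul, LinearMap.smul_apply]; exact Submodule.smul_mem _ c hx

omit [Module R X] [IsScalarTower k R X] [Module S Y] [IsScalarTower k S Y] in
theorem segrePiece_le_diag {σ τ : Type u} [SetLike σ X] [AddSubgroupClass σ X] [SetLike τ Y]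
    [AddSubgroupClass τ Y] (𝒳 : ℤ → σ) (𝒴 : ℤ → τ) (n : ℤ) :
    GrSeg.segrePiece k 𝒳 𝒴 n ≤ diagPart (k := k) 𝒳 𝒴 := by
  apply Submodule.span_mono
  rintro _ ⟨a, ha, b, hb, rfl⟩
  exact ⟨n, a, ha, b, hb, rfl⟩

variable (𝒯 : ℤ → Submodule k T) [GradedAlgebra 𝒯] {ψ : T →ₐ[k] R ⊗[k] S}
  (hT : GrSeg.IsSegreRing 𝒜 ℬ 𝒯 ψ)

include hT in
theorem psi_mem_piece {n : ℤ} {t : T} (ht : t ∈ 𝒯 n) : ψ t ∈ GrSeg.segrePiece k 𝒜 ℬ n := by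
  rw [← hT.2 n]
  exact ⟨t, ht, rfl⟩

include hT in
theorem psi_mem_diag (t : T) : ψ t ∈ diagPart (k := k) 𝒜 ℬ := by
  induction t using DirectSum.Decomposition.inductionOn 𝒯 with
  | zero => rw [map_zero]; exact Submodule.zero_mem _
  | @homogeneous n t => exact segrePiece_le_diag 𝒜 ℬ n (psi_mem_piece 𝒜 ℬ 𝒯 hT t.2)
  | add a b ha hb => rw [map_add]; exact Submodule.add_mem _ ha hb

/-- the `T`-linear projection on the diagonal part -/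
noncomputable def DT : TP ψ X Y →ₗ[T] TP ψ X Y where
  toFun w := Dk 𝒜 ℬ 𝒳 𝒴 w
  map_add' a b := map_add (Dk 𝒜 ℬ 𝒳 𝒴) a b
  map_smul' t w := by
    change Dk 𝒜 ℬ 𝒳 𝒴 (GrSeg.act k R S X Y (ψ t) w) = GrSeg.act k R S X Y (ψ t) (Dk 𝒜 ℬ 𝒳 𝒴 w)
    exact (Dk_comm 𝒜 ℬ 𝒳 𝒴 𝒳 𝒴 (GrSeg.act k R S X Y (ψ t))
      (fun e he => act_diag_diag 𝒜 ℬ 𝒳 𝒴 _ (psi_mem_diag 𝒜 ℬ 𝒯 hT t) e he)
      (fun e he => act_diag_off 𝒜 ℬ 𝒳 𝒴 _ (psi_mem_diag 𝒜 ℬ 𝒯 hT t) e he) w).symm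

theorem DT_apply (w : TP ψ X Y) : DT 𝒜 ℬ 𝒳 𝒴 𝒯 hT w = Dk 𝒜 ℬ 𝒳 𝒴 w := rfl

/-- the Segre product `X # Y` as a `T`-submodule of `TP ψ X Y` -/
def seg : Submodule T (TP ψ X Y) where
  carrier := {w | (w : X ⊗[k] Y) ∈ diagPart (k := k) 𝒳 𝒴}
  add_mem' ha hb := (diagPart (k := k) 𝒳 𝒴).add_mem ha hb
  zero_mem' := (diagPart (k := k) 𝒳 𝒴).zero_mem
  smul_mem' t w hw := act_diag_diag 𝒜 ℬ 𝒳 𝒴 _ (psi_mem_diag 𝒜 ℬ 𝒯 hT t) w hw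

theorem mem_seg {w : TP ψ X Y} :
    w ∈ seg 𝒜 ℬ 𝒳 𝒴 𝒯 hT ↔ (w : X ⊗[k] Y) ∈ diagPart (k := k) 𝒳 𝒴 := Iff.rfl

theorem DT_mem (w : TP ψ X Y) : DT 𝒜 ℬ 𝒳 𝒴 𝒯 hT w ∈ seg 𝒜 ℬ 𝒳 𝒴 𝒯 hT := Dk_mem 𝒜 ℬ 𝒳 𝒴 w

theorem DT_of_mem {w : TP ψ X Y} (hw : w ∈ seg 𝒜 ℬ 𝒳 𝒴 𝒯 hT) : DT 𝒜 ℬ 𝒳 𝒴 𝒯 hT w = w :=
  Dk_of_mem_diag 𝒜 ℬ 𝒳 𝒴 hw

/-- the retraction of `TP ψ X Y` onto `X # Y` -/
noncomputable def retr : TP ψ X Y →ₗ[T] seg 𝒜 ℬ 𝒳 𝒴 𝒯 hT :=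
  (DT 𝒜 ℬ 𝒳 𝒴 𝒯 hT).codRestrict _ (DT_mem 𝒜 ℬ 𝒳 𝒴 𝒯 hT)

theorem retr_subtype (w : seg 𝒜 ℬ 𝒳 𝒴 𝒯 hT) : retr 𝒜 ℬ 𝒳 𝒴 𝒯 hT w.1 = w :=
  Subtype.ext (DT_of_mem 𝒜 ℬ 𝒳 𝒴 𝒯 hT w.2)

/-! ### the pieces -/

theorem bproj_mem_piece (d : ℤ) (w : X ⊗[k] Y) :
    bproj 𝒳 𝒴 (hk 𝒜 𝒳) (hk ℬ 𝒴) d d w ∈ GrSeg.segrePiece k 𝒳 𝒴 d := by
  induction w using TensorProduct.induction_on with
  | zero => rw [map_zero]; exact Submodule.zero_mem _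
  | tmul x y =>
    rw [bproj, TensorProduct.map_tmul]
    exact Submodule.subset_span ⟨_, gproj_mem 𝒳 (hk 𝒜 𝒳) d x, _, gproj_mem 𝒴 (hk ℬ 𝒴) d y, rfl⟩
  | add a b ha hb => rw [map_add]; exact Submodule.add_mem _ ha hb

theorem bproj_of_mem_piece {d : ℤ} {w : X ⊗[k] Y} (hw : w ∈ GrSeg.segrePiece k 𝒳 𝒴 d) :
    bproj 𝒳 𝒴 (hk 𝒜 𝒳) (hk ℬ 𝒴) d d w = w := by
  induction hw using Submodule.span_induction with
  | mem v hv =>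
    obtain ⟨a, ha, b, hb, rfl⟩ := hv
    rw [bproj, TensorProduct.map_tmul, gproj_of_mem_same 𝒳 (hk 𝒜 𝒳) ha,
      gproj_of_mem_same 𝒴 (hk ℬ 𝒴) hb]
  | zero => exact map_zero _
  | add x y _ _ hx hy => rw [map_add, hx, hy]
  | smul c x _ hx => rw [map_smul, hx]

theorem bproj_of_mem_piece_ne {d e : ℤ} (hde : e ≠ d) {w : X ⊗[k] Y}
    (hw : w ∈ GrSeg.segrePiece k 𝒳 𝒴 e) : bproj 𝒳 𝒴 (hk 𝒜 𝒳) (hk ℬ 𝒴) d d w = 0 := by
  induction hw using Submodule.span_induction with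
  | mem v hv =>
    obtain ⟨a, ha, b, hb, rfl⟩ := hv
    rw [bproj, TensorProduct.map_tmul, gproj_of_mem_ne 𝒳 (hk 𝒜 𝒳) ha hde, TensorProduct.zero_tmul]
  | zero => exact map_zero _
  | add x y _ _ hx hy => rw [map_add, hx, hy, add_zero]
  | smul c x _ hx => rw [map_smul, hx, smul_zero]

/-- a diagonal element is the finite sum of its `(d, d)`-components -/
theorem exists_finset_diag {w : X ⊗[k] Y} (hw : w ∈ diagPart (k := k) 𝒳 𝒴) :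
    ∃ F : Finset ℤ, w = ∑ d ∈ F, bproj 𝒳 𝒴 (hk 𝒜 𝒳) (hk ℬ 𝒴) d d w := by
  classical
  obtain ⟨F, -, hF⟩ := exists_finset_bproj 𝒳 𝒴 (hk 𝒜 𝒳) (hk ℬ 𝒴) w
  refine ⟨(F.filter (fun ij => ij.1 = ij.2)).image Prod.fst, ?_⟩
  rw [Finset.sum_image]
  · conv_lhs => rw [hF]
    rw [← Finset.sum_filter_add_sum_filter_not F (fun ij => ij.1 = ij.2)]
    have h0 : ∑ ij ∈ F.filter (fun ij => ¬ ij.1 = ij.2),
        bproj 𝒳 𝒴 (hk 𝒜 𝒳) (hk ℬ 𝒴) ij.1 ij.2 w = 0 := by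
      apply Finset.sum_eq_zero
      intro ij hij
      exact bproj_diag 𝒳 𝒴 (hk 𝒜 𝒳) (hk ℬ 𝒴) hw (Finset.mem_filter.mp hij).2
    rw [h0, add_zero]
    apply Finset.sum_congr rfl
    intro ij hij
    rw [← (Finset.mem_filter.mp hij).2]
  · intro a ha b hb hab
    have ha' := (Finset.mem_filter.mp ha).2
    have hb' := (Finset.mem_filter.mp hb).2
    exact Prod.ext hab (by rw [← ha', ← hb', hab])

/-- the homogeneous pieces of `X # Y` -/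
def segGr (d : ℤ) : AddSubgroup (seg 𝒜 ℬ 𝒳 𝒴 𝒯 hT) where
  carrier := {w | ((w : TP ψ X Y) : X ⊗[k] Y) ∈ GrSeg.segrePiece k 𝒳 𝒴 d}
  add_mem' ha hb := (GrSeg.segrePiece k 𝒳 𝒴 d).add_mem ha hb
  zero_mem' := (GrSeg.segrePiece k 𝒳 𝒴 d).zero_mem
  neg_mem' ha := (GrSeg.segrePiece k 𝒳 𝒴 d).neg_mem ha

theorem mem_segGr {d : ℤ} {w : seg 𝒜 ℬ 𝒳 𝒴 𝒯 hT} :
    w ∈ segGr 𝒜 ℬ 𝒳 𝒴 𝒯 hT d ↔ ((w : TP ψ X Y) : X ⊗[k] Y) ∈ GrSeg.segrePiece k 𝒳 𝒴 d :=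
  Iff.rfl

/-- the projection on the `d`-th piece -/
noncomputable def segProj (d : ℤ) : seg 𝒜 ℬ 𝒳 𝒴 𝒯 hT →+ seg 𝒜 ℬ 𝒳 𝒴 𝒯 hT where
  toFun w := ⟨(bproj 𝒳 𝒴 (hk 𝒜 𝒳) (hk ℬ 𝒴) d d (w.1 : X ⊗[k] Y) : X ⊗[k] Y),
    segrePiece_le_diag 𝒳 𝒴 d (bproj_mem_piece 𝒜 ℬ 𝒳 𝒴 d _)⟩
  map_zero' := Subtype.ext (map_zero _)
  map_add' a b := Subtype.ext (map_add (bproj 𝒳 𝒴 (hk 𝒜 𝒳) (hk ℬ 𝒴) d d) a.1 b.1)

theorem segGr_isInternal : DirectSum.IsInternal (segGr 𝒜 ℬ 𝒳 𝒴 𝒯 hT) := by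
  refine isInternal_of_proj _ (segProj 𝒜 ℬ 𝒳 𝒴 𝒯 hT) ?_ ?_ ?_ ?_
  · intro d w
    exact bproj_mem_piece 𝒜 ℬ 𝒳 𝒴 d _
  · intro d w hw
    exact Subtype.ext (bproj_of_mem_piece 𝒜 ℬ 𝒳 𝒴 hw)
  · intro d e w hw hed
    exact Subtype.ext (bproj_of_mem_piece_ne 𝒜 ℬ 𝒳 𝒴 hed hw)
  · intro w
    obtain ⟨F, hF⟩ := exists_finset_diag 𝒜 ℬ 𝒳 𝒴 w.2
    refine ⟨F, Subtype.ext ?_⟩
    rw [AddSubmonoidClass.coe_finsetSum]
    exact hF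

/-- the decomposition of `X # Y` -/
@[reducible] noncomputable def segDec : DirectSum.Decomposition (segGr 𝒜 ℬ 𝒳 𝒴 𝒯 hT) :=
  (segGr_isInternal 𝒜 ℬ 𝒳 𝒴 𝒯 hT).chooseDecomposition

theorem segGradedSMul : SetLike.GradedSMul 𝒯 (segGr 𝒜 ℬ 𝒳 𝒴 𝒯 hT) where
  smul_mem := by
    intro i j t w ht hw
    rw [vadd_eq_add, add_comm]
    exact act_segrePiece_mem 𝒜 ℬ 𝒳 𝒴 i j (ψ t) (psi_mem_piece 𝒜 ℬ 𝒯 hT ht) _ hw

/-- the Segre product as a bundled graded `T`-module -/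
noncomputable def segG : GrLC.GMod.{u} 𝒯 :=
  letI := segDec 𝒜 ℬ 𝒳 𝒴 𝒯 hT
  letI := segGradedSMul 𝒜 ℬ 𝒳 𝒴 𝒯 hT
  { carrier := seg 𝒜 ℬ 𝒳 𝒴 𝒯 hT
    gr := segGr 𝒜 ℬ 𝒳 𝒴 𝒯 hT }

end Diag

section Functorial

variable {k : Type u} [Field k] {R S T : Type u} [CommRing R] [CommRing S] [CommRing T]
  [Algebra k R] [Algebra k S] [Algebra k T]
  (𝒜 : ℤ → Submodule k R) [GradedAlgebra 𝒜] (ℬ : ℤ → Submodule k S) [GradedAlgebra ℬ]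
variable {X Y : Type u} [AddCommGroup X] [Module R X] [Module k X] [IsScalarTower k R X]
  [AddCommGroup Y] [Module S Y] [Module k Y] [IsScalarTower k S Y]
  (𝒳 : ℤ → AddSubgroup X) [DirectSum.Decomposition 𝒳] [SetLike.GradedSMul 𝒜 𝒳]
  (𝒴 : ℤ → AddSubgroup Y) [DirectSum.Decomposition 𝒴] [SetLike.GradedSMul ℬ 𝒴]
variable {X' Y' : Type u} [AddCommGroup X'] [Module R X'] [Module k X'] [IsScalarTower k R X']
  [AddCommGroup Y'] [Module S Y'] [Module k Y'] [IsScalarTower k S Y']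
  (𝒳' : ℤ → AddSubgroup X') [DirectSum.Decomposition 𝒳'] [SetLike.GradedSMul 𝒜 𝒳']
  (𝒴' : ℤ → AddSubgroup Y') [DirectSum.Decomposition 𝒴'] [SetLike.GradedSMul ℬ 𝒴']
variable (f : X →ₗ[R] X') (g : Y →ₗ[S] Y') (hf : GrLC.IsGrHom 𝒳 𝒳' f) (hg : GrLC.IsGrHom 𝒴 𝒴' g)

include hf hg in
theorem kmap_mem_piece {d : ℤ} {w : X ⊗[k] Y} (hw : w ∈ GrSeg.segrePiece k 𝒳 𝒴 d) :
    kmap (k := k) f g w ∈ GrSeg.segrePiece k 𝒳' 𝒴' d := by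
  induction hw using Submodule.span_induction with
  | mem v hv =>
    obtain ⟨a, ha, b, hb, rfl⟩ := hv
    rw [kmap_tmul]
    exact Submodule.subset_span ⟨_, hf d a ha, _, hg d b hb, rfl⟩
  | zero => rw [map_zero]; exact Submodule.zero_mem _
  | add x y _ _ hx hy => rw [map_add]; exact Submodule.add_mem _ hx hy
  | smul c x _ hx => rw [map_smul]; exact Submodule.smul_mem _ c hx

include hf hg in
theorem kmap_mem_diag {w : X ⊗[k] Y} (hw : w ∈ diagPart (k := k) 𝒳 𝒴) :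
    kmap (k := k) f g w ∈ diagPart (k := k) 𝒳' 𝒴' := by
  induction hw using Submodule.span_induction with
  | mem v hv =>
    obtain ⟨n, a, ha, b, hb, rfl⟩ := hv
    rw [kmap_tmul]
    exact Submodule.subset_span ⟨n, _, hf n a ha, _, hg n b hb, rfl⟩
  | zero => rw [map_zero]; exact Submodule.zero_mem _
  | add x y _ _ hx hy => rw [map_add]; exact Submodule.add_mem _ hx hy
  | smul c x _ hx => rw [map_smul]; exact Submodule.smul_mem _ c hx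

include hf hg in
theorem kmap_mem_off {w : X ⊗[k] Y} (hw : w ∈ offPart (k := k) 𝒳 𝒴) :
    kmap (k := k) f g w ∈ offPart (k := k) 𝒳' 𝒴' := by
  induction hw using Submodule.span_induction with
  | mem v hv =>
    obtain ⟨n, n', hnn', a, ha, b, hb, rfl⟩ := hv
    rw [kmap_tmul]
    exact Submodule.subset_span ⟨n, n', hnn', _, hf n a ha, _, hg n' b hb, rfl⟩
  | zero => rw [map_zero]; exact Submodule.zero_mem _
  | add x y _ _ hx hy => rw [map_add]; exact Submodule.add_mem _ hx hy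
  | smul c x _ hx => rw [map_smul]; exact Submodule.smul_mem _ c hx

include hf hg in
/-- graded maps commute with the diagonal projection -/
theorem kmap_Dk (w : X ⊗[k] Y) :
    kmap (k := k) f g (Dk 𝒜 ℬ 𝒳 𝒴 w) = Dk 𝒜 ℬ 𝒳' 𝒴' (kmap (k := k) f g w) :=
  Dk_comm 𝒜 ℬ 𝒳 𝒴 𝒳' 𝒴' (kmap (k := k) f g)
    (fun _ h => kmap_mem_diag 𝒳 𝒴 𝒳' 𝒴' f g hf hg h)
    (fun _ h => kmap_mem_off 𝒳 𝒴 𝒳' 𝒴' f g hf hg h) w

include hf hg in
/-- graded maps commute with the bigraded projections -/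
theorem kmap_bproj (i j : ℤ) (w : X ⊗[k] Y) :
    kmap (k := k) f g (bproj 𝒳 𝒴 (hk 𝒜 𝒳) (hk ℬ 𝒴) i j w) =
      bproj 𝒳' 𝒴' (hk 𝒜 𝒳') (hk ℬ 𝒴') i j (kmap (k := k) f g w) := by
  induction w using TensorProduct.induction_on with
  | zero => simp
  | add a b ha hb => rw [map_add, map_add, ha, hb, map_add, map_add]
  | tmul x y =>
    rw [bproj, TensorProduct.map_tmul, kmap_tmul, kmap_tmul, bproj, TensorProduct.map_tmul]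
    congr 1
    · rw [gproj_apply, gproj_apply]
      have := decompose_map_shift 𝒳 𝒳' (f : X →+ X') 0 (fun i x hx => by simpa using hf i x hx) x i
      rw [add_zero] at this
      exact this.symm
    · rw [gproj_apply, gproj_apply]
      have := decompose_map_shift 𝒴 𝒴' (g : Y →+ Y') 0 (fun i x hx => by simpa using hg i x hx) y j
      rw [add_zero] at this
      exact this.symm

end Functorial

end Groth.Agent.H81.Seg
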