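import Mathlib
import Groth.Agent.H81.Seg.Acyc
import Groth.Agent.H81.Seg.Diag
import Groth.Agent.H98.SegreRingNoeth

set_option autoImplicit false
set_option linter.unusedSectionVars false
set_option linter.style.haveILetI false
universe u

/-!
# The irrelevant ideals of `R`, `S` and `T = R # S` satisfy the hypotheses of Lemma L
-/

namespace Groth.Agent.H81.Seg

open scoped TensorProduct

variable {k : Type u} [Field k] {R S T : Type u} [CommRing R] [CommRing S] [CommRing T]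
  [Algebra k R] [Algebra k S] [Algebra k T]
  (𝒜 : ℤ → Submodule k R) [GradedAlgebra 𝒜] (ℬ : ℤ → Submodule k S) [GradedAlgebra ℬ]
  (𝒯 : ℤ → Submodule k T) [GradedAlgebra 𝒯] {ψ : T →ₐ[k] R ⊗[k] S}
  (hT : GrSeg.IsSegreRing 𝒜 ℬ 𝒯 ψ)

/-- the irrelevant ideal -/
def irr {B : Type u} [CommRing B] [Algebra k B] (ℬ' : ℤ → Submodule k B) : Ideal B :=
  Ideal.span (⋃ n ∈ Set.Ioi (0 : ℤ), (ℬ' n : Set B))

theorem mem_irr {B : Type u} [CommRing B] [Algebra k B] (ℬ' : ℤ → Submodule k B) {n : ℤ}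
    (hn : 0 < n) {b : B} (hb : b ∈ ℬ' n) : b ∈ irr ℬ' :=
  Ideal.subset_span (Set.mem_iUnion₂.mpr ⟨n, hn, hb⟩)

include hT in
theorem idealHyp : IdealHyp ψ (irr 𝒜) (irr ℬ) (irr 𝒯) := by
  constructor
  · unfold irr
    rw [Ideal.map_span, Ideal.span_le]
    rintro _ ⟨t, ht, rfl⟩
    obtain ⟨n, hn, htn⟩ := Set.mem_iUnion₂.mp ht
    have h1 := psi_mem_piece 𝒜 ℬ 𝒯 hT htn
    have key : GrSeg.segrePiece k 𝒜 ℬ n ≤
        (aI (k := k) (S := S) (irr 𝒜) ⊓ bI (k := k) (R := R) (irr ℬ)).restrictScalars k := by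
      apply Submodule.span_le.mpr
      rintro _ ⟨a, ha, b, hb, rfl⟩
      have e : a ⊗ₜ[k] b = (a ⊗ₜ[k] (1 : S)) * ((1 : R) ⊗ₜ[k] b) := by
        rw [Algebra.TensorProduct.tmul_mul_tmul, mul_one, one_mul]
      constructor
      · change a ⊗ₜ[k] b ∈ aI (k := k) (S := S) (irr 𝒜)
        rw [e]
        exact Ideal.mul_mem_right _ _ (Ideal.mem_map_of_mem _ (mem_irr 𝒜 hn ha))
      · change a ⊗ₜ[k] b ∈ bI (k := k) (R := R) (irr ℬ)
        rw [e]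
        exact Ideal.mul_mem_left _ _ (Ideal.mem_map_of_mem _ (mem_irr ℬ hn hb))
    exact key h1
  · unfold aI bI irr
    rw [Ideal.map_span, Ideal.map_span, Ideal.span_mul_span', Ideal.span_le]
    rintro _ ⟨_, ⟨r, hr, rfl⟩, _, ⟨s, hs, rfl⟩, rfl⟩
    obtain ⟨i, hi, hri⟩ := Set.mem_iUnion₂.mp hr
    obtain ⟨j, hj, hsj⟩ := Set.mem_iUnion₂.mp hs
    have hi0 : (0 : ℤ) < i := hi
    have hj0 : (0 : ℤ) < j := hj
    change (r ⊗ₜ[k] (1 : S)) * ((1 : R) ⊗ₜ[k] s) ∈ (Ideal.map ψ (irr 𝒯)).radical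
    rw [Algebra.TensorProduct.tmul_mul_tmul, mul_one, one_mul]
    refine ⟨i.toNat + j.toNat, ?_⟩
    rw [Algebra.TensorProduct.tmul_pow, pow_add r, pow_add s, mul_comm (s ^ i.toNat),
      ← Algebra.TensorProduct.tmul_mul_tmul]
    apply Ideal.mul_mem_left
    have h1 : r ^ j.toNat ∈ 𝒜 (i * j) := by
      have := SetLike.pow_mem_graded (A := 𝒜) j.toNat hri
      rwa [nsmul_eq_mul, Int.toNat_of_nonneg hj0.le, mul_comm] at this
    have h2 : s ^ i.toNat ∈ ℬ (i * j) := by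
      have := SetLike.pow_mem_graded (A := ℬ) i.toNat hsj
      rwa [nsmul_eq_mul, Int.toNat_of_nonneg hi0.le] at this
    have h3 : (r ^ j.toNat) ⊗ₜ[k] (s ^ i.toNat) ∈ GrSeg.segrePiece k 𝒜 ℬ (i * j) :=
      Submodule.subset_span ⟨_, h1, _, h2, rfl⟩
    rw [← hT.2 (i * j)] at h3
    obtain ⟨t, ht, hte⟩ := h3
    have hte' : ψ t = (r ^ j.toNat) ⊗ₜ[k] (s ^ i.toNat) := hte
    rw [← hte']
    exact Ideal.mem_map_of_mem _ (mem_irr 𝒯 (mul_pos hi0 hj0) ht)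

end Groth.Agent.H81.Seg
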