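import Mathlib
import Groth.Agent.H81.Seg.Diag
import Groth.Agent.H81.Kun.Pi

set_option autoImplicit false
set_option linter.unusedSectionVars false
set_option linter.style.haveILetI false
universe u

/-!
# The total complex `Tot(C # D)` of two graded complexes, as a complex of graded `T`-modules
-/

namespace Groth.Agent.H81.Seg

open scoped TensorProduct
open Groth.Agent.H98 Groth.Agent.H81.Kun

/-- a complex of graded `R`-modules with compatible `k`-vector space structures -/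
structure GCx (k : Type u) [Field k] {R : Type u} [CommRing R] [Algebra k R]
    (𝒜 : ℤ → Submodule k R) [GradedAlgebra 𝒜] : Type (u + 1) where
  X : ℕ → Type u
  [acg : ∀ a, AddCommGroup (X a)]
  [modR : ∀ a, Module R (X a)]
  [modk : ∀ a, Module k (X a)]
  [tower : ∀ a, IsScalarTower k R (X a)]
  gr : ∀ a, ℤ → AddSubgroup (X a)
  [dec : ∀ a, DirectSum.Decomposition (gr a)]
  [gsmul : ∀ a, SetLike.GradedSMul 𝒜 (gr a)]
  d : ∀ a, X a →ₗ[R] X (a + 1)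
  d_gr : ∀ a, GrLC.IsGrHom (gr a) (gr (a + 1)) (d a)
  dd : ∀ a x, d (a + 1) (d a x) = 0

namespace GCx

variable {k : Type u} [Field k] {R : Type u} [CommRing R] [Algebra k R]
  {𝒜 : ℤ → Submodule k R} [GradedAlgebra 𝒜] (C : GCx k 𝒜)

instance (a : ℕ) : AddCommGroup (C.X a) := C.acg a
instance (a : ℕ) : Module R (C.X a) := C.modR a
instance (a : ℕ) : Module k (C.X a) := C.modk a
instance (a : ℕ) : IsScalarTower k R (C.X a) := C.tower a
instance (a : ℕ) : DirectSum.Decomposition (C.gr a) := C.dec a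
instance (a : ℕ) : SetLike.GradedSMul 𝒜 (C.gr a) := C.gsmul a

/-- the differential as a `k`-linear map -/
def dk (a : ℕ) : C.X a →ₗ[k] C.X (a + 1) := (C.d a).restrictScalars k

theorem dk_apply (a : ℕ) (x : C.X a) : C.dk a x = C.d a x := rfl

theorem dk_dk (a : ℕ) (x : C.X a) : C.dk (a + 1) (C.dk a x) = 0 := C.dd a x

end GCx

section Tot

variable {k : Type u} [Field k] {R S T : Type u} [CommRing R] [CommRing S] [CommRing T]
  [Algebra k R] [Algebra k S] [Algebra k T]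
  {𝒜 : ℤ → Submodule k R} [GradedAlgebra 𝒜] {ℬ : ℤ → Submodule k S} [GradedAlgebra ℬ]
  (C : GCx k 𝒜) (D : GCx k ℬ)
  (𝒯 : ℤ → Submodule k T) [GradedAlgebra 𝒯] {ψ : T →ₐ[k] R ⊗[k] S}
  (hT : GrSeg.IsSegreRing 𝒜 ℬ 𝒯 ψ)

/-- the terms of the full total complex, as `T`-modules -/
abbrev TT (ψ : T →ₐ[k] R ⊗[k] S) (n : ℕ) : Type u := ∀ p : Idx n, TP ψ (C.X p.1.1) (D.X p.1.2)

/-- the full total differential, `k`-linear -/
noncomputable abbrev Dk' (n : ℕ) : TotX k C.X D.X n →ₗ[k] TotX k C.X D.X (n + 1) :=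
  TotD C.dk D.dk n

theorem rTensor_eq_kmap (a b : ℕ) (t : C.X a ⊗[k] D.X b) :
    (C.dk a).rTensor (D.X b) t = kmap (k := k) (C.d a) (LinearMap.id : D.X b →ₗ[S] D.X b) t := rfl

theorem lTensor_eq_kmap (a b : ℕ) (t : C.X a ⊗[k] D.X b) :
    (D.dk b).lTensor (C.X a) t = kmap (k := k) (LinearMap.id : C.X a →ₗ[R] C.X a) (D.d b) t := rfl

/-- the full total differential is `T`-linear -/
noncomputable def DTot (n : ℕ) : TT C D ψ n →ₗ[T] TT C D ψ (n + 1) where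
  toFun w := Dk' C D n w
  map_add' a b := map_add (Dk' C D n) a b
  map_smul' t w := by
    have h := PiMap_TotD C.dk D.dk C.dk D.dk
      (fun a b => GrSeg.act k R S (C.X a) (D.X b) (ψ t))
      (fun a b x => by
        rw [rTensor_eq_kmap, rTensor_eq_kmap, kmap_act])
      (fun a b x => by
        rw [lTensor_eq_kmap, lTensor_eq_kmap, kmap_act]) n w
    exact h.symm

theorem DTot_apply (n : ℕ) (w : TT C D ψ n) : DTot C D (ψ := ψ) n w = Dk' C D n w := rfl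

theorem DTot_DTot (n : ℕ) (w : TT C D ψ n) : DTot C D (ψ := ψ) (n + 1) (DTot C D n w) = 0 :=
  TotD_TotD C.dk D.dk C.dk_dk D.dk_dk n w

/-- the componentwise diagonal projection, `T`-linear -/
noncomputable def DeltaT (n : ℕ) : TT C D ψ n →ₗ[T] TT C D ψ n :=
  LinearMap.pi fun p => DT 𝒜 ℬ (C.gr p.1.1) (D.gr p.1.2) 𝒯 hT ∘ₗ LinearMap.proj p

theorem DeltaT_apply (n : ℕ) (w : TT C D ψ n) (p : Idx n) :
    DeltaT C D 𝒯 hT n w p = Dk 𝒜 ℬ (C.gr p.1.1) (D.gr p.1.2) (w p) := rfl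

theorem DeltaT_eq_PiMap (n : ℕ) (w : TT C D ψ n) :
    DeltaT C D 𝒯 hT n w = PiMap (fun a b => Dk 𝒜 ℬ (C.gr a) (D.gr b)) n w := rfl

/-- the total differential commutes with the diagonal projection -/
theorem DTot_DeltaT (n : ℕ) (w : TT C D ψ n) :
    DTot C D (n := n) (DeltaT C D 𝒯 hT n w) = DeltaT C D 𝒯 hT (n + 1) (DTot C D n w) := by
  have h := PiMap_TotD C.dk D.dk C.dk D.dk (fun a b => Dk 𝒜 ℬ (C.gr a) (D.gr b))
    (fun a b x => by
      rw [rTensor_eq_kmap, rTensor_eq_kmap]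
      exact (kmap_Dk 𝒜 ℬ (C.gr a) (D.gr b) (C.gr (a + 1)) (D.gr b) (C.d a) LinearMap.id
        (C.d_gr a) (fun _ _ h => h) x).symm)
    (fun a b x => by
      rw [lTensor_eq_kmap, lTensor_eq_kmap]
      exact (kmap_Dk 𝒜 ℬ (C.gr a) (D.gr b) (C.gr a) (D.gr (b + 1)) LinearMap.id (D.d b)
        (fun _ _ h => h) (D.d_gr b) x).symm) n w
  exact h.symm

/-- the total complex of the Segre products: the diagonal part of the full total complex -/
def SegT (n : ℕ) : Submodule T (TT C D ψ n) where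
  carrier := {w | ∀ p, w p ∈ seg 𝒜 ℬ (C.gr p.1.1) (D.gr p.1.2) 𝒯 hT}
  add_mem' ha hb p := Submodule.add_mem _ (ha p) (hb p)
  zero_mem' _ := Submodule.zero_mem _
  smul_mem' t _ hw p := Submodule.smul_mem _ t (hw p)

theorem mem_SegT {n : ℕ} {w : TT C D ψ n} :
    w ∈ SegT C D 𝒯 hT n ↔ ∀ p, w p ∈ seg 𝒜 ℬ (C.gr p.1.1) (D.gr p.1.2) 𝒯 hT := Iff.rfl

theorem DeltaT_mem (n : ℕ) (w : TT C D ψ n) : DeltaT C D 𝒯 hT n w ∈ SegT C D 𝒯 hT n :=
  fun p => DT_mem 𝒜 ℬ (C.gr p.1.1) (D.gr p.1.2) 𝒯 hT (w p)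

theorem DeltaT_of_mem {n : ℕ} {w : TT C D ψ n} (hw : w ∈ SegT C D 𝒯 hT n) :
    DeltaT C D 𝒯 hT n w = w :=
  funext fun p => DT_of_mem 𝒜 ℬ (C.gr p.1.1) (D.gr p.1.2) 𝒯 hT (hw p)

theorem DTot_mem {n : ℕ} {w : TT C D ψ n} (hw : w ∈ SegT C D 𝒯 hT n) :
    DTot C D n w ∈ SegT C D 𝒯 hT (n + 1) := by
  rw [← DeltaT_of_mem C D 𝒯 hT hw, DTot_DeltaT]
  exact DeltaT_mem C D 𝒯 hT (n + 1) _

/-- the differential of `Tot(C # D)` -/
noncomputable def dSeg (n : ℕ) : SegT C D 𝒯 hT n →ₗ[T] SegT C D 𝒯 hT (n + 1) :=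
  (DTot C D n).restrict (fun _ hw => DTot_mem C D 𝒯 hT hw)

theorem dSeg_coe (n : ℕ) (w : SegT C D 𝒯 hT n) :
    (dSeg C D 𝒯 hT n w : TT C D ψ (n + 1)) = DTot C D n w.1 := rfl

/-- the retraction of the full total complex onto `Tot(C # D)` -/
noncomputable def retrT (n : ℕ) : TT C D ψ n →ₗ[T] SegT C D 𝒯 hT n :=
  (DeltaT C D 𝒯 hT n).codRestrict _ (DeltaT_mem C D 𝒯 hT n)

theorem retrT_subtype (n : ℕ) (w : SegT C D 𝒯 hT n) : retrT C D 𝒯 hT n w.1 = w :=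
  Subtype.ext (DeltaT_of_mem C D 𝒯 hT w.2)

/-! ### the grading -/

/-- the pieces of `Tot(C # D)` -/
def segTGr (n : ℕ) (d : ℤ) : AddSubgroup (SegT C D 𝒯 hT n) where
  carrier := {w | ∀ p : Idx n, ((w : TT C D ψ n) p : C.X p.1.1 ⊗[k] D.X p.1.2) ∈
    GrSeg.segrePiece k (C.gr p.1.1) (D.gr p.1.2) d}
  add_mem' ha hb p := Submodule.add_mem _ (ha p) (hb p)
  zero_mem' _ := Submodule.zero_mem _
  neg_mem' ha p := Submodule.neg_mem _ (ha p)

theorem mem_segTGr {n : ℕ} {d : ℤ} {w : SegT C D 𝒯 hT n} :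
    w ∈ segTGr C D 𝒯 hT n d ↔ ∀ p : Idx n, ((w : TT C D ψ n) p : C.X p.1.1 ⊗[k] D.X p.1.2) ∈
      GrSeg.segrePiece k (C.gr p.1.1) (D.gr p.1.2) d := Iff.rfl

/-- componentwise `(d, d)`-projection -/
noncomputable def bprojT (n : ℕ) (d : ℤ) : TotX k C.X D.X n →ₗ[k] TotX k C.X D.X n :=
  PiMap (fun a b => bproj (C.gr a) (D.gr b) (hk 𝒜 (C.gr a)) (hk ℬ (D.gr b)) d d) n

theorem bprojT_apply (n : ℕ) (d : ℤ) (w : TotX k C.X D.X n) (p : Idx n) :
    bprojT C D n d w p =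
      bproj (C.gr p.1.1) (D.gr p.1.2) (hk 𝒜 (C.gr p.1.1)) (hk ℬ (D.gr p.1.2)) d d (w p) := rfl

/-- the projection on the `d`-th piece -/
noncomputable def segTProj (n : ℕ) (d : ℤ) : SegT C D 𝒯 hT n →+ SegT C D 𝒯 hT n where
  toFun w := ⟨bprojT C D n d w.1, fun p =>
    segrePiece_le_diag (C.gr p.1.1) (D.gr p.1.2) d (bproj_mem_piece 𝒜 ℬ _ _ d _)⟩
  map_zero' := Subtype.ext (map_zero (bprojT C D n d))
  map_add' a b := Subtype.ext (map_add (bprojT C D n d) a.1 b.1)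

theorem segTGr_isInternal (n : ℕ) : DirectSum.IsInternal (segTGr C D 𝒯 hT n) := by
  classical
  refine isInternal_of_proj _ (segTProj C D 𝒯 hT n) ?_ ?_ ?_ ?_
  · intro d w
    exact (mem_segTGr C D 𝒯 hT).mpr fun p => bproj_mem_piece 𝒜 ℬ _ _ d _
  · intro d w hw
    exact Subtype.ext (funext fun p => bproj_of_mem_piece 𝒜 ℬ _ _ ((mem_segTGr C D 𝒯 hT).mp hw p))
  · intro d e w hw hed
    exact Subtype.ext (funext fun p =>
      bproj_of_mem_piece_ne 𝒜 ℬ _ _ hed ((mem_segTGr C D 𝒯 hT).mp hw p))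
  · intro w
    have hF : ∀ p : Idx n, ∃ F : Finset ℤ, (w.1 p : C.X p.1.1 ⊗[k] D.X p.1.2) =
        ∑ d ∈ F, bproj (C.gr p.1.1) (D.gr p.1.2) (hk 𝒜 _) (hk ℬ _) d d (w.1 p) :=
      fun p => exists_finset_diag 𝒜 ℬ _ _ (w.2 p)
    choose F hF using hF
    refine ⟨Finset.univ.biUnion F, Subtype.ext (funext fun p => ?_)⟩
    rw [AddSubmonoidClass.coe_finsetSum, Finset.sum_apply]
    have hsub : F p ⊆ Finset.univ.biUnion F := Finset.subset_biUnion_of_mem F (Finset.mem_univ p)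
    change (w.1 p : C.X p.1.1 ⊗[k] D.X p.1.2) = ∑ d ∈ Finset.univ.biUnion F,
      bproj (C.gr p.1.1) (D.gr p.1.2) (hk 𝒜 _) (hk ℬ _) d d (w.1 p)
    rw [← Finset.sum_subset hsub]
    · exact hF p
    · intro d _ hd
      conv_lhs => rw [hF p]
      rw [map_sum]
      apply Finset.sum_eq_zero
      intro e he
      have hne : e ≠ d := fun h => hd (h ▸ he)
      exact bproj_of_mem_piece_ne 𝒜 ℬ _ _ hne (bproj_mem_piece 𝒜 ℬ _ _ e _)

/-- the decomposition of `Tot(C # D)^n` -/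
@[reducible] noncomputable def segTDec (n : ℕ) : DirectSum.Decomposition (segTGr C D 𝒯 hT n) :=
  (segTGr_isInternal C D 𝒯 hT n).chooseDecomposition

theorem segTGradedSMul (n : ℕ) : SetLike.GradedSMul 𝒯 (segTGr C D 𝒯 hT n) where
  smul_mem := by
    intro i j t w ht hw
    refine (mem_segTGr C D 𝒯 hT).mpr fun p => ?_
    rw [vadd_eq_add, add_comm]
    exact act_segrePiece_mem 𝒜 ℬ _ _ i j (ψ t) (psi_mem_piece 𝒜 ℬ 𝒯 hT ht) _
      ((mem_segTGr C D 𝒯 hT).mp hw p)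

/-- `Tot(C # D)^n` as a bundled graded `T`-module -/
noncomputable def XG (n : ℕ) : GrLC.GMod.{u} 𝒯 :=
  letI := segTDec C D 𝒯 hT n
  letI := segTGradedSMul C D 𝒯 hT n
  { carrier := SegT C D 𝒯 hT n
    gr := segTGr C D 𝒯 hT n }

/-- the differential is homogeneous -/
theorem dSeg_grHom (n : ℕ) :
    GrLC.IsGrHom (segTGr C D 𝒯 hT n) (segTGr C D 𝒯 hT (n + 1)) (dSeg C D 𝒯 hT n) := by
  intro d w hw
  refine (mem_segTGr C D 𝒯 hT).mpr fun q => ?_
  exact TotD_mem C.dk D.dk (fun a b => GrSeg.segrePiece k (C.gr a) (D.gr b) d)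
    (fun a b t ht => by
      rw [rTensor_eq_kmap]
      exact kmap_mem_piece _ _ _ _ (C.d a) LinearMap.id (C.d_gr a) (fun _ _ h => h) ht)
    (fun a b t ht => by
      rw [lTensor_eq_kmap]
      exact kmap_mem_piece _ _ _ _ LinearMap.id (D.d b) (fun _ _ h => h) (D.d_gr b) ht)
    n w.1 ((mem_segTGr C D 𝒯 hT).mp hw) q

end Tot

end Groth.Agent.H81.Seg
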