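import Mathlib
import Groth.Agent.H81.Seg.TotSeg
import Groth.Agent.H81.Seg.Ideals
import Groth.Agent.H98.Ver.GrRes

set_option autoImplicit false
set_option linter.unusedSectionVars false
set_option linter.style.haveILetI false
universe u

/-!
# `Tot(C # D)` is a `Γ_P`-acyclic graded resolution of `M # N`
-/

namespace Groth.Agent.H81.Seg

open scoped TensorProduct
open Groth.Agent.H98 Groth.Agent.H81.Kun

/-- an augmentation making the graded complex `C` a resolution of the graded module `M` -/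
structure GAug {k : Type u} [Field k] {R : Type u} [CommRing R] [Algebra k R]
    {𝒜 : ℤ → Submodule k R} [GradedAlgebra 𝒜] (C : GCx k 𝒜)
    {M : Type u} [AddCommGroup M] [Module R M] (ℳ : ℤ → AddSubgroup M) where
  ε : M →ₗ[R] C.X 0
  ε_gr : GrLC.IsGrHom ℳ (C.gr 0) ε
  ε_inj : Function.Injective ε
  ex0 : LinearMap.ker (C.d 0) = LinearMap.range ε
  ex : ∀ a, LinearMap.ker (C.d (a + 1)) = LinearMap.range (C.d a)

section Res

variable {k : Type u} [Field k] {R S T : Type u} [CommRing R] [CommRing S] [CommRing T]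
  [Algebra k R] [Algebra k S] [Algebra k T]
  {𝒜 : ℤ → Submodule k R} [GradedAlgebra 𝒜] {ℬ : ℤ → Submodule k S} [GradedAlgebra ℬ]
  (C : GCx k 𝒜) (D : GCx k ℬ)
  (𝒯 : ℤ → Submodule k T) [GradedAlgebra 𝒯] {ψ : T →ₐ[k] R ⊗[k] S}
  (hT : GrSeg.IsSegreRing 𝒜 ℬ 𝒯 ψ)
variable {M : Type u} [AddCommGroup M] [Module R M] [Module k M] [IsScalarTower k R M]
  {ℳ : ℤ → AddSubgroup M} [DirectSum.Decomposition ℳ] [SetLike.GradedSMul 𝒜 ℳ]
  {N : Type u} [AddCommGroup N] [Module S N] [Module k N] [IsScalarTower k S N]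
  {𝒩 : ℤ → AddSubgroup N} [DirectSum.Decomposition 𝒩] [SetLike.GradedSMul ℬ 𝒩]
  (εC : GAug C ℳ) (εD : GAug D 𝒩)
variable {P : Type u} [AddCommGroup P] [Module T P] [Module k P] [IsScalarTower k T P]
  {𝒬 : ℤ → AddSubgroup P} [DirectSum.Decomposition 𝒬] [SetLike.GradedSMul 𝒯 𝒬]
  {φ : P →ₗ[k] M ⊗[k] N} (hP : GrSeg.IsSegreMod ψ ℳ 𝒩 𝒬 φ)

include hP in
theorem phi_mem_piece {d : ℤ} {p : P} (hp : p ∈ 𝒬 d) : φ p ∈ GrSeg.segrePiece k ℳ 𝒩 d := by
  have : φ p ∈ φ '' (𝒬 d : Set P) := ⟨p, hp, rfl⟩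
  rw [hP.image_piece d] at this
  exact this

include hP in
theorem phi_mem_diag (p : P) : φ p ∈ diagPart (k := k) ℳ 𝒩 := by
  induction p using DirectSum.Decomposition.inductionOn 𝒬 with
  | zero => rw [map_zero]; exact Submodule.zero_mem _
  | @homogeneous d p => exact segrePiece_le_diag ℳ 𝒩 d (phi_mem_piece hP p.2)
  | add a b ha hb => rw [map_add]; exact Submodule.add_mem _ ha hb

include hP in
theorem exists_phi_eq {w : M ⊗[k] N} (hw : w ∈ diagPart (k := k) ℳ 𝒩) : ∃ p : P, φ p = w := by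
  induction hw using Submodule.span_induction with
  | mem v hv =>
    obtain ⟨d, a, ha, b, hb, rfl⟩ := hv
    have : a ⊗ₜ[k] b ∈ (GrSeg.segrePiece k ℳ 𝒩 d : Set (M ⊗[k] N)) :=
      Submodule.subset_span ⟨a, ha, b, hb, rfl⟩
    rw [← hP.image_piece d] at this
    obtain ⟨p, -, hp⟩ := this
    exact ⟨p, hp⟩
  | zero => exact ⟨0, map_zero _⟩
  | add x y _ _ hx hy =>
    obtain ⟨p, rfl⟩ := hx
    obtain ⟨q, rfl⟩ := hy
    exact ⟨p + q, map_add _ _ _⟩
  | smul c x _ hx =>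
    obtain ⟨p, rfl⟩ := hx
    exact ⟨c • p, map_smul _ _ _⟩

/-- `ε_M ⊗ ε_N` into the `(0,0)` summand -/
noncomputable def eps0 : M ⊗[k] N →ₗ[k] TotX k C.X D.X 0 :=
  inc (k := k) (U := C.X) (V := D.X) (show 0 + 0 = 0 from rfl) ∘ₗ kmap (k := k) εC.ε εD.ε

theorem eps0_apply (w : M ⊗[k] N) (p : Idx 0) :
    eps0 C D εC εD w p = inc (k := k) (U := C.X) (V := D.X) (show 0 + 0 = 0 from rfl)
      (kmap (k := k) εC.ε εD.ε w) p := rfl

theorem eps0_injective : Function.Injective (eps0 C D εC εD) := by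
  intro a b hab
  apply kmap_injective εC.ε εD.ε εC.ε_inj εD.ε_inj
  have := congrFun hab ⟨(0, 0), rfl⟩
  rw [eps0_apply, eps0_apply, inc_apply_same, inc_apply_same] at this
  exact this

theorem eps0_mem_SegT {w : M ⊗[k] N} (hw : w ∈ diagPart (k := k) ℳ 𝒩) :
    (eps0 C D εC εD w : TT C D ψ 0) ∈ SegT C D 𝒯 hT 0 := by
  intro q
  exact inc_mem (fun a b => diagPart (k := k) (C.gr a) (D.gr b)) _
    (kmap_mem_diag ℳ 𝒩 (C.gr 0) (D.gr 0) εC.ε εD.ε εC.ε_gr εD.ε_gr hw) q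

/-- the augmentation `M # N → Tot(C # D)^0` -/
noncomputable def epsP : P →ₗ[T] SegT C D 𝒯 hT 0 where
  toFun p := ⟨eps0 C D εC εD (φ p), eps0_mem_SegT C D 𝒯 hT εC εD (phi_mem_diag hP p)⟩
  map_add' a b := Subtype.ext (by
    change eps0 C D εC εD (φ (a + b)) = eps0 C D εC εD (φ a) + eps0 C D εC εD (φ b)
    rw [map_add, map_add])
  map_smul' t p := Subtype.ext (by
    change eps0 C D εC εD (φ (t • p)) = t • (show TT C D ψ 0 from eps0 C D εC εD (φ p))
    rw [hP.map_smul]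
    funext q
    rw [eps0_apply, Pi.smul_apply, eps0_apply, kmap_act]
    by_cases hq : q = ⟨(0, 0), rfl⟩
    · subst hq
      rw [inc_apply_same, inc_apply_same]
      rfl
    · rw [inc_apply_ne _ _ q hq, inc_apply_ne _ _ q hq]
      exact (smul_zero (A := TP ψ (C.X q.1.1) (D.X q.1.2)) t).symm)

theorem epsP_coe (p : P) : (epsP C D 𝒯 hT εC εD hP p : TT C D ψ 0) = eps0 C D εC εD (φ p) := rfl

theorem epsP_injective : Function.Injective (epsP C D 𝒯 hT εC εD hP) := by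
  intro a b hab
  apply hP.injective
  apply eps0_injective C D εC εD
  exact congrArg Subtype.val hab

theorem epsP_grHom :
    GrLC.IsGrHom 𝒬 (segTGr C D 𝒯 hT 0) (epsP C D 𝒯 hT εC εD hP) := by
  intro d p hp
  refine (mem_segTGr C D 𝒯 hT).mpr fun q => ?_
  exact inc_mem (fun a b => GrSeg.segrePiece k (C.gr a) (D.gr b) d) _
    (kmap_mem_piece ℳ 𝒩 (C.gr 0) (D.gr 0) εC.ε εD.ε εC.ε_gr εD.ε_gr (phi_mem_piece hP hp)) q

/-! ### exactness -/

theorem range_restrictScalars_eps :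
    LinearMap.range (εC.ε.restrictScalars k) = LinearMap.ker (C.dk 0) := by
  ext x
  have h := εC.ex0
  constructor
  · rintro ⟨m, rfl⟩
    have : εC.ε m ∈ LinearMap.ker (C.d 0) := by rw [h]; exact ⟨m, rfl⟩
    exact this
  · intro hx
    have : x ∈ LinearMap.ker (C.d 0) := hx
    rw [h] at this
    obtain ⟨m, rfl⟩ := this
    exact ⟨m, rfl⟩

/-- the hypotheses on the exactness of the full total complex (supplied by the Künneth formula) -/
structure TotExact : Prop where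
  ex0 : LinearMap.ker (TotD C.dk D.dk 0) =
    LinearMap.range ((inc (k := k) (U := C.X) (V := D.X) (show 0 + 0 = 0 from rfl)) ∘ₗ
      TensorProduct.map (LinearMap.ker (C.dk 0)).subtype (LinearMap.ker (D.dk 0)).subtype)
  ex : ∀ n, LinearMap.ker (TotD C.dk D.dk (n + 1)) = LinearMap.range (TotD C.dk D.dk n)

variable {C D} (hex : TotExact C D)

include hex in
theorem range_eps0 : LinearMap.range (eps0 C D εC εD) = LinearMap.ker (TotD C.dk D.dk 0) := by
  rw [hex.ex0, eps0, LinearMap.range_comp, LinearMap.range_comp]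
  congr 1
  unfold kmap
  rw [TensorProduct.range_map, TensorProduct.range_map, Submodule.range_subtype,
    Submodule.range_subtype, range_restrictScalars_eps C εC, range_restrictScalars_eps D εD]

theorem eps0_Dk (w : M ⊗[k] N) :
    eps0 C D εC εD (Dk 𝒜 ℬ ℳ 𝒩 w) = DeltaT C D 𝒯 hT 0 (eps0 C D εC εD w) := by
  change _ = PiMap (fun a b => Dk 𝒜 ℬ (C.gr a) (D.gr b)) 0 (eps0 C D εC εD w)
  unfold eps0
  rw [LinearMap.comp_apply, LinearMap.comp_apply, PiMap_inc,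
    kmap_Dk 𝒜 ℬ ℳ 𝒩 (C.gr 0) (D.gr 0) εC.ε εD.ε εC.ε_gr εD.ε_gr]

theorem dSeg_epsP (p : P) : dSeg C D 𝒯 hT 0 (epsP C D 𝒯 hT εC εD hP p) = 0 := by
  apply Subtype.ext
  change TotD C.dk D.dk 0 (eps0 C D εC εD (φ p)) = 0
  unfold eps0
  rw [LinearMap.comp_apply, TotD_inc, rTensor_eq_kmap, lTensor_eq_kmap, kmap_comp, kmap_comp]
  have h1 : C.d 0 ∘ₗ εC.ε = 0 := by
    ext m
    have : εC.ε m ∈ LinearMap.ker (C.d 0) := by rw [εC.ex0]; exact ⟨m, rfl⟩
    exact this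
  have h2 : D.d 0 ∘ₗ εD.ε = 0 := by
    ext m
    have : εD.ε m ∈ LinearMap.ker (D.d 0) := by rw [εD.ex0]; exact ⟨m, rfl⟩
    exact this
  rw [h1, h2]
  unfold kmap
  rw [LinearMap.restrictScalars_zero, LinearMap.restrictScalars_zero, TensorProduct.map_zero_left,
    TensorProduct.map_zero_right, LinearMap.zero_apply, LinearMap.zero_apply, map_zero, map_zero,
    smul_zero, add_zero]

include hex in
theorem exact_zero :
    LinearMap.ker (dSeg C D 𝒯 hT 0) = LinearMap.range (epsP C D 𝒯 hT εC εD hP) := by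
  apply le_antisymm
  · intro w hw
    have hw' : (w.1 : TotX k C.X D.X 0) ∈ LinearMap.ker (TotD C.dk D.dk 0) := by
      have := congrArg Subtype.val (LinearMap.mem_ker.mp hw)
      exact this
    rw [← range_eps0 εC εD hex] at hw'
    obtain ⟨m0, hm0⟩ := hw'
    have h1 : eps0 C D εC εD (Dk 𝒜 ℬ ℳ 𝒩 m0) = eps0 C D εC εD m0 := by
      rw [eps0_Dk 𝒯 hT, hm0]
      exact DeltaT_of_mem C D 𝒯 hT w.2
    have h2 := eps0_injective C D εC εD h1
    have h3 : m0 ∈ diagPart (k := k) ℳ 𝒩 := by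
      rw [← h2]
      exact Dk_mem 𝒜 ℬ ℳ 𝒩 m0
    obtain ⟨p, hp⟩ := exists_phi_eq hP h3
    refine ⟨p, Subtype.ext ?_⟩
    rw [epsP_coe, hp]
    exact hm0
  · rintro _ ⟨p, rfl⟩
    exact dSeg_epsP 𝒯 hT εC εD hP p

include hex in
theorem exact_succ (n : ℕ) :
    LinearMap.ker (dSeg C D 𝒯 hT (n + 1)) = LinearMap.range (dSeg C D 𝒯 hT n) := by
  apply le_antisymm
  · intro w hw
    have hw' : (w.1 : TotX k C.X D.X (n + 1)) ∈ LinearMap.ker (TotD C.dk D.dk (n + 1)) := by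
      have := congrArg Subtype.val (LinearMap.mem_ker.mp hw)
      exact this
    rw [hex.ex n] at hw'
    obtain ⟨y, hy⟩ := hw'
    let y' : TT C D ψ n := y
    refine ⟨retrT C D 𝒯 hT n y', Subtype.ext ?_⟩
    have h1 : DTot C D n (DeltaT C D 𝒯 hT n y') = DeltaT C D 𝒯 hT (n + 1) (DTot C D n y') :=
      DTot_DeltaT C D 𝒯 hT n y'
    have h2 : DTot C D n y' = w.1 := hy
    change DTot C D n (DeltaT C D 𝒯 hT n y') = w.1
    rw [h1, h2]
    exact DeltaT_of_mem C D 𝒯 hT w.2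
  · rintro _ ⟨y, rfl⟩
    apply Subtype.ext
    exact DTot_DTot C D n y.1

end Res

section Acyc

variable {k : Type u} [Field k] {R S T : Type u} [CommRing R] [CommRing S] [CommRing T]
  [Algebra k R] [Algebra k S] [Algebra k T]
  {𝒜 : ℤ → Submodule k R} [GradedAlgebra 𝒜] {ℬ : ℤ → Submodule k S} [GradedAlgebra ℬ]
  (C : GCx k 𝒜) (D : GCx k ℬ)
  (𝒯 : ℤ → Submodule k T) [GradedAlgebra 𝒯] {ψ : T →ₐ[k] R ⊗[k] S}
  (hT : GrSeg.IsSegreRing 𝒜 ℬ 𝒯 ψ)

theorem mem_torsionSub_pi {A : Type u} [CommRing A] (I : Ideal A) {ι : Type} [Fintype ι]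
    (Mi : ι → Type u) [∀ j, AddCommGroup (Mi j)] [∀ j, Module A (Mi j)] (w : ∀ j, Mi j) :
    w ∈ DRing.torsionSub I (∀ j, Mi j) ↔ ∀ j, w j ∈ DRing.torsionSub I (Mi j) := by
  classical
  constructor
  · rintro ⟨c, hc⟩ j
    exact ⟨c, fun a ha => congrFun (hc a ha) j⟩
  · intro h
    choose c hc using h
    refine ⟨Finset.univ.sup c, fun a ha => funext fun j => ?_⟩
    exact hc j a (Ideal.pow_le_pow_right (Finset.le_sup (Finset.mem_univ j)) ha)

theorem mem_torsionSub_submodule {A : Type u} [CommRing A] (I : Ideal A) {M : Type u}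
    [AddCommGroup M] [Module A M] (N : Submodule A M) (w : N) :
    w ∈ DRing.torsionSub I N ↔ (w : M) ∈ DRing.torsionSub I M := by
  constructor
  · rintro ⟨c, hc⟩
    exact ⟨c, fun a ha => congrArg Subtype.val (hc a ha)⟩
  · rintro ⟨c, hc⟩
    exact ⟨c, fun a ha => Subtype.ext (hc a ha)⟩

variable [IsNoetherianRing R] [IsNoetherianRing S] [IsNoetherianRing T]
  [IsNoetherianRing (R ⊗[k] S)]
  {mR : Ideal R} {mS : Ideal S} {mT : Ideal T} (hI : IdealHyp ψ mR mS mT)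
  (hC : ∀ a j, Subsingleton (LocCoh.H mR (j + 1) (C.X a)))
  (hD : ∀ b j, Subsingleton (LocCoh.H mS (j + 1) (D.X b)))

include hI hC hD in
theorem subsingleton_H_TT (n j : ℕ) : Subsingleton (LocCoh.H mT (j + 1) (TT C D ψ n)) :=
  subsingleton_H_pi mT (j + 1) (fun p : Idx n => TP ψ (C.X p.1.1) (D.X p.1.2))
    (LinearEquiv.refl T _) (fun p => subsingleton_H_TP hI (hC p.1.1) (hD p.1.2) j)

include hI hC hD in
theorem subsingleton_H_SegT (n j : ℕ) :
    Subsingleton (LocCoh.H mT (j + 1) (SegT C D 𝒯 hT n)) :=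
  subsingleton_H_of_retract mT (j + 1) (SegT C D 𝒯 hT n).subtype (retrT C D 𝒯 hT n)
    (retrT_subtype C D 𝒯 hT n) (subsingleton_H_TT C D hI hC hD n j)

include hI hC hD in
/-- the `P`-torsion of `Tot(C # D)^n` -/
theorem mem_torsionSub_SegT_iff (n : ℕ) (w : SegT C D 𝒯 hT n) :
    w ∈ DRing.torsionSub mT (SegT C D 𝒯 hT n) ↔
      ∀ p : Idx n, qq ψ mR mS ((w : TT C D ψ n) p) = 0 := by
  rw [mem_torsionSub_submodule, mem_torsionSub_pi]
  refine forall_congr' fun p => ?_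
  rw [torsionSub_TP_eq hI (hC p.1.1) (hD p.1.2), LinearMap.mem_ker]

end Acyc

section Package

variable {k : Type u} [Field k] {R S T : Type u} [CommRing R] [CommRing S] [CommRing T]
  [Algebra k R] [Algebra k S] [Algebra k T]
  {𝒜 : ℤ → Submodule k R} [GradedAlgebra 𝒜] {ℬ : ℤ → Submodule k S} [GradedAlgebra ℬ]
  {C : GCx k 𝒜} {D : GCx k ℬ}
  (𝒯 : ℤ → Submodule k T) [GradedAlgebra 𝒯] {ψ : T →ₐ[k] R ⊗[k] S}
  (hT : GrSeg.IsSegreRing 𝒜 ℬ 𝒯 ψ)
variable {M : Type u} [AddCommGroup M] [Module R M] [Module k M] [IsScalarTower k R M]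
  {ℳ : ℤ → AddSubgroup M} [DirectSum.Decomposition ℳ] [SetLike.GradedSMul 𝒜 ℳ]
  {N : Type u} [AddCommGroup N] [Module S N] [Module k N] [IsScalarTower k S N]
  {𝒩 : ℤ → AddSubgroup N} [DirectSum.Decomposition 𝒩] [SetLike.GradedSMul ℬ 𝒩]
  (εC : GAug C ℳ) (εD : GAug D 𝒩)
variable {P : Type u} [AddCommGroup P] [Module T P] [Module k P] [IsScalarTower k T P]
  {𝒬 : ℤ → AddSubgroup P} [DirectSum.Decomposition 𝒬] [SetLike.GradedSMul 𝒯 𝒬]
  {φ : P →ₗ[k] M ⊗[k] N} (hP : GrSeg.IsSegreMod ψ ℳ 𝒩 𝒬 φ)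
variable [IsNoetherianRing R] [IsNoetherianRing S] [IsNoetherianRing T]
  [IsNoetherianRing (R ⊗[k] S)]
  {mR : Ideal R} {mS : Ideal S} (mT : HomogeneousIdeal 𝒯) (hI : IdealHyp ψ mR mS mT.toIdeal)
  (hC : ∀ a j, Subsingleton (LocCoh.H mR (j + 1) (C.X a)))
  (hD : ∀ b j, Subsingleton (LocCoh.H mS (j + 1) (D.X b)))
  (hex : TotExact C D)

/-- `Tot(C # D)` as a graded `Γ_P`-acyclic resolution of `M # N` -/
noncomputable def totRes : Groth.Agent.H98.Ver.GrAcycRes 𝒯 𝒬 mT where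
  X := XG C D 𝒯 hT
  d := dSeg C D 𝒯 hT
  ε := epsP C D 𝒯 hT εC εD hP
  d_grHom := dSeg_grHom C D 𝒯 hT
  ε_grHom := epsP_grHom C D 𝒯 hT εC εD hP
  ε_injective := epsP_injective C D 𝒯 hT εC εD hP
  exact_zero := exact_zero 𝒯 hT εC εD hP hex
  exact_succ := exact_succ 𝒯 hT hex
  acyclic := fun n j => subsingleton_H_SegT C D 𝒯 hT hI hC hD n j

end Package

end Groth.Agent.H81.Seg
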