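import Mathlib
import Groth.Agent.H81.Seg.Res
import Groth.Agent.H81.Kun.Compare

set_option autoImplicit false
set_option linter.unusedSectionVars false
set_option linter.style.haveILetI false
universe u

/-!
# The degree `d` part of `Tot(C # D)` is the total complex of the degree `d` parts
-/

namespace Groth.Agent.H81.Seg

open scoped TensorProduct
open Groth.Agent.H98 Groth.Agent.H81.Kun

namespace GCx

variable {k : Type u} [Field k] {R : Type u} [CommRing R] [Algebra k R]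
  {𝒜 : ℤ → Submodule k R} [GradedAlgebra 𝒜] (C : GCx k 𝒜) (d : ℤ)

/-- the degree `d` piece of `C^a` as a `k`-subspace -/
def pc (a : ℕ) : Submodule k (C.X a) where
  carrier := C.gr a d
  add_mem' := add_mem
  zero_mem' := zero_mem _
  smul_mem' c x hx := hk 𝒜 (C.gr a) c d x hx

theorem mem_pc {a : ℕ} {x : C.X a} : x ∈ C.pc d a ↔ x ∈ C.gr a d := Iff.rfl

/-- the differential of the degree `d` part -/
def dP (a : ℕ) : C.pc d a →ₗ[k] C.pc d (a + 1) :=
  (C.dk a).restrict (fun x hx => C.d_gr a d x hx)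

theorem dP_coe (a : ℕ) (x : C.pc d a) : (C.dP d a x : C.X (a + 1)) = C.d a x := rfl

theorem dP_dP (a : ℕ) (x : C.pc d a) : C.dP d (a + 1) (C.dP d a x) = 0 :=
  Subtype.ext (C.dd a x)

/-- the torsion part of the degree `d` part -/
def tor (m : Ideal R) (a : ℕ) : Submodule k (C.pc d a) :=
  ((DRing.torsionSub m (C.X a)).restrictScalars k).comap (C.pc d a).subtype

theorem mem_tor {m : Ideal R} {a : ℕ} {x : C.pc d a} :
    x ∈ C.tor d m a ↔ (x : C.X a) ∈ DRing.torsionSub m (C.X a) := Iff.rfl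

theorem dP_mem_tor (m : Ideal R) (a : ℕ) (x : C.pc d a) (hx : x ∈ C.tor d m a) :
    C.dP d a x ∈ C.tor d m (a + 1) :=
  DRing.map_mem_torsionSub m (C.d a) hx

/-- `C^a_d / Γ → C^a / Γ` -/
noncomputable def jq (m : Ideal R) (a : ℕ) :
    (C.pc d a ⧸ C.tor d m a) →ₗ[k] (C.X a ⧸ DRing.torsionSub m (C.X a)) :=
  (C.tor d m a).liftQ (((DRing.torsionSub m (C.X a)).mkQ.restrictScalars k) ∘ₗ (C.pc d a).subtype)
    (by
      intro x hx
      rw [LinearMap.mem_ker, LinearMap.comp_apply]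
      exact (Submodule.Quotient.mk_eq_zero _).mpr hx)

theorem jq_mk (m : Ideal R) (a : ℕ) (x : C.pc d a) :
    C.jq d m a ((C.tor d m a).mkQ x) = (DRing.torsionSub m (C.X a)).mkQ (x : C.X a) := rfl

theorem jq_injective (m : Ideal R) (a : ℕ) : Function.Injective (C.jq d m a) := by
  rw [← LinearMap.ker_eq_bot]
  apply Submodule.ker_liftQ_eq_bot
  intro x hx
  have hx' : (DRing.torsionSub m (C.X a)).mkQ (x : C.X a) = 0 := hx
  exact (Submodule.Quotient.mk_eq_zero (DRing.torsionSub m (C.X a))).mp hx'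

end GCx

section Deg

variable {k : Type u} [Field k] {R S T : Type u} [CommRing R] [CommRing S] [CommRing T]
  [Algebra k R] [Algebra k S] [Algebra k T]
  {𝒜 : ℤ → Submodule k R} [GradedAlgebra 𝒜] {ℬ : ℤ → Submodule k S} [GradedAlgebra ℬ]
  (C : GCx k 𝒜) (D : GCx k ℬ)
  (𝒯 : ℤ → Submodule k T) [GradedAlgebra 𝒯] {ψ : T →ₐ[k] R ⊗[k] S}
  (hT : GrSeg.IsSegreRing 𝒜 ℬ 𝒯 ψ) (d : ℤ)

/-- the terms of the total complex of the degree `d` parts -/
abbrev ZZ (n : ℕ) : Type u := TotX k (fun a => C.pc d a) (fun b => D.pc d b) n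

/-- the differential of the total complex of the degree `d` parts -/
noncomputable abbrev DZ (n : ℕ) : ZZ C D d n →ₗ[k] ZZ C D d (n + 1) :=
  TotD (C.dP d) (D.dP d) n

/-- the inclusion of the total complex of the degree `d` parts in the full total complex -/
noncomputable def iotaK (n : ℕ) : ZZ C D d n →ₗ[k] TotX k C.X D.X n :=
  TotMap (fun a => (C.pc d a).subtype) (fun b => (D.pc d b).subtype) n

theorem iotaK_apply (n : ℕ) (u : ZZ C D d n) (p : Idx n) :
    iotaK C D d n u p =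
      TensorProduct.map (C.pc d p.1.1).subtype (D.pc d p.1.2).subtype (u p) := rfl

theorem iotaK_injective (n : ℕ) : Function.Injective (iotaK C D d n) := by
  intro u v huv
  funext p
  have h := congrFun huv p
  rw [iotaK_apply, iotaK_apply] at h
  exact TensorProduct.map_injective_of_flat_flat _ _ (Submodule.injective_subtype _)
    (Submodule.injective_subtype _) h

theorem range_map_subtype (a b : ℕ) :
    LinearMap.range (TensorProduct.map (C.pc d a).subtype (D.pc d b).subtype) =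
      GrSeg.segrePiece k (C.gr a) (D.gr b) d := by
  rw [TensorProduct.range_map_eq_span_tmul]
  unfold GrSeg.segrePiece
  congr 1
  ext t
  constructor
  · rintro ⟨x, y, rfl⟩
    exact ⟨x.1, x.2, y.1, y.2, rfl⟩
  · rintro ⟨x, hx, y, hy, rfl⟩
    exact ⟨⟨x, hx⟩, ⟨y, hy⟩, rfl⟩

theorem iotaK_mem_piece (n : ℕ) (u : ZZ C D d n) (p : Idx n) :
    iotaK C D d n u p ∈ GrSeg.segrePiece k (C.gr p.1.1) (D.gr p.1.2) d := by
  rw [← range_map_subtype, iotaK_apply]
  exact LinearMap.mem_range_self _ _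

theorem exists_iotaK_eq (n : ℕ) (w : TotX k C.X D.X n)
    (hw : ∀ p : Idx n, w p ∈ GrSeg.segrePiece k (C.gr p.1.1) (D.gr p.1.2) d) :
    ∃ u, iotaK C D d n u = w := by
  have h : ∀ p : Idx n, ∃ t : (C.pc d p.1.1) ⊗[k] (D.pc d p.1.2),
      TensorProduct.map (C.pc d p.1.1).subtype (D.pc d p.1.2).subtype t = w p := by
    intro p
    have := hw p
    rw [← range_map_subtype] at this
    exact this
  choose u hu using h
  exact ⟨u, funext fun p => hu p⟩

theorem iotaK_DZ (n : ℕ) (u : ZZ C D d n) :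
    iotaK C D d (n + 1) (DZ C D d n u) = TotD C.dk D.dk n (iotaK C D d n u) :=
  TotMap_TotD (C.dP d) (D.dP d) _ _ C.dk D.dk (fun _ _ => rfl) (fun _ _ => rfl) n u

theorem iotaK_mem_SegT (n : ℕ) (u : ZZ C D d n) :
    (iotaK C D d n u : TT C D ψ n) ∈ SegT C D 𝒯 hT n :=
  fun p => segrePiece_le_diag (C.gr p.1.1) (D.gr p.1.2) d (iotaK_mem_piece C D d n u p)

/-- the inclusion into `Tot(C # D)` -/
noncomputable def iotaS (n : ℕ) : ZZ C D d n →+ SegT C D 𝒯 hT n where
  toFun u := ⟨iotaK C D d n u, iotaK_mem_SegT C D 𝒯 hT d n u⟩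
  map_zero' := Subtype.ext (map_zero (iotaK C D d n))
  map_add' u v := Subtype.ext (map_add (iotaK C D d n) u v)

theorem iotaS_coe (n : ℕ) (u : ZZ C D d n) :
    ((iotaS C D 𝒯 hT d n u : SegT C D 𝒯 hT n) : TT C D ψ n) = iotaK C D d n u := rfl

theorem iotaS_injective (n : ℕ) : Function.Injective (iotaS C D 𝒯 hT d n) := by
  intro u v huv
  exact iotaK_injective C D d n (congrArg Subtype.val huv)

theorem iotaS_dSeg (n : ℕ) (u : ZZ C D d n) :
    iotaS C D 𝒯 hT d (n + 1) (DZ C D d n u) = dSeg C D 𝒯 hT n (iotaS C D 𝒯 hT d n u) :=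
  Subtype.ext (iotaK_DZ C D d n u)

theorem iotaS_smul (n : ℕ) (c : k) (u : ZZ C D d n) :
    iotaS C D 𝒯 hT d n (c • u) = algebraMap k T c • iotaS C D 𝒯 hT d n u := by
  apply Subtype.ext
  change (iotaK C D d n (c • u) : TT C D ψ n) =
    algebraMap k T c • (show TT C D ψ n from iotaK C D d n u)
  rw [algebraMap_smul, map_smul]
  rfl

theorem mem_segTGr_iff_exists (n : ℕ) (w : SegT C D 𝒯 hT n) :
    w ∈ segTGr C D 𝒯 hT n d ↔ ∃ u, iotaS C D 𝒯 hT d n u = w := by
  constructor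
  · intro hw
    obtain ⟨u, hu⟩ := exists_iotaK_eq C D d n w.1 ((mem_segTGr C D 𝒯 hT).mp hw)
    exact ⟨u, Subtype.ext hu⟩
  · rintro ⟨u, rfl⟩
    exact (mem_segTGr C D 𝒯 hT).mpr fun p => iotaK_mem_piece C D d n u p

/-- the componentwise quotient map by the torsion parts -/
noncomputable abbrev QZ (mR : Ideal R) (mS : Ideal S) (n : ℕ) :
    ZZ C D d n →ₗ[k]
      TotX k (fun a => C.pc d a ⧸ C.tor d mR a) (fun b => D.pc d b ⧸ D.tor d mS b) n :=
  TotMap (fun a => (C.tor d mR a).mkQ) (fun b => (D.tor d mS b).mkQ) n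

theorem qq_iotaK (mR : Ideal R) (mS : Ideal S) (n : ℕ) (u : ZZ C D d n) (p : Idx n) :
    (qq ψ mR mS (show TP ψ (C.X p.1.1) (D.X p.1.2) from iotaK C D d n u p) :
        (C.X p.1.1 ⧸ DRing.torsionSub mR (C.X p.1.1)) ⊗[k]
          (D.X p.1.2 ⧸ DRing.torsionSub mS (D.X p.1.2))) =
      TensorProduct.map (C.jq d mR p.1.1) (D.jq d mS p.1.2) (QZ C D d mR mS n u p) := by
  change kmap (k := k) (DRing.torsionSub mR (C.X p.1.1)).mkQ (DRing.torsionSub mS (D.X p.1.2)).mkQ
      (TensorProduct.map (C.pc d p.1.1).subtype (D.pc d p.1.2).subtype (u p)) =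
    TensorProduct.map (C.jq d mR p.1.1) (D.jq d mS p.1.2)
      (TensorProduct.map (C.tor d mR p.1.1).mkQ (D.tor d mS p.1.2).mkQ (u p))
  unfold kmap
  rw [← LinearMap.comp_apply, ← LinearMap.comp_apply, ← TensorProduct.map_comp,
    ← TensorProduct.map_comp]
  rfl

theorem qq_iotaK_eq_zero_iff (mR : Ideal R) (mS : Ideal S) (n : ℕ) (u : ZZ C D d n) (p : Idx n) :
    qq ψ mR mS (show TP ψ (C.X p.1.1) (D.X p.1.2) from iotaK C D d n u p) = 0 ↔
      QZ C D d mR mS n u p = 0 := by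
  have h := qq_iotaK C D (ψ := ψ) d mR mS n u p
  have hinj : Function.Injective (TensorProduct.map (C.jq d mR p.1.1) (D.jq d mS p.1.2)) :=
    TensorProduct.map_injective_of_flat_flat _ _ (C.jq_injective d mR _) (D.jq_injective d mS _)
  constructor
  · intro h0
    apply hinj
    rw [map_zero, ← h]
    exact h0
  · intro h0
    refine Eq.trans h ?_
    rw [h0]
    exact map_zero _

section Tors

variable [IsNoetherianRing R] [IsNoetherianRing S] [IsNoetherianRing T]
  [IsNoetherianRing (R ⊗[k] S)]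
  {mR : Ideal R} {mS : Ideal S} {mT : Ideal T} (hI : IdealHyp ψ mR mS mT)
  (hC : ∀ a j, Subsingleton (LocCoh.H mR (j + 1) (C.X a)))
  (hD : ∀ b j, Subsingleton (LocCoh.H mS (j + 1) (D.X b)))

include hI hC hD in
theorem iotaS_mem_gam_iff (n : ℕ) (u : ZZ C D d n) :
    iotaS C D 𝒯 hT d n u ∈ GrLC.gam mT (SegT C D 𝒯 hT n) ↔
      u ∈ LinearMap.ker (QZ C D d mR mS n) := by
  change iotaS C D 𝒯 hT d n u ∈ DRing.torsionSub mT (SegT C D 𝒯 hT n) ↔ _
  rw [mem_torsionSub_SegT_iff C D 𝒯 hT hI hC hD, LinearMap.mem_ker]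
  constructor
  · intro h
    funext p
    exact (qq_iotaK_eq_zero_iff C D d mR mS n u p).mp (h p)
  · intro h p
    exact (qq_iotaK_eq_zero_iff C D d mR mS n u p).mpr (congrFun h p)

end Tors

end Deg

end Groth.Agent.H81.Seg
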