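import Mathlib
import Groth.Agent.H81.Seg.Degree

set_option autoImplicit false
set_option linter.unusedSectionVars false
set_option linter.style.haveILetI false
universe u

/-!
# The degree `d` part of the cohomology of `Γ_P(Tot(C # D))`
-/

namespace Groth.Agent.H81.Seg

open scoped TensorProduct
open Groth.Agent.H98 Groth.Agent.H81.Kun

section Package

variable {k : Type u} [Field k] {R S T : Type u} [CommRing R] [CommRing S] [CommRing T]
  [Algebra k R] [Algebra k S] [Algebra k T]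
  {𝒜 : ℤ → Submodule k R} [GradedAlgebra 𝒜] {ℬ : ℤ → Submodule k S} [GradedAlgebra ℬ]
  {C : GCx k 𝒜} {D : GCx k ℬ}
  (𝒯 : ℤ → Submodule k T) [GradedAlgebra 𝒯] {ψ : T →ₐ[k] R ⊗[k] S}
  (hT : GrSeg.IsSegreRing 𝒜 ℬ 𝒯 ψ)
variable {M : Type u} [AddCommGroup M] [Module R M] [Module k M] [IsScalarTower k R M]
  {ℳ : ℤ → AddSubgroup M} [DirectSum.Decomposition ℳ] [SetLike.GradedSMul 𝒜 ℳ]
  {N : Type u} [AddCommGroup N] [Module S N] [Module k N] [IsScalarTower k S N]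
  {𝒩 : ℤ → AddSubgroup N} [DirectSum.Decomposition 𝒩] [SetLike.GradedSMul ℬ 𝒩]
  (εC : GAug C ℳ) (εD : GAug D 𝒩)
variable {P : Type u} [AddCommGroup P] [Module T P] [Module k P] [IsScalarTower k T P]
  {𝒬 : ℤ → AddSubgroup P} [DirectSum.Decomposition 𝒬] [SetLike.GradedSMul 𝒯 𝒬]
  {φ : P →ₗ[k] M ⊗[k] N} (hP : GrSeg.IsSegreMod ψ ℳ 𝒩 𝒬 φ)
variable [IsNoetherianRing R] [IsNoetherianRing S] [IsNoetherianRing T]
  [IsNoetherianRing (R ⊗[k] S)]
  {mR : Ideal R} {mS : Ideal S} (mT : HomogeneousIdeal 𝒯) (hI : IdealHyp ψ mR mS mT.toIdeal)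
  (hC : ∀ a j, Subsingleton (LocCoh.H mR (j + 1) (C.X a)))
  (hD : ∀ b j, Subsingleton (LocCoh.H mS (j + 1) (D.X b)))
  (hex : TotExact C D)

/-- the degree `d` part of `H^q(Γ_P(Tot(C # D)))` is the cohomology of the torsion part of the
total complex of the degree `d` parts -/
theorem exists_Theta_T (q : ℕ) (d : ℤ) :
    ∃ Θ : Hs (DZ C D d) (fun n => LinearMap.ker (QZ C D d mR mS n)) q →+
        (totRes 𝒯 hT εC εD hP mT hI hC hD hex).H q,
      Function.Injective Θ ∧ (∀ (c : k) z, Θ (c • z) = algebraMap k T c • Θ z) ∧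
      ∀ x, (∃ z, Θ z = x) ↔ x ∈ (totRes 𝒯 hT εC εD hP mT hI hC hD hex).Hgr q d := by
  letI := fun n => segTDec C D 𝒯 hT n
  letI := fun n => segTGradedSMul C D 𝒯 hT n
  exact exists_piece_map (DZ C D d) _ (segTGr C D 𝒯 hT) (dSeg C D 𝒯 hT) (dSeg_grHom C D 𝒯 hT)
    (fun n => GrLC.gam mT.toIdeal (SegT C D 𝒯 hT n))
    (fun n => GrStar.gam_isHomogeneous 𝒯 (segTGr C D 𝒯 hT n) mT) d
    (iotaS C D 𝒯 hT d) (iotaS_injective C D 𝒯 hT d) (iotaS_dSeg C D 𝒯 hT d)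
    (iotaS_smul C D 𝒯 hT d) (mem_segTGr_iff_exists C D 𝒯 hT d)
    (fun n u => (iotaS_mem_gam_iff C D 𝒯 hT d hI hC hD n u).symm) q

end Package

end Groth.Agent.H81.Seg
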