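import Mathlib
import Groth.Agent.H81.Seg.Degree
import Groth.Agent.H98.Ver.Res

set_option autoImplicit false
set_option linter.unusedSectionVars false
set_option linter.style.haveILetI false
universe u

/-!
# The graded complex of a *injective resolution, and the degree `d` part of its local cohomology
-/

namespace Groth.Agent.H81.Kun

/-- transfer of dimensions along a semilinear bijection onto a piece over the degree zero
subring -/
theorem finrank_eq_of_semilinear {k B : Type u} [Field k] [CommRing B] [Algebra k B]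
    (B0 : Subring B) (hB0 : ∀ b : B, b ∈ B0 ↔ ∃ c : k, algebraMap k B c = b)
    (hinj : Function.Injective (algebraMap k B))
    {W : Type u} [AddCommGroup W] [Module k W] {H : Type u} [AddCommGroup H] [Module B H]
    (Hc : Submodule B0 H) (Θ : W →+ H) (hΘ : Function.Injective Θ)
    (hsm : ∀ (c : k) (z : W), Θ (c • z) = algebraMap k B c • Θ z)
    (hr : ∀ x, (∃ z, Θ z = x) ↔ x ∈ Hc) : Module.finrank k W = Module.finrank B0 Hc := by
  let i : k → B0 := fun c => ⟨algebraMap k B c, (hB0 _).mpr ⟨c, rfl⟩⟩
  have hi : Function.Bijective i := by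
    constructor
    · intro c c' h
      exact hinj (congrArg Subtype.val h)
    · rintro ⟨b, hb⟩
      obtain ⟨c, rfl⟩ := (hB0 b).mp hb
      exact ⟨c, rfl⟩
  let j0 : W →+ Hc :=
    { toFun := fun z => ⟨Θ z, (hr _).mp ⟨z, rfl⟩⟩
      map_zero' := Subtype.ext (map_zero Θ)
      map_add' := fun a b => Subtype.ext (map_add Θ a b) }
  have hj : Function.Bijective j0 := by
    constructor
    · intro a b h
      exact hΘ (congrArg Subtype.val h)
    · rintro ⟨x, hx⟩
      obtain ⟨z, rfl⟩ := (hr x).mpr hx
      exact ⟨z, rfl⟩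
  let j : W ≃+ Hc := AddEquiv.ofBijective j0 hj
  have hc : ∀ (r : k) (m : W), j (r • m) = i r • j m := by
    intro r m
    apply Subtype.ext
    change Θ (r • m) = _
    rw [hsm]
    rfl
  unfold Module.finrank
  rw [rank_eq_of_equiv_equiv i j hi hc]

/-- transfer of finiteness along a semilinear bijection onto a piece over the degree zero
subring -/
theorem finite_of_semilinear {k B : Type u} [Field k] [CommRing B] [Nontrivial B] [Algebra k B]
    (B0 : Subring B) (hB0 : ∀ b : B, b ∈ B0 ↔ ∃ c : k, algebraMap k B c = b)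
    (hinj : Function.Injective (algebraMap k B))
    {W : Type u} [AddCommGroup W] [Module k W] {H : Type u} [AddCommGroup H] [Module B H]
    (Hc : Submodule B0 H) (Θ : W →+ H) (hΘ : Function.Injective Θ)
    (hsm : ∀ (c : k) (z : W), Θ (c • z) = algebraMap k B c • Θ z)
    (hr : ∀ x, (∃ z, Θ z = x) ↔ x ∈ Hc) [Module.Finite B0 Hc] : Module.Finite k W := by
  let i : k → B0 := fun c => ⟨algebraMap k B c, (hB0 _).mpr ⟨c, rfl⟩⟩
  have hi : Function.Bijective i := by
    constructor
    · intro c c' h
      exact hinj (congrArg Subtype.val h)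
    · rintro ⟨b, hb⟩
      obtain ⟨c, rfl⟩ := (hB0 b).mp hb
      exact ⟨c, rfl⟩
  let j0 : W →+ Hc :=
    { toFun := fun z => ⟨Θ z, (hr _).mp ⟨z, rfl⟩⟩
      map_zero' := Subtype.ext (map_zero Θ)
      map_add' := fun a b => Subtype.ext (map_add Θ a b) }
  have hj : Function.Bijective j0 := by
    constructor
    · intro a b h
      exact hΘ (congrArg Subtype.val h)
    · rintro ⟨x, hx⟩
      obtain ⟨z, rfl⟩ := (hr x).mpr hx
      exact ⟨z, rfl⟩
  let j : W ≃+ Hc := AddEquiv.ofBijective j0 hj
  have hc : ∀ (r : k) (m : W), j (r • m) = i r • j m := by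
    intro r m
    apply Subtype.ext
    change Θ (r • m) = _
    rw [hsm]
    rfl
  rw [← Module.rank_lt_aleph0_iff, rank_eq_of_equiv_equiv i j hi hc]
  exact Module.rank_lt_aleph0 B0 Hc

end Groth.Agent.H81.Kun

namespace Groth.Agent.H81.Seg

open scoped TensorProduct
open Groth.Agent.H98 Groth.Agent.H81.Kun

section OfRes

variable {k : Type u} [Field k] {R : Type u} [CommRing R] [Algebra k R]
  {𝒜 : ℤ → Submodule k R} [GradedAlgebra 𝒜]
  {M : Type u} [AddCommGroup M] [Module R M] {ℳ : ℤ → AddSubgroup M}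
  [DirectSum.Decomposition ℳ] [SetLike.GradedSMul 𝒜 ℳ] (E : GrLC.StarInjRes 𝒜 ℳ)

/-- the graded complex underlying a *injective resolution -/
noncomputable def ofRes : GCx k 𝒜 :=
  letI modk : ∀ n, Module k (E.X n).carrier := fun n => Module.compHom _ (algebraMap k R)
  haveI tower : ∀ n, IsScalarTower k R (E.X n).carrier := fun n =>
    IsScalarTower.of_algebraMap_smul (fun _ _ => rfl)
  { X := fun n => (E.X n).carrier
    gr := fun n => (E.X n).gr
    d := E.d
    d_gr := E.d_grHom
    dd := fun n x => by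
      have : E.d n x ∈ LinearMap.ker (E.d (n + 1)) := by
        rw [E.exact_succ n]
        exact ⟨x, rfl⟩
      exact this }

/-- the augmentation of a *injective resolution -/
noncomputable def augOfRes : GAug (ofRes (k := k) E) ℳ where
  ε := E.ε
  ε_gr := E.ε_grHom
  ε_inj := E.ε_injective
  ex0 := E.exact_zero
  ex := E.exact_succ

/-- the degree `d` part of `H^i_a(M)` is the cohomology of the torsion part of the degree `d` part
of the resolution -/
theorem exists_Theta_R (a : HomogeneousIdeal 𝒜) (i : ℕ) (d : ℤ) :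
    ∃ Θ : Hs ((ofRes (k := k) E).dP d) ((ofRes (k := k) E).tor d a.toIdeal) i →+ E.H a i,
      Function.Injective Θ ∧ (∀ (c : k) z, Θ (c • z) = algebraMap k R c • Θ z) ∧
      ∀ x, (∃ z, Θ z = x) ↔ x ∈ E.Hcomp a i d := by
  exact exists_piece_map ((ofRes (k := k) E).dP d) ((ofRes (k := k) E).tor d a.toIdeal)
    (fun n => (E.X n).gr) E.d E.d_grHom
    (fun n => GrLC.gam a.toIdeal (E.X n).carrier)
    (fun n => GrStar.gam_isHomogeneous 𝒜 (E.X n).gr a) d
    (fun n => ((ofRes (k := k) E).pc d n).subtype.toAddMonoidHom)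
    (fun n => Submodule.injective_subtype _) (fun n z => rfl)
    (fun n c z => rfl)
    (fun n x => ⟨fun hx => ⟨⟨x, hx⟩, rfl⟩, by rintro ⟨z, rfl⟩; exact z.2⟩)
    (fun n z => Iff.rfl) i

end OfRes

end Groth.Agent.H81.Seg
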