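import Mathlib
import Groth.Agent.H81.Seg.OfRes
import Groth.Agent.H98.GrStar.GrLES3
import Groth.Agent.H98.GrPieces

set_option autoImplicit false
set_option linter.unusedSectionVars false
set_option linter.style.haveILetI false
universe u

/-!
# Exactness of the degree `d` part of a graded resolution
-/

namespace Groth.Agent.H81.Seg

open scoped TensorProduct
open Groth.Agent.H98 Groth.Agent.H81.Kun

section DegExact

variable {k : Type u} [Field k] {R : Type u} [CommRing R] [Algebra k R]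
  {𝒜 : ℤ → Submodule k R} [GradedAlgebra 𝒜] (C : GCx k 𝒜) (d : ℤ)

/-- the degree `d` part of an exact graded complex is exact -/
theorem GCx.dP_exact (a : ℕ) (hex : LinearMap.ker (C.d (a + 1)) = LinearMap.range (C.d a)) :
    LinearMap.ker (C.dP d (a + 1)) = LinearMap.range (C.dP d a) := by
  apply le_antisymm
  · intro x hx
    have h1 : (x : C.X (a + 1)) ∈ LinearMap.ker (C.d (a + 1)) :=
      congrArg Subtype.val (LinearMap.mem_ker.mp hx)
    rw [hex] at h1
    obtain ⟨y0, hy0⟩ := h1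
    obtain ⟨y, hy, hyx⟩ := GrStar.exists_homog_preimage (C.gr a) (C.gr (a + 1))
      (DirectSum.Decomposition.isInternal _) (DirectSum.Decomposition.isInternal _)
      (C.d a) (C.d_gr a) x.2 y0 hy0
    exact ⟨⟨y, hy⟩, Subtype.ext hyx⟩
  · rintro _ ⟨y, rfl⟩
    exact LinearMap.mem_ker.mpr (C.dP_dP d a y)

variable {M : Type u} [AddCommGroup M] [Module R M] [Module k M] [IsScalarTower k R M]
  {ℳ : ℤ → AddSubgroup M} [DirectSum.Decomposition ℳ] [SetLike.GradedSMul 𝒜 ℳ]
  (εC : GAug C ℳ)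

/-- `M_d → ker (C^0_d → C^1_d)` -/
noncomputable def GAug.toKer : pieceSub 𝒜 ℳ d →ₗ[k] LinearMap.ker (C.dP d 0) where
  toFun x := ⟨⟨εC.ε x.1, εC.ε_gr d x.1 x.2⟩, by
    rw [LinearMap.mem_ker]
    apply Subtype.ext
    change C.d 0 (εC.ε x.1) = 0
    have : εC.ε x.1 ∈ LinearMap.ker (C.d 0) := by
      rw [εC.ex0]
      exact ⟨x.1, rfl⟩
    exact this⟩
  map_add' x y := Subtype.ext (Subtype.ext (map_add εC.ε x.1 y.1))
  map_smul' c x := Subtype.ext (Subtype.ext (by
    change εC.ε (c • x.1) = c • εC.ε x.1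
    rw [← algebraMap_smul R c x.1, map_smul, algebraMap_smul]))

theorem GAug.toKer_coe (x : pieceSub 𝒜 ℳ d) : ((εC.toKer C d x : C.pc d 0) : C.X 0) = εC.ε x.1 :=
  rfl

theorem GAug.toKer_bijective : Function.Bijective (εC.toKer C d) := by
  constructor
  · intro x y hxy
    have h : εC.ε x.1 = εC.ε y.1 := by
      have := congrArg (fun z : LinearMap.ker (C.dP d 0) => ((z : C.pc d 0) : C.X 0)) hxy
      exact this
    exact Subtype.ext (εC.ε_inj h)
  · rintro ⟨x, hx⟩
    have h1 : (x : C.X 0) ∈ LinearMap.ker (C.d 0) :=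
      congrArg Subtype.val (LinearMap.mem_ker.mp hx)
    rw [εC.ex0] at h1
    obtain ⟨m0, hm0⟩ := h1
    obtain ⟨m, hm, hmx⟩ := GrStar.exists_homog_preimage ℳ (C.gr 0)
      (DirectSum.Decomposition.isInternal _) (DirectSum.Decomposition.isInternal _)
      εC.ε εC.ε_gr x.2 m0 hm0
    exact ⟨⟨m, hm⟩, Subtype.ext (Subtype.ext hmx)⟩

/-- `M_d ≃ ker (C^0_d → C^1_d)` -/
noncomputable def GAug.kerEquiv : pieceSub 𝒜 ℳ d ≃ₗ[k] LinearMap.ker (C.dP d 0) :=
  LinearEquiv.ofBijective (εC.toKer C d) (εC.toKer_bijective C d)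

end DegExact

end Groth.Agent.H81.Seg
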