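import Mathlib
import Groth.Agent.H81.Seg.DegExact
import Groth.Agent.H98.GrStar.PieceApps

set_option autoImplicit false
set_option linter.unusedSectionVars false
set_option linter.style.haveILetI false
universe u

/-!
# One side of the Künneth formula: pieces of `H^i_m(M)` as cohomology of `k`-vector spaces
-/

namespace Groth.Agent.H81.Seg

open scoped TensorProduct
open Groth.Agent.H98 Groth.Agent.H81.Kun

section Side

variable {k : Type u} [Field k] {R : Type u} [CommRing R] [Nontrivial R] [Algebra k R]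
  (𝒜 : ℤ → Submodule k R) [GradedAlgebra 𝒜]
  (h0 : 𝒜 0 = Submodule.span k {(1 : R)})

include h0 in
theorem mem_deg0_iff (b : R) : b ∈ GrLC.deg0 𝒜 ↔ ∃ c : k, algebraMap k R c = b := by
  change b ∈ 𝒜 0 ↔ _
  rw [h0, Submodule.mem_span_singleton]
  constructor
  · rintro ⟨c, rfl⟩
    exact ⟨c, Algebra.algebraMap_eq_smul_one c⟩
  · rintro ⟨c, rfl⟩
    exact ⟨c, (Algebra.algebraMap_eq_smul_one c).symm⟩

variable {M : Type u} [AddCommGroup M] [Module R M] {ℳ : ℤ → AddSubgroup M}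
  [DirectSum.Decomposition ℳ] [SetLike.GradedSMul 𝒜 ℳ] (E : GrLC.StarInjRes 𝒜 ℳ)
  (a : HomogeneousIdeal 𝒜)

include h0 in
theorem finrank_Hcomp_eq (i : ℕ) (d : ℤ) :
    Module.finrank (GrLC.deg0 𝒜) (E.Hcomp a i d) =
      Module.finrank k (Hs ((ofRes (k := k) E).dP d) ((ofRes (k := k) E).tor d a.toIdeal) i) := by
  obtain ⟨Θ, hΘ, hsm, hr⟩ := exists_Theta_R (k := k) E a i d
  exact (finrank_eq_of_semilinear (GrLC.deg0 𝒜) (mem_deg0_iff 𝒜 h0) (algebraMap k R).injective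
    (E.Hcomp a i d) Θ hΘ hsm hr).symm

include h0 in
theorem finite_Hs [IsNoetherianRing R] [Module.Finite R M] (hpos : ∀ n : ℤ, n < 0 → 𝒜 n = ⊥)
    (ha : a.toIdeal = Ideal.span (⋃ n ∈ Set.Ioi (0 : ℤ), (𝒜 n : Set R))) (i : ℕ) (d : ℤ) :
    Module.Finite k (Hs ((ofRes (k := k) E).dP d) ((ofRes (k := k) E).tor d a.toIdeal) i) := by
  obtain ⟨Θ, hΘ, hsm, hr⟩ := exists_Theta_R (k := k) E a i d
  haveI : Module.Finite R (GrLC.GMod.of 𝒜 M ℳ).carrier := ‹Module.Finite R M›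
  haveI : Module.Finite (GrLC.deg0 𝒜) (E.Hcomp a i d) :=
    GrStar.finite_Hcomp 𝒜 (fun n hn r hr => by
      rw [hpos n hn] at hr
      exact (Submodule.mem_bot k).mp hr) a ha (GrLC.GMod.of 𝒜 M ℳ) E i d
  exact finite_of_semilinear (GrLC.deg0 𝒜) (mem_deg0_iff 𝒜 h0) (algebraMap k R).injective
    (E.Hcomp a i d) Θ hΘ hsm hr

theorem Hs_eq_zero_of_Hcomp_eq_bot (i : ℕ) (d : ℤ) (hvan : E.Hcomp a i d = ⊥)
    (z : Hs ((ofRes (k := k) E).dP d) ((ofRes (k := k) E).tor d a.toIdeal) i) : z = 0 := by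
  obtain ⟨Θ, hΘ, -, hr⟩ := exists_Theta_R (k := k) E a i d
  have h1 : Θ z ∈ E.Hcomp a i d := (hr _).mp ⟨z, rfl⟩
  rw [hvan, Submodule.mem_bot] at h1
  exact hΘ (h1.trans (map_zero Θ).symm)

theorem hU0_of_vanish (d : ℤ) (hvan : E.Hcomp a 0 d = ⊥) :
    ∀ x ∈ (ofRes (k := k) E).tor d a.toIdeal 0, (ofRes (k := k) E).dP d 0 x = 0 → x = 0 := by
  intro x hx hdx
  have hc : x ∈ cocyc ((ofRes (k := k) E).dP d) ((ofRes (k := k) E).tor d a.toIdeal) 0 :=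
    ⟨hx, hdx⟩
  have h1 := Hs_eq_zero_of_Hcomp_eq_bot (k := k) 𝒜 E a 0 d hvan (Submodule.Quotient.mk ⟨x, hc⟩)
  rw [Submodule.Quotient.mk_eq_zero] at h1
  exact h1

theorem hU1_of_vanish (d : ℤ) (hvan : E.Hcomp a 1 d = ⊥) :
    ∀ x ∈ (ofRes (k := k) E).tor d a.toIdeal 1, (ofRes (k := k) E).dP d 1 x = 0 →
      ∃ y ∈ (ofRes (k := k) E).tor d a.toIdeal 0, (ofRes (k := k) E).dP d 0 y = x := by
  intro x hx hdx
  have hc : x ∈ cocyc ((ofRes (k := k) E).dP d) ((ofRes (k := k) E).tor d a.toIdeal) 1 :=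
    ⟨hx, hdx⟩
  have h1 := Hs_eq_zero_of_Hcomp_eq_bot (k := k) 𝒜 E a 1 d hvan (Submodule.Quotient.mk ⟨x, hc⟩)
  rw [Submodule.Quotient.mk_eq_zero] at h1
  exact h1

variable [Module k M] [IsScalarTower k R M]

include h0 in
theorem finrank_comp_eq (d : ℤ) :
    Module.finrank (GrLC.deg0 𝒜) (GrLC.comp 𝒜 ℳ d) =
      Module.finrank k (LinearMap.ker ((ofRes (k := k) E).dP d 0)) := by
  rw [← ((augOfRes (k := k) E).kerEquiv (ofRes (k := k) E) d).finrank_eq]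
  refine (finrank_eq_of_semilinear (GrLC.deg0 𝒜) (mem_deg0_iff 𝒜 h0) (algebraMap k R).injective
    (GrLC.comp 𝒜 ℳ d) (pieceSub 𝒜 ℳ d).subtype.toAddMonoidHom (Submodule.injective_subtype _)
    (fun c z => ?_) (fun x => ?_)).symm
  · change ((c • z : pieceSub 𝒜 ℳ d) : M) = algebraMap k R c • (z : M)
    rw [Submodule.coe_smul, algebraMap_smul]
  · constructor
    · rintro ⟨z, rfl⟩
      exact z.2
    · intro hx
      exact ⟨⟨x, hx⟩, rfl⟩

include h0 in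
theorem finite_ker0 [IsNoetherianRing R] [Module.Finite R M] (hpos : ∀ n : ℤ, n < 0 → 𝒜 n = ⊥)
    (d : ℤ) : Module.Finite k (LinearMap.ker ((ofRes (k := k) E).dP d 0)) := by
  haveI := finite_pieceSub 𝒜 ℳ hpos h0 d
  exact Module.Finite.equiv ((augOfRes (k := k) E).kerEquiv (ofRes (k := k) E) d)

end Side

end Groth.Agent.H81.Seg
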