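import Mathlib
import Groth.Agent.H81.Seg.Side
import Groth.Agent.H81.Seg.CompareT
import Groth.Agent.H98.GrStar.LCAcyc
import Groth.Agent.H85.SegreRingFacts

set_option autoImplicit false
set_option linter.unusedSectionVars false
set_option linter.style.haveILetI false
universe u

/-!
# The Künneth formula for the local cohomology of Segre products: assembly
-/

namespace Groth.Agent.H81.Seg

open scoped TensorProduct
open Groth.Agent.H98 Groth.Agent.H81.Kun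

section Assemble

variable {k : Type u} [Field k] {R : Type u} [CommRing R] [Nontrivial R] [Algebra k R]
  (𝒜 : ℤ → Submodule k R) [GradedAlgebra 𝒜]
  (h0R : 𝒜 0 = Submodule.span k {(1 : R)}) [Algebra.FiniteType k R]
  {S : Type u} [CommRing S] [Nontrivial S] [Algebra k S]
  (ℬ : ℤ → Submodule k S) [GradedAlgebra ℬ]
  (h0S : ℬ 0 = Submodule.span k {(1 : S)}) [Algebra.FiniteType k S]
  {T : Type u} [CommRing T] [Algebra k T] (𝒯 : ℤ → Submodule k T) [GradedAlgebra 𝒯]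
  {ψ : T →ₐ[k] R ⊗[k] S} (hT : GrSeg.IsSegreRing 𝒜 ℬ 𝒯 ψ)
  (mR : HomogeneousIdeal 𝒜)
  (hmR : mR.toIdeal = Ideal.span (⋃ n ∈ Set.Ioi (0 : ℤ), (𝒜 n : Set R)))
  (mS : HomogeneousIdeal ℬ)
  (hmS : mS.toIdeal = Ideal.span (⋃ n ∈ Set.Ioi (0 : ℤ), (ℬ n : Set S)))
  (mT : HomogeneousIdeal 𝒯)
  (hmT : mT.toIdeal = Ideal.span (⋃ n ∈ Set.Ioi (0 : ℤ), (𝒯 n : Set T)))
  {M : Type u} [AddCommGroup M] [Module R M] [Module k M] [IsScalarTower k R M]
  {ℳ : ℤ → AddSubgroup M} [DirectSum.Decomposition ℳ] [SetLike.GradedSMul 𝒜 ℳ]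
  (EM : GrLC.StarInjRes 𝒜 ℳ)
  {N : Type u} [AddCommGroup N] [Module S N] [Module k N] [IsScalarTower k S N]
  {𝒩 : ℤ → AddSubgroup N} [DirectSum.Decomposition 𝒩] [SetLike.GradedSMul ℬ 𝒩]
  (EN : GrLC.StarInjRes ℬ 𝒩)
  {P : Type u} [AddCommGroup P] [Module T P] [Module k P] [IsScalarTower k T P]
  {𝒬 : ℤ → AddSubgroup P} [DirectSum.Decomposition 𝒬] [SetLike.GradedSMul 𝒯 𝒬]
  {φ : P →ₗ[k] M ⊗[k] N} (hP : GrSeg.IsSegreMod ψ ℳ 𝒩 𝒬 φ)
  (EP : GrLC.StarInjRes 𝒯 𝒬)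

include h0R h0S hT hmR hmS hmT hP in
/-- the degree `d` part of `H^q_{T_+}(M # N)` has the dimension of the cohomology of the torsion
part of the total complex of the degree `d` parts of the resolutions of `M` and `N` -/
theorem finrank_Hcomp_segre_eq (hex : TotExact (ofRes (k := k) EM) (ofRes (k := k) EN))
    (q : ℕ) (d : ℤ) :
    Module.finrank (GrLC.deg0 𝒯) (EP.Hcomp mT q d) =
      Module.finrank k (Hs (DZ (ofRes (k := k) EM) (ofRes (k := k) EN) d)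
        (fun n => LinearMap.ker (QZ (ofRes (k := k) EM) (ofRes (k := k) EN) d
          mR.toIdeal mS.toIdeal n)) q) := by
  haveI : IsNoetherianRing R := Algebra.FiniteType.isNoetherianRing k R
  haveI : IsNoetherianRing S := Algebra.FiniteType.isNoetherianRing k S
  haveI ftA : Algebra.FiniteType k (R ⊗[k] S) :=
    Algebra.FiniteType.trans (inferInstance : Algebra.FiniteType k R)
      (inferInstance : Algebra.FiniteType R (R ⊗[k] S))
  haveI : IsNoetherianRing (R ⊗[k] S) := Algebra.FiniteType.isNoetherianRing k _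
  haveI : IsNoetherianRing T := segre_ring_isNoetherian 𝒜 ℬ 𝒯 ψ hT
  haveI : Nontrivial T := by
    refine ⟨⟨0, 1, fun h => ?_⟩⟩
    have h1 : ψ 0 = ψ 1 := congrArg ψ h
    rw [map_zero, map_one] at h1
    exact zero_ne_one h1
  have hI : IdealHyp ψ mR.toIdeal mS.toIdeal mT.toIdeal := by
    rw [hmR, hmS, hmT]
    exact idealHyp 𝒜 ℬ 𝒯 hT
  have hC : ∀ a j, Subsingleton (LocCoh.H mR.toIdeal (j + 1) ((ofRes (k := k) EM).X a)) :=
    fun a j => GrStar.locCoh_subsingleton_of_isStarInj 𝒜 (EM.X a).gr mR (EM.starInj a) (j + 1)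
      (Nat.le_add_left 1 j)
  have hD : ∀ b j, Subsingleton (LocCoh.H mS.toIdeal (j + 1) ((ofRes (k := k) EN).X b)) :=
    fun b j => GrStar.locCoh_subsingleton_of_isStarInj ℬ (EN.X b).gr mS (EN.starInj b) (j + 1)
      (Nat.le_add_left 1 j)
  let V := totRes 𝒯 hT (augOfRes (k := k) EM) (augOfRes (k := k) EN) hP mT hI hC hD hex
  obtain ⟨e, he⟩ := V.exists_equiv EP q
  obtain ⟨Θ, hΘ, hsm, hr⟩ := exists_Theta_T 𝒯 hT (augOfRes (k := k) EM) (augOfRes (k := k) EN)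
    hP mT hI hC hD hex q d
  have h0T : 𝒯 0 = Submodule.span k {(1 : T)} :=
    Groth.Agent.H85.SegreRingFacts.segre_h0 𝒜 ℬ 𝒯 ψ hT.1 hT.2 h0R h0S
  refine (finrank_eq_of_semilinear (GrLC.deg0 𝒯) (mem_deg0_iff 𝒯 h0T) (algebraMap k T).injective
    (EP.Hcomp mT q d) (e.toLinearMap.toAddMonoidHom.comp Θ) (e.injective.comp hΘ)
    (fun c z => ?_) (fun x => ?_)).symm
  · change e (Θ (c • z)) = algebraMap k T c • e (Θ z)
    rw [hsm, map_smul]
  · constructor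
    · rintro ⟨z, rfl⟩
      exact (he d _).mp ((hr _).mp ⟨z, rfl⟩)
    · intro hx
      have h1 : e.symm x ∈ V.Hgr q d := by
        rw [he d, LinearEquiv.apply_symm_apply]
        exact hx
      obtain ⟨z, hz⟩ := (hr _).mpr h1
      refine ⟨z, ?_⟩
      change e (Θ z) = x
      rw [hz, LinearEquiv.apply_symm_apply]

end Assemble

end Groth.Agent.H81.Seg

namespace Groth.Agent.H81.Seg

open scoped TensorProduct
open Groth.Agent.H98 Groth.Agent.H81.Kun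

/-- the linear algebra input: the Künneth formula for the torsion parts -/
def KunMain (k : Type u) [Field k] : Prop :=
  ∀ {U : ℕ → Type u} [∀ a, AddCommGroup (U a)] [∀ a, Module k (U a)]
    {V : ℕ → Type u} [∀ b, AddCommGroup (V b)] [∀ b, Module k (V b)]
    (dU : ∀ a, U a →ₗ[k] U (a + 1)) (dV : ∀ b, V b →ₗ[k] V (b + 1))
    (_ : ∀ a x, dU (a + 1) (dU a x) = 0) (_ : ∀ b y, dV (b + 1) (dV b y) = 0)
    (U' : ∀ a, Submodule k (U a)) (_ : ∀ a x, x ∈ U' a → dU a x ∈ U' (a + 1))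
    (V' : ∀ b, Submodule k (V b)) (_ : ∀ b y, y ∈ V' b → dV b y ∈ V' (b + 1))
    (_ : ∀ a, LinearMap.ker (dU (a + 1)) = LinearMap.range (dU a))
    (_ : ∀ b, LinearMap.ker (dV (b + 1)) = LinearMap.range (dV b))
    (_ : ∀ x ∈ U' 0, dU 0 x = 0 → x = 0)
    (_ : ∀ x ∈ U' 1, dU 1 x = 0 → ∃ y ∈ U' 0, dU 0 y = x)
    (_ : ∀ y ∈ V' 0, dV 0 y = 0 → y = 0)
    (_ : ∀ y ∈ V' 1, dV 1 y = 0 → ∃ z ∈ V' 0, dV 0 z = y)
    (_ : ∀ i, Module.Finite k (Hs dU U' i)) (_ : ∀ j, Module.Finite k (Hs dV V' j))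
    (_ : Module.Finite k (LinearMap.ker (dU 0))) (_ : Module.Finite k (LinearMap.ker (dV 0)))
    (q : ℕ),
    Module.finrank k (Hs (TotD dU dV)
        (fun n => LinearMap.ker (TotMap (fun a => (U' a).mkQ) (fun b => (V' b).mkQ) n)) q) =
      Module.finrank k (LinearMap.ker (dU 0)) * Module.finrank k (Hs dV V' q) +
        Module.finrank k (Hs dU U' q) * Module.finrank k (LinearMap.ker (dV 0)) +
        ∑ i ∈ Finset.range (q + 2),
          Module.finrank k (Hs dU U' i) * Module.finrank k (Hs dV V' (q + 1 - i))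

/-- the linear algebra input: the total complex of two resolutions is a resolution -/
def TotMain (k : Type u) [Field k] : Prop :=
  ∀ {U : ℕ → Type u} [∀ a, AddCommGroup (U a)] [∀ a, Module k (U a)]
    {V : ℕ → Type u} [∀ b, AddCommGroup (V b)] [∀ b, Module k (V b)]
    (dU : ∀ a, U a →ₗ[k] U (a + 1)) (dV : ∀ b, V b →ₗ[k] V (b + 1))
    (_ : ∀ a x, dU (a + 1) (dU a x) = 0) (_ : ∀ b y, dV (b + 1) (dV b y) = 0)
    (_ : ∀ a, LinearMap.ker (dU (a + 1)) = LinearMap.range (dU a))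
    (_ : ∀ b, LinearMap.ker (dV (b + 1)) = LinearMap.range (dV b)),
    (LinearMap.ker (TotD dU dV 0) =
      LinearMap.range ((inc (k := k) (U := U) (V := V) (show 0 + 0 = 0 from rfl)) ∘ₗ
        TensorProduct.map (LinearMap.ker (dU 0)).subtype (LinearMap.ker (dV 0)).subtype)) ∧
    ∀ n, LinearMap.ker (TotD dU dV (n + 1)) = LinearMap.range (TotD dU dV n)

section Final

variable {k : Type u} [Field k] {R : Type u} [CommRing R] [Nontrivial R] [Algebra k R]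
  (𝒜 : ℤ → Submodule k R) [GradedAlgebra 𝒜] (hposR : ∀ n : ℤ, n < 0 → 𝒜 n = ⊥)
  (h0R : 𝒜 0 = Submodule.span k {(1 : R)}) [Algebra.FiniteType k R]
  {S : Type u} [CommRing S] [Nontrivial S] [Algebra k S]
  (ℬ : ℤ → Submodule k S) [GradedAlgebra ℬ] (hposS : ∀ n : ℤ, n < 0 → ℬ n = ⊥)
  (h0S : ℬ 0 = Submodule.span k {(1 : S)}) [Algebra.FiniteType k S]
  {T : Type u} [CommRing T] [Algebra k T] (𝒯 : ℤ → Submodule k T) [GradedAlgebra 𝒯]
  {ψ : T →ₐ[k] R ⊗[k] S} (hT : GrSeg.IsSegreRing 𝒜 ℬ 𝒯 ψ)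
  (mR : HomogeneousIdeal 𝒜)
  (hmR : mR.toIdeal = Ideal.span (⋃ n ∈ Set.Ioi (0 : ℤ), (𝒜 n : Set R)))
  (mS : HomogeneousIdeal ℬ)
  (hmS : mS.toIdeal = Ideal.span (⋃ n ∈ Set.Ioi (0 : ℤ), (ℬ n : Set S)))
  (mT : HomogeneousIdeal 𝒯)
  (hmT : mT.toIdeal = Ideal.span (⋃ n ∈ Set.Ioi (0 : ℤ), (𝒯 n : Set T)))
  {M : Type u} [AddCommGroup M] [Module R M] [Module k M] [IsScalarTower k R M]
  {ℳ : ℤ → AddSubgroup M} [DirectSum.Decomposition ℳ] [SetLike.GradedSMul 𝒜 ℳ]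
  [Module.Finite R M] (EM : GrLC.StarInjRes 𝒜 ℳ)
  {N : Type u} [AddCommGroup N] [Module S N] [Module k N] [IsScalarTower k S N]
  {𝒩 : ℤ → AddSubgroup N} [DirectSum.Decomposition 𝒩] [SetLike.GradedSMul ℬ 𝒩]
  [Module.Finite S N] (EN : GrLC.StarInjRes ℬ 𝒩)
  {P : Type u} [AddCommGroup P] [Module T P] [Module k P] [IsScalarTower k T P]
  {𝒬 : ℤ → AddSubgroup P} [DirectSum.Decomposition 𝒬] [SetLike.GradedSMul 𝒯 𝒬]
  {φ : P →ₗ[k] M ⊗[k] N} (hP : GrSeg.IsSegreMod ψ ℳ 𝒩 𝒬 φ)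
  (EP : GrLC.StarInjRes 𝒯 𝒬)

include hposR h0R hposS h0S hT hmR hmS hmT hP in
/-- **Künneth formula for the local cohomology of Segre products**, degree by degree, modulo the
linear algebra inputs -/
theorem kunneth_modules (hmain : KunMain k) (htot : TotMain k)
    (hM : ∀ (q : ℕ) (d : ℤ), q ≤ 1 → EM.Hcomp mR q d = ⊥)
    (hN : ∀ (q : ℕ) (d : ℤ), q ≤ 1 → EN.Hcomp mS q d = ⊥) (q : ℕ) (d : ℤ) :
    Module.finrank (GrLC.deg0 𝒯) (EP.Hcomp mT q d) =
      Module.finrank (GrLC.deg0 𝒜) (GrLC.comp 𝒜 ℳ d) *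
          Module.finrank (GrLC.deg0 ℬ) (EN.Hcomp mS q d) +
        Module.finrank (GrLC.deg0 𝒜) (EM.Hcomp mR q d) *
          Module.finrank (GrLC.deg0 ℬ) (GrLC.comp ℬ 𝒩 d) +
        (Finset.range (q + 2)).sum (fun i => Module.finrank (GrLC.deg0 𝒜) (EM.Hcomp mR i d) *
          Module.finrank (GrLC.deg0 ℬ) (EN.Hcomp mS (q + 1 - i) d)) := by
  haveI : IsNoetherianRing R := Algebra.FiniteType.isNoetherianRing k R
  haveI : IsNoetherianRing S := Algebra.FiniteType.isNoetherianRing k S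
  have hdC : ∀ a x, (ofRes (k := k) EM).dk (a + 1) ((ofRes (k := k) EM).dk a x) = 0 :=
    (ofRes (k := k) EM).dk_dk
  have hdD : ∀ b y, (ofRes (k := k) EN).dk (b + 1) ((ofRes (k := k) EN).dk b y) = 0 :=
    (ofRes (k := k) EN).dk_dk
  have hexC : ∀ a, LinearMap.ker ((ofRes (k := k) EM).dk (a + 1)) =
      LinearMap.range ((ofRes (k := k) EM).dk a) := by
    intro a
    ext x
    have h := EM.exact_succ a
    constructor
    · intro hx
      have : x ∈ LinearMap.ker (EM.d (a + 1)) := hx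
      rw [h] at this
      obtain ⟨y, rfl⟩ := this
      exact ⟨y, rfl⟩
    · rintro ⟨y, rfl⟩
      exact hdC a y
  have hexD : ∀ b, LinearMap.ker ((ofRes (k := k) EN).dk (b + 1)) =
      LinearMap.range ((ofRes (k := k) EN).dk b) := by
    intro b
    ext x
    have h := EN.exact_succ b
    constructor
    · intro hx
      have : x ∈ LinearMap.ker (EN.d (b + 1)) := hx
      rw [h] at this
      obtain ⟨y, rfl⟩ := this
      exact ⟨y, rfl⟩
    · rintro ⟨y, rfl⟩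
      exact hdD b y
  have hex : TotExact (ofRes (k := k) EM) (ofRes (k := k) EN) :=
    ⟨(htot _ _ hdC hdD hexC hexD).1, (htot _ _ hdC hdD hexC hexD).2⟩
  rw [finrank_Hcomp_segre_eq 𝒜 h0R ℬ h0S 𝒯 hT mR hmR mS hmS mT hmT EM EN hP EP hex q d,
    finrank_comp_eq 𝒜 h0R EM d, finrank_comp_eq ℬ h0S EN d,
    finrank_Hcomp_eq 𝒜 h0R EM mR q d, finrank_Hcomp_eq ℬ h0S EN mS q d]
  rw [Finset.sum_congr rfl (fun i _ => by
    rw [finrank_Hcomp_eq 𝒜 h0R EM mR i d, finrank_Hcomp_eq ℬ h0S EN mS (q + 1 - i) d])]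
  exact hmain ((ofRes (k := k) EM).dP d) ((ofRes (k := k) EN).dP d)
    ((ofRes (k := k) EM).dP_dP d) ((ofRes (k := k) EN).dP_dP d)
    ((ofRes (k := k) EM).tor d mR.toIdeal) ((ofRes (k := k) EM).dP_mem_tor d mR.toIdeal)
    ((ofRes (k := k) EN).tor d mS.toIdeal) ((ofRes (k := k) EN).dP_mem_tor d mS.toIdeal)
    (fun a => (ofRes (k := k) EM).dP_exact d a (EM.exact_succ a))
    (fun b => (ofRes (k := k) EN).dP_exact d b (EN.exact_succ b))
    (hU0_of_vanish 𝒜 EM mR d (hM 0 d (by omega)))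
    (hU1_of_vanish 𝒜 EM mR d (hM 1 d (by omega)))
    (hU0_of_vanish ℬ EN mS d (hN 0 d (by omega)))
    (hU1_of_vanish ℬ EN mS d (hN 1 d (by omega)))
    (fun i => finite_Hs 𝒜 h0R EM mR hposR hmR i d)
    (fun j => finite_Hs ℬ h0S EN mS hposS hmS j d)
    (finite_ker0 𝒜 h0R EM hposR d) (finite_ker0 ℬ h0S EN hposS d) q

end Final

end Groth.Agent.H81.Seg
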