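import Mathlib
import Groth.Agent.H81.Seg.Kunneth
import Groth.Agent.H98.GrStar.Self

set_option autoImplicit false
set_option linter.unusedSectionVars false
set_option linter.style.haveILetI false
universe u

/-!
# The ring case of the Künneth formula for Segre products
-/

namespace Groth.Agent.H81.Seg

open scoped TensorProduct
open Groth.Agent.H98 Groth.Agent.H81.Kun Groth.Agent.H98.GrStar

section SelfRes

variable {k : Type u} [Field k] {R : Type u} [CommRing R] [Algebra k R]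
  (𝒜 : ℤ → Submodule k R) [GradedAlgebra 𝒜]

/-- a *injective resolution of `R` graded by submodules is one of `R` graded by additive
subgroups -/
def selfRes (I : GrLC.StarInjRes 𝒜 𝒜) : GrLC.StarInjRes 𝒜 (selfGr 𝒜) where
  X := I.X
  d := I.d
  ε := I.ε
  d_grHom := I.d_grHom
  ε_grHom := fun g m hm => I.ε_grHom g m hm
  ε_injective := I.ε_injective
  exact_zero := I.exact_zero
  exact_succ := I.exact_succ
  starInj := I.starInj

theorem selfRes_Hcomp (I : GrLC.StarInjRes 𝒜 𝒜) (a : HomogeneousIdeal 𝒜) (i : ℕ) (d : ℤ) :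
    (selfRes 𝒜 I).Hcomp a i d = I.Hcomp a i d := rfl

theorem pieceSub_selfGr (d : ℤ) : pieceSub 𝒜 (selfGr 𝒜) d = 𝒜 d :=
  Submodule.ext fun _ => Iff.rfl

end SelfRes

section Comp

variable {k : Type u} [Field k] {R : Type u} [CommRing R] [Nontrivial R] [Algebra k R]
  (𝒜 : ℤ → Submodule k R) [GradedAlgebra 𝒜]
  (h0 : 𝒜 0 = Submodule.span k {(1 : R)})
  {M : Type u} [AddCommGroup M] [Module R M] [Module k M] [IsScalarTower k R M]
  (ℳ : ℤ → AddSubgroup M) [DirectSum.Decomposition ℳ] [SetLike.GradedSMul 𝒜 ℳ]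

include h0 in
theorem finrank_comp_eq_pieceSub (d : ℤ) :
    Module.finrank (GrLC.deg0 𝒜) (GrLC.comp 𝒜 ℳ d) = Module.finrank k (pieceSub 𝒜 ℳ d) := by
  refine (finrank_eq_of_semilinear (GrLC.deg0 𝒜) (mem_deg0_iff 𝒜 h0) (algebraMap k R).injective
    (GrLC.comp 𝒜 ℳ d) (pieceSub 𝒜 ℳ d).subtype.toAddMonoidHom (Submodule.injective_subtype _)
    (fun c z => ?_) (fun x => ?_)).symm
  · change ((c • z : pieceSub 𝒜 ℳ d) : M) = algebraMap k R c • (z : M)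
    rw [Submodule.coe_smul, algebraMap_smul]
  · constructor
    · rintro ⟨z, rfl⟩
      exact z.2
    · intro hx
      exact ⟨⟨x, hx⟩, rfl⟩

end Comp

section Ring

variable {k : Type u} [Field k] {R : Type u} [CommRing R] [Nontrivial R] [Algebra k R]
  (𝒜 : ℤ → Submodule k R) [GradedAlgebra 𝒜] (hposR : ∀ n : ℤ, n < 0 → 𝒜 n = ⊥)
  (h0R : 𝒜 0 = Submodule.span k {(1 : R)}) [Algebra.FiniteType k R]
  {S : Type u} [CommRing S] [Nontrivial S] [Algebra k S]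
  (ℬ : ℤ → Submodule k S) [GradedAlgebra ℬ] (hposS : ∀ n : ℤ, n < 0 → ℬ n = ⊥)
  (h0S : ℬ 0 = Submodule.span k {(1 : S)}) [Algebra.FiniteType k S]
  {T : Type u} [CommRing T] [Algebra k T] (𝒯 : ℤ → Submodule k T) [GradedAlgebra 𝒯]
  {ψ : T →ₐ[k] R ⊗[k] S} (hT : GrSeg.IsSegreRing 𝒜 ℬ 𝒯 ψ)
  (mR : HomogeneousIdeal 𝒜)
  (hmR : mR.toIdeal = Ideal.span (⋃ n ∈ Set.Ioi (0 : ℤ), (𝒜 n : Set R)))
  (mS : HomogeneousIdeal ℬ)
  (hmS : mS.toIdeal = Ideal.span (⋃ n ∈ Set.Ioi (0 : ℤ), (ℬ n : Set S)))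
  (mT : HomogeneousIdeal 𝒯)
  (hmT : mT.toIdeal = Ideal.span (⋃ n ∈ Set.Ioi (0 : ℤ), (𝒯 n : Set T)))
  (I : GrLC.StarInjRes 𝒜 𝒜) (J : GrLC.StarInjRes ℬ ℬ) (IT : GrLC.StarInjRes 𝒯 𝒯)

include hT in
theorem isSegreMod_self : GrSeg.IsSegreMod ψ (selfGr 𝒜) (selfGr ℬ) (selfGr 𝒯) ψ.toLinearMap := by
  refine ⟨hT.1, ?_, ?_⟩
  · intro n
    have := hT.2 n
    change _ = ((GrSeg.segrePiece k 𝒜 ℬ n : Submodule k (R ⊗[k] S)) : Set (R ⊗[k] S))
    rw [← this]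
    rfl
  · intro t p
    change ψ (t * p) = _
    rw [map_mul]
    exact (act_self_eq_mul _ _).symm

include hposR h0R hposS h0S hT hmR hmS hmT in
/-- the ring case of the Künneth formula, modulo the linear algebra inputs -/
theorem kunneth_rings (hmain : KunMain k) (htot : TotMain k)
    (hR : ∀ (q : ℕ) (d : ℤ), q ≤ 1 → I.Hcomp mR q d = ⊥)
    (hS : ∀ (q : ℕ) (d : ℤ), q ≤ 1 → J.Hcomp mS q d = ⊥) (q : ℕ) (d : ℤ) :
    Module.finrank (GrLC.deg0 𝒯) (IT.Hcomp mT q d) =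
      Module.finrank k (𝒜 d) * Module.finrank (GrLC.deg0 ℬ) (J.Hcomp mS q d) +
        Module.finrank (GrLC.deg0 𝒜) (I.Hcomp mR q d) * Module.finrank k (ℬ d) +
        (Finset.range (q + 2)).sum (fun i => Module.finrank (GrLC.deg0 𝒜) (I.Hcomp mR i d) *
          Module.finrank (GrLC.deg0 ℬ) (J.Hcomp mS (q + 1 - i) d)) := by
  have h := kunneth_modules 𝒜 hposR h0R ℬ hposS h0S 𝒯 hT mR hmR mS hmS mT hmT
    (selfRes 𝒜 I) (selfRes ℬ J) (isSegreMod_self 𝒜 ℬ 𝒯 hT) (selfRes 𝒯 IT) hmain htot hR hS q d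
  rw [finrank_comp_eq_pieceSub 𝒜 h0R (selfGr 𝒜) d, finrank_comp_eq_pieceSub ℬ h0S (selfGr ℬ) d,
    pieceSub_selfGr, pieceSub_selfGr] at h
  exact h

end Ring

end Groth.Agent.H81.Seg
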