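import Mathlib
import Groth.Agent.H58.LCBasic
import Groth.Prelude.Def_Wider

set_option autoImplicit false
set_option linter.unusedSectionVars false
universe u

/-!
# Local cohomology vanishes on modules on which an element of the ideal acts bijectively
-/

namespace Groth.Agent.H81.Seg

open CategoryTheory Groth.Agent.H58.LC

variable {R : Type u} [CommRing R] (I : Ideal R)

theorem smul_ext_eq_zero (n : ℕ) (M : ModuleCat.{u} R) (i : ℕ) (a : R) (ha : a ∈ I ^ n)
    (e : Abelian.Ext (Q I n) M i) : a • e = 0 := by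
  have h1 : a • 𝟙 (Q I n) = 0 := by
    apply ModuleCat.hom_ext
    apply LinearMap.ext
    intro x
    obtain ⟨r, rfl⟩ := Submodule.Quotient.mk_surjective _ x
    change a • (Submodule.Quotient.mk r : R ⧸ I ^ n) = 0
    rw [← Submodule.Quotient.mk_smul, Submodule.Quotient.mk_eq_zero, smul_eq_mul]
    exact Ideal.mul_mem_right _ _ ha
  have h2 : a • e = (Abelian.Ext.mk₀ (a • 𝟙 (Q I n))).comp e (zero_add i) := by
    rw [Abelian.Ext.mk₀_smul, Abelian.Ext.smul_comp, Abelian.Ext.mk₀_id_comp]
  rw [h2, h1, Abelian.Ext.mk₀_zero, Abelian.Ext.zero_comp]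

/-- local cohomology is torsion -/
theorem exists_pow_smul_H_eq_zero (i : ℕ) (M : ModuleCat.{u} R) (a : R) (ha : a ∈ I)
    (x : (localCohomology I i).obj M) : ∃ n : ℕ, a ^ n • x = 0 := by
  obtain ⟨n, e, rfl⟩ := exists_rep I i M x
  refine ⟨n, ?_⟩
  rw [← map_smul, smul_ext_eq_zero I n M i (a ^ n) (Ideal.pow_mem_pow ha n), map_zero]

/-- if an element of `I` acts bijectively on `M` then `H^i_I(M) = 0` -/
theorem subsingleton_H_of_bijective_smul (a : R) (ha : a ∈ I) (M : Type u) [AddCommGroup M]
    [Module R M] (h : Function.Bijective (fun y : M => a • y)) (i : ℕ) :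
    Subsingleton (LocCoh.H I i M) := by
  let ν : M →ₗ[R] M := (LinearEquiv.ofBijective (a • (LinearMap.id : M →ₗ[R] M)) h).symm
  have hν : ∀ y : M, ν (a • y) = y := fun y =>
    (LinearEquiv.ofBijective (a • (LinearMap.id : M →ₗ[R] M)) h).symm_apply_apply y
  have hcomp : (a • 𝟙 (ModuleCat.of R M)) ≫ ModuleCat.ofHom ν = 𝟙 (ModuleCat.of R M) := by
    ext y
    exact hν y
  have key : ∀ x : LocCoh.H I i M,
      ((localCohomology I i).map (ModuleCat.ofHom ν)).hom (a • x) = x := by
    intro x
    have h1 := map_smul' I i a (𝟙 (ModuleCat.of R M)) x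
    rw [CategoryTheory.Functor.map_id] at h1
    have h2 : ((localCohomology I i).map (a • 𝟙 (ModuleCat.of R M))).hom x = a • x := h1
    rw [← h2, ← ModuleCat.comp_apply, ← CategoryTheory.Functor.map_comp, hcomp,
      CategoryTheory.Functor.map_id]
    rfl
  have hpow : ∀ (n : ℕ) (x : LocCoh.H I i M), a ^ n • x = 0 → x = 0 := by
    intro n
    induction n with
    | zero =>
      intro x hx
      rwa [pow_zero, one_smul] at hx
    | succ n ih =>
      intro x hx
      rw [pow_succ, mul_smul] at hx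
      have h1 := ih (a • x) hx
      rw [← key x, h1, map_zero]
  refine ⟨fun x y => ?_⟩
  have hx : x = 0 := by
    obtain ⟨n, hn⟩ := exists_pow_smul_H_eq_zero I i (ModuleCat.of R M) a ha x
    exact hpow n x hn
  have hy : y = 0 := by
    obtain ⟨n, hn⟩ := exists_pow_smul_H_eq_zero I i (ModuleCat.of R M) a ha y
    exact hpow n y hn
  rw [hx, hy]

end Groth.Agent.H81.Seg
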