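import Mathlib
import Groth.Agent.H81.Seg.Res

set_option autoImplicit false
set_option linter.unusedSectionVars false
set_option linter.style.haveILetI false
universe u

/-!
# `C^• # N` is a `Γ_P`-acyclic graded resolution of `M # N` when `N` is `Γ_n`-acyclic
-/

namespace Groth.Agent.H81.Seg

open scoped TensorProduct
open Groth.Agent.H98 Groth.Agent.H81.Kun

section ResN

variable {k : Type u} [Field k] {R S T : Type u} [CommRing R] [CommRing S] [CommRing T]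
  [Algebra k R] [Algebra k S] [Algebra k T]
  {𝒜 : ℤ → Submodule k R} [GradedAlgebra 𝒜] {ℬ : ℤ → Submodule k S} [GradedAlgebra ℬ]
  (C : GCx k 𝒜)
  (𝒯 : ℤ → Submodule k T) [GradedAlgebra 𝒯] {ψ : T →ₐ[k] R ⊗[k] S}
  (hT : GrSeg.IsSegreRing 𝒜 ℬ 𝒯 ψ)
variable {M : Type u} [AddCommGroup M] [Module R M] [Module k M] [IsScalarTower k R M]
  {ℳ : ℤ → AddSubgroup M} [DirectSum.Decomposition ℳ] [SetLike.GradedSMul 𝒜 ℳ]
  {N : Type u} [AddCommGroup N] [Module S N] [Module k N] [IsScalarTower k S N]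
  (𝒩 : ℤ → AddSubgroup N) [DirectSum.Decomposition 𝒩] [SetLike.GradedSMul ℬ 𝒩]
  (εC : GAug C ℳ)
variable {P : Type u} [AddCommGroup P] [Module T P] [Module k P] [IsScalarTower k T P]
  {𝒬 : ℤ → AddSubgroup P} [DirectSum.Decomposition 𝒬] [SetLike.GradedSMul 𝒯 𝒬]
  {φ : P →ₗ[k] M ⊗[k] N} (hP : GrSeg.IsSegreMod ψ ℳ 𝒩 𝒬 φ)

/-- `d ⊗ 1` as a `T`-linear map -/
noncomputable def dTP (n : ℕ) : TP ψ (C.X n) N →ₗ[T] TP ψ (C.X (n + 1)) N :=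
  tpMap ψ (C.d n) (LinearMap.id : N →ₗ[S] N)

theorem dTP_apply (n : ℕ) (w : TP ψ (C.X n) N) :
    dTP C (ψ := ψ) (N := N) n w = kmap (k := k) (C.d n) (LinearMap.id : N →ₗ[S] N) w := rfl

/-- the terms `C^n # N` -/
abbrev XN (n : ℕ) : Submodule T (TP ψ (C.X n) N) := seg 𝒜 ℬ (C.gr n) 𝒩 𝒯 hT

theorem dTP_mem {n : ℕ} {w : TP ψ (C.X n) N} (hw : w ∈ XN C 𝒯 hT 𝒩 n) :
    dTP C n w ∈ XN C 𝒯 hT 𝒩 (n + 1) :=
  kmap_mem_diag (C.gr n) 𝒩 (C.gr (n + 1)) 𝒩 (C.d n) LinearMap.id (C.d_gr n)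
    (fun _ _ h => h) hw

/-- the differential of `C^• # N` -/
noncomputable def dN (n : ℕ) : XN C 𝒯 hT 𝒩 n →ₗ[T] XN C 𝒯 hT 𝒩 (n + 1) :=
  (dTP C n).restrict (fun _ hw => dTP_mem C 𝒯 hT 𝒩 hw)

theorem dN_coe (n : ℕ) (w : XN C 𝒯 hT 𝒩 n) :
    (dN C 𝒯 hT 𝒩 n w : TP ψ (C.X (n + 1)) N) = dTP C n w.1 := rfl

theorem dN_grHom (n : ℕ) :
    GrLC.IsGrHom (segGr 𝒜 ℬ (C.gr n) 𝒩 𝒯 hT) (segGr 𝒜 ℬ (C.gr (n + 1)) 𝒩 𝒯 hT)
      (dN C 𝒯 hT 𝒩 n) := by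
  intro d w hw
  exact kmap_mem_piece (C.gr n) 𝒩 (C.gr (n + 1)) 𝒩 (C.d n) LinearMap.id (C.d_gr n)
    (fun _ _ h => h) hw

/-- the augmentation `M # N → C^0 # N` -/
noncomputable def epsN : P →ₗ[T] XN C 𝒯 hT 𝒩 0 where
  toFun p := ⟨kmap (k := k) εC.ε (LinearMap.id : N →ₗ[S] N) (φ p),
    kmap_mem_diag ℳ 𝒩 (C.gr 0) 𝒩 εC.ε LinearMap.id εC.ε_gr (fun _ _ h => h)
      (phi_mem_diag hP p)⟩
  map_add' a b := Subtype.ext (by
    change kmap (k := k) εC.ε (LinearMap.id : N →ₗ[S] N) (φ (a + b)) = _ + _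
    rw [map_add, map_add])
  map_smul' t p := Subtype.ext (by
    change kmap (k := k) εC.ε (LinearMap.id : N →ₗ[S] N) (φ (t • p)) =
      GrSeg.act k R S (C.X 0) N (ψ t) (kmap (k := k) εC.ε (LinearMap.id : N →ₗ[S] N) (φ p))
    rw [hP.map_smul, kmap_act])

theorem epsN_coe (p : P) : (epsN C 𝒯 hT 𝒩 εC hP p : TP ψ (C.X 0) N) =
    kmap (k := k) εC.ε (LinearMap.id : N →ₗ[S] N) (φ p) := rfl

theorem epsN_injective : Function.Injective (epsN C 𝒯 hT 𝒩 εC hP) := by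
  intro a b hab
  apply hP.injective
  apply kmap_injective εC.ε (LinearMap.id : N →ₗ[S] N) εC.ε_inj (fun _ _ h => h)
  exact congrArg Subtype.val hab

theorem epsN_grHom :
    GrLC.IsGrHom 𝒬 (segGr 𝒜 ℬ (C.gr 0) 𝒩 𝒯 hT) (epsN C 𝒯 hT 𝒩 εC hP) := by
  intro d p hp
  exact kmap_mem_piece ℳ 𝒩 (C.gr 0) 𝒩 εC.ε LinearMap.id εC.ε_gr (fun _ _ h => h)
    (phi_mem_piece hP hp)

/-! ### exactness -/

theorem exact_kmap_id {X X' X'' : Type u} [AddCommGroup X] [Module R X] [Module k X]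
    [IsScalarTower k R X] [AddCommGroup X'] [Module R X'] [Module k X'] [IsScalarTower k R X']
    [AddCommGroup X''] [Module R X''] [Module k X''] [IsScalarTower k R X'']
    (f : X →ₗ[R] X') (g : X' →ₗ[R] X'') (h : LinearMap.ker g = LinearMap.range f)
    (w : X' ⊗[k] N) (hw : kmap (k := k) g (LinearMap.id : N →ₗ[S] N) w = 0) :
    ∃ v : X ⊗[k] N, kmap (k := k) f (LinearMap.id : N →ₗ[S] N) v = w := by
  have hex : Function.Exact (f.restrictScalars k) (g.restrictScalars k) := by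
    intro x
    constructor
    · intro hx
      have : x ∈ LinearMap.ker g := hx
      rw [h] at this
      exact this
    · rintro ⟨y, rfl⟩
      have : f y ∈ LinearMap.ker g := by rw [h]; exact ⟨y, rfl⟩
      exact this
  have h2 := Module.Flat.rTensor_exact N hex
  exact (h2 w).mp hw

theorem exact_zeroN :
    LinearMap.ker (dN C 𝒯 hT 𝒩 0) = LinearMap.range (epsN C 𝒯 hT 𝒩 εC hP) := by
  apply le_antisymm
  · intro w hw
    have hw' : kmap (k := k) (C.d 0) (LinearMap.id : N →ₗ[S] N) (w.1 : C.X 0 ⊗[k] N) = 0 :=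
      congrArg Subtype.val (LinearMap.mem_ker.mp hw)
    obtain ⟨m0, hm0⟩ := exact_kmap_id εC.ε (C.d 0) εC.ex0 _ hw'
    have h1 : kmap (k := k) εC.ε (LinearMap.id : N →ₗ[S] N) (Dk 𝒜 ℬ ℳ 𝒩 m0) = w.1 := by
      rw [kmap_Dk 𝒜 ℬ ℳ 𝒩 (C.gr 0) 𝒩 εC.ε LinearMap.id εC.ε_gr (fun _ _ h => h), hm0]
      exact Dk_of_mem_diag 𝒜 ℬ (C.gr 0) 𝒩 w.2
    obtain ⟨p, hp⟩ := exists_phi_eq hP (Dk_mem 𝒜 ℬ ℳ 𝒩 m0)
    refine ⟨p, Subtype.ext ?_⟩
    rw [epsN_coe, hp]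
    exact h1
  · rintro _ ⟨p, rfl⟩
    rw [LinearMap.mem_ker]
    apply Subtype.ext
    change kmap (k := k) (C.d 0) (LinearMap.id : N →ₗ[S] N)
      (kmap (k := k) εC.ε (LinearMap.id : N →ₗ[S] N) (φ p)) = 0
    rw [kmap_comp]
    have h1 : C.d 0 ∘ₗ εC.ε = 0 := by
      ext m
      have : εC.ε m ∈ LinearMap.ker (C.d 0) := by rw [εC.ex0]; exact ⟨m, rfl⟩
      exact this
    rw [h1]
    unfold kmap
    rw [LinearMap.restrictScalars_zero, TensorProduct.map_zero_left, LinearMap.zero_apply]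

include εC in
theorem exact_succN (n : ℕ) :
    LinearMap.ker (dN C 𝒯 hT 𝒩 (n + 1)) = LinearMap.range (dN C 𝒯 hT 𝒩 n) := by
  apply le_antisymm
  · intro w hw
    have hw' : kmap (k := k) (C.d (n + 1)) (LinearMap.id : N →ₗ[S] N)
        (w.1 : C.X (n + 1) ⊗[k] N) = 0 :=
      congrArg Subtype.val (LinearMap.mem_ker.mp hw)
    obtain ⟨v, hv⟩ := exact_kmap_id (C.d n) (C.d (n + 1)) (εC.ex n) _ hw'
    have h1 : kmap (k := k) (C.d n) (LinearMap.id : N →ₗ[S] N) (Dk 𝒜 ℬ (C.gr n) 𝒩 v) = w.1 := by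
      rw [kmap_Dk 𝒜 ℬ (C.gr n) 𝒩 (C.gr (n + 1)) 𝒩 (C.d n) LinearMap.id (C.d_gr n)
        (fun _ _ h => h), hv]
      exact Dk_of_mem_diag 𝒜 ℬ (C.gr (n + 1)) 𝒩 w.2
    exact ⟨⟨Dk 𝒜 ℬ (C.gr n) 𝒩 v, Dk_mem 𝒜 ℬ (C.gr n) 𝒩 v⟩, Subtype.ext h1⟩
  · rintro _ ⟨v, rfl⟩
    rw [LinearMap.mem_ker]
    apply Subtype.ext
    have key : ∀ t : C.X n ⊗[k] N, kmap (k := k) (C.d (n + 1)) (LinearMap.id : N →ₗ[S] N)
        (kmap (k := k) (C.d n) (LinearMap.id : N →ₗ[S] N) t) = 0 := by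
      intro t
      rw [kmap_comp]
      have h1 : C.d (n + 1) ∘ₗ C.d n = 0 := by
        ext x
        exact C.dd n x
      rw [h1]
      unfold kmap
      rw [LinearMap.restrictScalars_zero, TensorProduct.map_zero_left, LinearMap.zero_apply]
    exact key v.1

/-! ### the resolution -/

variable [IsNoetherianRing R] [IsNoetherianRing S] [IsNoetherianRing T]
  [IsNoetherianRing (R ⊗[k] S)]
  {mR : Ideal R} {mS : Ideal S} (mT : HomogeneousIdeal 𝒯) (hI : IdealHyp ψ mR mS mT.toIdeal)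
  (hC : ∀ a j, Subsingleton (LocCoh.H mR (j + 1) (C.X a)))
  (hN : ∀ j, Subsingleton (LocCoh.H mS (j + 1) N))

/-- `C^n # N` as a bundled graded `T`-module -/
noncomputable abbrev XNG (n : ℕ) : GrLC.GMod.{u} 𝒯 := segG 𝒜 ℬ (C.gr n) 𝒩 𝒯 hT

/-- `C^• # N` as a graded `Γ_P`-acyclic resolution of `M # N` -/
noncomputable def resN : Groth.Agent.H98.Ver.GrAcycRes 𝒯 𝒬 mT where
  X := XNG C 𝒯 hT 𝒩
  d := dN C 𝒯 hT 𝒩
  ε := epsN C 𝒯 hT 𝒩 εC hP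
  d_grHom := dN_grHom C 𝒯 hT 𝒩
  ε_grHom := epsN_grHom C 𝒯 hT 𝒩 εC hP
  ε_injective := epsN_injective C 𝒯 hT 𝒩 εC hP
  exact_zero := exact_zeroN C 𝒯 hT 𝒩 εC hP
  exact_succ := exact_succN C 𝒯 hT 𝒩 εC
  acyclic := fun n j =>
    subsingleton_H_of_retract mT.toIdeal (j + 1) (XN C 𝒯 hT 𝒩 n).subtype
      (retr 𝒜 ℬ (C.gr n) 𝒩 𝒯 hT) (retr_subtype 𝒜 ℬ (C.gr n) 𝒩 𝒯 hT)
      (subsingleton_H_TP hI (hC n) hN j)

end ResN

end Groth.Agent.H81.Seg
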