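import Mathlib
import Groth.Agent.H81.Seg.ResN
import Groth.Agent.H81.Seg.BijVanish

set_option autoImplicit false
set_option linter.unusedSectionVars false
set_option linter.style.haveILetI false
universe u

/-!
# The cohomology of `Γ_P(C^• # N)` is `H^q(Γ_m C^•) # N` when `Γ_n N = 0`
-/

namespace Groth.Agent.H81.Seg

open scoped TensorProduct
open Groth.Agent.H98 Groth.Agent.H81.Kun

section TensorLemmas

variable {k : Type u} [Field k] {R S : Type u} [CommRing R] [CommRing S]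
  [Algebra k R] [Algebra k S]
  {N : Type u} [AddCommGroup N] [Module S N] [Module k N] [IsScalarTower k S N]
  {X X' : Type u} [AddCommGroup X] [Module R X] [Module k X] [IsScalarTower k R X]
  [AddCommGroup X'] [Module R X'] [Module k X'] [IsScalarTower k R X']

/-- elements of `X ⊗ N` killed by `X ⊗ N → X/Γ ⊗ N` and by `d ⊗ 1` come from `(Γ ∩ ker d) ⊗ N` -/
theorem exists_kmap_subtype_eq (Γ : Submodule R X) (d : X →ₗ[R] X') (w : X ⊗[k] N)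
    (h1 : kmap (k := k) Γ.mkQ (LinearMap.id : N →ₗ[S] N) w = 0)
    (h2 : kmap (k := k) d (LinearMap.id : N →ₗ[S] N) w = 0) :
    ∃ z : ↥(Γ ⊓ LinearMap.ker d) ⊗[k] N,
      kmap (k := k) (Γ ⊓ LinearMap.ker d).subtype (LinearMap.id : N →ₗ[S] N) z = w := by
  obtain ⟨w', hw'⟩ := exact_kmap_id (N := N) Γ.subtype Γ.mkQ
    (by rw [Submodule.ker_mkQ, Submodule.range_subtype]) w h1
  have h3 : kmap (k := k) (d ∘ₗ Γ.subtype) (LinearMap.id : N →ₗ[S] N) w' = 0 := by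
    have := kmap_comp (k := k) Γ.subtype (LinearMap.id : N →ₗ[S] N) d
      (LinearMap.id : N →ₗ[S] N) w'
    rw [hw', h2] at this
    exact this.symm
  obtain ⟨w'', hw''⟩ := exact_kmap_id (N := N) (LinearMap.ker (d ∘ₗ Γ.subtype)).subtype
    (d ∘ₗ Γ.subtype) (by rw [Submodule.range_subtype]) w' h3
  let σ : ↥(LinearMap.ker (d ∘ₗ Γ.subtype)) →ₗ[R] ↥(Γ ⊓ LinearMap.ker d) :=
    { toFun := fun x => ⟨x.1.1, x.1.2, x.2⟩
      map_add' := fun a b => rfl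
      map_smul' := fun c a => rfl }
  refine ⟨kmap (k := k) σ (LinearMap.id : N →ₗ[S] N) w'', ?_⟩
  rw [kmap_comp, ← hw', ← hw'', kmap_comp]
  rfl

theorem kmap_mkQ_mkQ_eq_zero_iff (Γ : Submodule R X) (Γ' : Submodule S N) (hΓ' : Γ' = ⊥)
    (t : X ⊗[k] N) :
    kmap (k := k) Γ.mkQ Γ'.mkQ t = 0 ↔ kmap (k := k) Γ.mkQ (LinearMap.id : N →ₗ[S] N) t = 0 := by
  have h1 : kmap (k := k) Γ.mkQ Γ'.mkQ t =
      kmap (k := k) (LinearMap.id : (X ⧸ Γ) →ₗ[R] _) Γ'.mkQ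
        (kmap (k := k) Γ.mkQ (LinearMap.id : N →ₗ[S] N) t) := by
    rw [kmap_comp]
    rfl
  have hinj : Function.Injective (kmap (k := k) (LinearMap.id : (X ⧸ Γ) →ₗ[R] _) Γ'.mkQ) := by
    apply kmap_injective _ _ (fun _ _ h => h)
    rw [← LinearMap.ker_eq_bot, Submodule.ker_mkQ]
    exact hΓ'
  rw [h1]
  constructor
  · intro h
    exact hinj (h.trans (map_zero _).symm)
  · intro h
    rw [h, map_zero]

theorem kmap_zero_left (f : X →ₗ[R] X') (hf : ∀ x, f x = 0) (w : X ⊗[k] N) :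
    kmap (k := k) f (LinearMap.id : N →ₗ[S] N) w = 0 := by
  have : f = 0 := LinearMap.ext hf
  rw [this]
  unfold kmap
  rw [LinearMap.restrictScalars_zero, TensorProduct.map_zero_left, LinearMap.zero_apply]

theorem kmap_comp_id {X'' : Type u} [AddCommGroup X''] [Module R X''] [Module k X'']
    [IsScalarTower k R X''] (f : X →ₗ[R] X') (f' : X' →ₗ[R] X'') (w : X ⊗[k] N) :
    kmap (k := k) f' (LinearMap.id : N →ₗ[S] N) (kmap (k := k) f (LinearMap.id : N →ₗ[S] N) w) =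
      kmap (k := k) (f' ∘ₗ f) (LinearMap.id : N →ₗ[S] N) w := by
  rw [kmap_comp]
  rfl

end TensorLemmas

section Main

variable {k : Type u} [Field k] {R S T : Type u} [CommRing R] [CommRing S] [CommRing T]
  [Algebra k R] [Algebra k S] [Algebra k T]
  {𝒜 : ℤ → Submodule k R} [GradedAlgebra 𝒜] {ℬ : ℤ → Submodule k S} [GradedAlgebra ℬ]
  (C : GCx k 𝒜)
  (𝒯 : ℤ → Submodule k T) [GradedAlgebra 𝒯] {ψ : T →ₐ[k] R ⊗[k] S}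
  (hT : GrSeg.IsSegreRing 𝒜 ℬ 𝒯 ψ)
  {N : Type u} [AddCommGroup N] [Module S N] [Module k N] [IsScalarTower k S N]
  (𝒩 : ℤ → AddSubgroup N) [DirectSum.Decomposition 𝒩] [SetLike.GradedSMul ℬ 𝒩]
variable [IsNoetherianRing R] [IsNoetherianRing S] [IsNoetherianRing T]
  [IsNoetherianRing (R ⊗[k] S)]
  {mR : Ideal R} {mS : Ideal S} (mT : HomogeneousIdeal 𝒯) (hI : IdealHyp ψ mR mS mT.toIdeal)
  (hC : ∀ a j, Subsingleton (LocCoh.H mR (j + 1) (C.X a)))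
  (hN : ∀ j, Subsingleton (LocCoh.H mS (j + 1) N))
  (hN0 : DRing.torsionSub mS N = ⊥)

include hI hC hN hN0 in
/-- the `P`-torsion of `C^n ⊗ N` -/
theorem mem_torsionSub_TP_iff (n : ℕ) (w : TP ψ (C.X n) N) :
    w ∈ DRing.torsionSub mT.toIdeal (TP ψ (C.X n) N) ↔
      kmap (k := k) (GrLC.gam mR (C.X n)).mkQ (LinearMap.id : N →ₗ[S] N)
        (w : C.X n ⊗[k] N) = 0 := by
  rw [torsionSub_TP_eq hI (hC n) hN, LinearMap.mem_ker]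
  exact kmap_mkQ_mkQ_eq_zero_iff (DRing.torsionSub mR (C.X n)) (DRing.torsionSub mS N) hN0 w

/-- the `R`-side cocycles -/
abbrev ZR (mR : Ideal R) (q : ℕ) : Submodule R (C.X q) :=
  cocyc (k := R) C.d (fun n => GrLC.gam mR (C.X n)) q

/-- the `R`-side cohomology -/
abbrev HR (mR : Ideal R) (q : ℕ) : Type u := Hs (k := R) C.d (fun n => GrLC.gam mR (C.X n)) q

/-- the `R`-side class map -/
abbrev toHR (mR : Ideal R) (q : ℕ) : ↥(ZR C mR q) →ₗ[R] HR C mR q :=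
  ((cobdy (k := R) C.d (fun n => GrLC.gam mR (C.X n)) q).comap (ZR C mR q).subtype).mkQ

/-- the `T`-side torsion -/
noncomputable abbrev GT (n : ℕ) : Submodule T ↥(XN C 𝒯 hT 𝒩 n) := GrLC.gam mT.toIdeal ↥(XN C 𝒯 hT 𝒩 n)

/-- the `T`-side cocycles -/
noncomputable abbrev ZT (q : ℕ) : Submodule T ↥(XN C 𝒯 hT 𝒩 q) :=
  cocyc (k := T) (dN C 𝒯 hT 𝒩) (GT C 𝒯 hT 𝒩 mT) q

/-- the `T`-side cohomology -/
noncomputable abbrev HT (q : ℕ) : Type u := Hs (k := T) (dN C 𝒯 hT 𝒩) (GT C 𝒯 hT 𝒩 mT) q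

/-- `Z ⊗ N → C^q ⊗ N` -/
noncomputable def jT (mR : Ideal R) (q : ℕ) : TP ψ ↥(ZR C mR q) N →ₗ[T] TP ψ (C.X q) N :=
  tpMap ψ (ZR C mR q).subtype (LinearMap.id : N →ₗ[S] N)

theorem jT_injective (q : ℕ) : Function.Injective (jT C (ψ := ψ) (N := N) mR q) :=
  kmap_injective _ _ (Submodule.injective_subtype _) (fun _ _ h => h)

include hI hC hN hN0 in
theorem exists_jT_eq (q : ℕ) (w : ↥(XN C 𝒯 hT 𝒩 q)) (hw : w ∈ ZT C 𝒯 hT 𝒩 mT q) :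
    ∃ z : TP ψ ↥(ZR C mR q) N, jT C mR q z = w.1 := by
  have h1 : (w.1 : TP ψ (C.X q) N) ∈ DRing.torsionSub mT.toIdeal (TP ψ (C.X q) N) :=
    (mem_torsionSub_submodule mT.toIdeal _ w).mp hw.1
  rw [mem_torsionSub_TP_iff C 𝒯 mT hI hC hN hN0] at h1
  have h2 : kmap (k := k) (C.d q) (LinearMap.id : N →ₗ[S] N) (w.1 : C.X q ⊗[k] N) = 0 :=
    congrArg Subtype.val (LinearMap.mem_ker.mp hw.2)
  exact exists_kmap_subtype_eq (GrLC.gam mR (C.X q)) (C.d q) _ h1 h2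

/-- `d : Γ_m(C^q) → Z^{q+1}` -/
def delR (mR : Ideal R) (q : ℕ) : ↥(GrLC.gam mR (C.X q)) →ₗ[R] ↥(ZR C mR (q + 1)) where
  toFun x := ⟨C.d q x.1, ⟨DRing.map_mem_torsionSub mR (C.d q) x.2, C.dd q x.1⟩⟩
  map_add' a b := Subtype.ext (map_add (C.d q) a.1 b.1)
  map_smul' c a := Subtype.ext (map_smul (C.d q) c a.1)

theorem delR_coe (q : ℕ) (x : ↥(GrLC.gam mR (C.X q))) :
    ((delR C mR q x : ↥(ZR C mR (q + 1))) : C.X (q + 1)) = C.d q x.1 := rfl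

section Phi

variable (q : ℕ) {H : Type u} [AddCommGroup H] [Module R H] [Module k H] [IsScalarTower k R H]
  (π : ↥(ZR C mR q) →ₗ[R] H)

/-- `Z ⊗ N → H ⊗ N` -/
noncomputable def thT : TP ψ ↥(ZR C mR q) N →ₗ[T] TP ψ H N :=
  tpMap ψ π (LinearMap.id : N →ₗ[S] N)

theorem thT_apply (z : TP ψ ↥(ZR C mR q) N) :
    thT C (ψ := ψ) (N := N) q π z = kmap (k := k) π (LinearMap.id : N →ₗ[S] N) z := rfl

theorem jT_apply (z : TP ψ ↥(ZR C mR q) N) :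
    jT C (ψ := ψ) (N := N) mR q z =
      kmap (k := k) (ZR C mR q).subtype (LinearMap.id : N →ₗ[S] N) z := rfl

/-- cocycles of `Γ_P(C^• # N)` as elements of the image of `Z ⊗ N` -/
noncomputable def iotaZ :
    ↥(ZT C 𝒯 hT 𝒩 mT q) →ₗ[T] ↥(LinearMap.range (jT C (ψ := ψ) (N := N) mR q)) :=
  LinearMap.codRestrict _ ((XN C 𝒯 hT 𝒩 q).subtype ∘ₗ (ZT C 𝒯 hT 𝒩 mT q).subtype)
    (fun w => exists_jT_eq C 𝒯 hT 𝒩 mT hI hC hN hN0 q w.1 w.2)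

/-- the comparison map on cocycles -/
noncomputable def PhiC : ↥(ZT C 𝒯 hT 𝒩 mT q) →ₗ[T] TP ψ H N :=
  thT C q π ∘ₗ
    (LinearEquiv.ofInjective (jT C (ψ := ψ) (N := N) mR q) (jT_injective C q)).symm.toLinearMap ∘ₗ
      iotaZ C 𝒯 hT 𝒩 mT hI hC hN hN0 q

theorem PhiC_eq (w : ↥(ZT C 𝒯 hT 𝒩 mT q)) (z : TP ψ ↥(ZR C mR q) N)
    (hz : jT C mR q z = w.1.1) :
    PhiC C 𝒯 hT 𝒩 mT hI hC hN hN0 q π w = thT C q π z := by
  unfold PhiC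
  rw [LinearMap.comp_apply, LinearMap.comp_apply]
  congr 1
  rw [LinearEquiv.coe_coe, LinearEquiv.symm_apply_eq]
  exact Subtype.ext hz.symm

end Phi

section Kill

variable {H : Type u} [AddCommGroup H] [Module R H] [Module k H] [IsScalarTower k R H]

theorem PhiC_cobdy_zero (π : ↥(ZR C mR 0) →ₗ[R] H) (w : ↥(ZT C 𝒯 hT 𝒩 mT 0))
    (hw : w.1 ∈ cobdy (k := T) (dN C 𝒯 hT 𝒩) (GT C 𝒯 hT 𝒩 mT) 0) :
    PhiC C 𝒯 hT 𝒩 mT hI hC hN hN0 0 π w = 0 := by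
  have h0 : w.1 = 0 := (Submodule.mem_bot T).mp hw
  have : w = 0 := Subtype.ext h0
  rw [this, map_zero]

theorem PhiC_cobdy_succ (q : ℕ) (π : ↥(ZR C mR (q + 1)) →ₗ[R] H)
    (hπ : ∀ x : ↥(GrLC.gam mR (C.X q)), π (delR C mR q x) = 0)
    (w : ↥(ZT C 𝒯 hT 𝒩 mT (q + 1)))
    (hw : w.1 ∈ cobdy (k := T) (dN C 𝒯 hT 𝒩) (GT C 𝒯 hT 𝒩 mT) (q + 1)) :
    PhiC C 𝒯 hT 𝒩 mT hI hC hN hN0 (q + 1) π w = 0 := by
  obtain ⟨v, hv, hvw⟩ := hw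
  have h1 : (v.1 : TP ψ (C.X q) N) ∈ DRing.torsionSub mT.toIdeal (TP ψ (C.X q) N) :=
    (mem_torsionSub_submodule mT.toIdeal _ v).mp hv
  rw [mem_torsionSub_TP_iff C 𝒯 mT hI hC hN hN0] at h1
  obtain ⟨v', hv'⟩ := exact_kmap_id (N := N) (GrLC.gam mR (C.X q)).subtype
    (GrLC.gam mR (C.X q)).mkQ (by rw [Submodule.ker_mkQ, Submodule.range_subtype]) _ h1
  have hz : jT C mR (q + 1) (kmap (k := k) (delR C mR q) (LinearMap.id : N →ₗ[S] N) v') =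
      w.1.1 := by
    change kmap (k := k) (ZR C mR (q + 1)).subtype (LinearMap.id : N →ₗ[S] N)
      (kmap (k := k) (delR C mR q) (LinearMap.id : N →ₗ[S] N) v') = (w.1.1 : C.X (q + 1) ⊗[k] N)
    have e1 : (w.1.1 : C.X (q + 1) ⊗[k] N) =
        kmap (k := k) (C.d q) (LinearMap.id : N →ₗ[S] N) (v.1 : C.X q ⊗[k] N) := by
      rw [← hvw]
      rfl
    rw [kmap_comp_id, e1, ← hv', kmap_comp_id]
    rfl
  rw [PhiC_eq C 𝒯 hT 𝒩 mT hI hC hN hN0 (q + 1) π w _ hz]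
  change kmap (k := k) π (LinearMap.id : N →ₗ[S] N)
      (kmap (k := k) (delR C mR q) (LinearMap.id : N →ₗ[S] N) v') = 0
  rw [kmap_comp_id]
  exact kmap_zero_left _ hπ v'

theorem PhiC_ker_zero (π : ↥(ZR C mR 0) →ₗ[R] H) (hπ : Function.Injective π)
    (w : ↥(ZT C 𝒯 hT 𝒩 mT 0)) (hw : PhiC C 𝒯 hT 𝒩 mT hI hC hN hN0 0 π w = 0) :
    w.1 ∈ cobdy (k := T) (dN C 𝒯 hT 𝒩) (GT C 𝒯 hT 𝒩 mT) 0 := by
  obtain ⟨z, hz⟩ := exists_jT_eq C 𝒯 hT 𝒩 mT hI hC hN hN0 0 w.1 w.2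
  rw [PhiC_eq C 𝒯 hT 𝒩 mT hI hC hN hN0 0 π w z hz] at hw
  have hz0 : z = 0 := by
    have hinj := kmap_injective (k := k) π (LinearMap.id : N →ₗ[S] N) hπ (fun _ _ h => h)
    have h0 : kmap (k := k) π (LinearMap.id : N →ₗ[S] N) z =
        kmap (k := k) π (LinearMap.id : N →ₗ[S] N) 0 := hw.trans (map_zero _).symm
    exact hinj h0
  rw [hz0, map_zero] at hz
  change w.1 ∈ (⊥ : Submodule T _)
  rw [Submodule.mem_bot]
  exact Subtype.ext hz.symm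

theorem PhiC_ker_succ (q : ℕ) (π : ↥(ZR C mR (q + 1)) →ₗ[R] H)
    (hπ0 : ∀ x : ↥(GrLC.gam mR (C.X q)), π (delR C mR q x) = 0)
    (hπ : ∀ x, π x = 0 → ∃ y : ↥(GrLC.gam mR (C.X q)), delR C mR q y = x)
    (w : ↥(ZT C 𝒯 hT 𝒩 mT (q + 1)))
    (hw : PhiC C 𝒯 hT 𝒩 mT hI hC hN hN0 (q + 1) π w = 0) :
    w.1 ∈ cobdy (k := T) (dN C 𝒯 hT 𝒩) (GT C 𝒯 hT 𝒩 mT) (q + 1) := by
  obtain ⟨z, hz⟩ := exists_jT_eq C 𝒯 hT 𝒩 mT hI hC hN hN0 (q + 1) w.1 w.2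
  rw [PhiC_eq C 𝒯 hT 𝒩 mT hI hC hN hN0 (q + 1) π w z hz] at hw
  have hw' : kmap (k := k) π (LinearMap.id : N →ₗ[S] N) z = 0 := hw
  obtain ⟨b, hb⟩ := exact_kmap_id (N := N) (LinearMap.ker π).subtype π
    (by rw [Submodule.range_subtype]) z hw'
  let δ' : ↥(GrLC.gam mR (C.X q)) →ₗ[R] ↥(LinearMap.ker π) :=
    LinearMap.codRestrict _ (delR C mR q) hπ0
  have hδ' : Function.Surjective δ' := by
    rintro ⟨x, hx⟩
    obtain ⟨y, hy⟩ := hπ x hx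
    exact ⟨y, Subtype.ext hy⟩
  obtain ⟨v', hv'⟩ := kmap_surjective (k := k) δ' (LinearMap.id : N →ₗ[S] N) hδ'
    (fun y => ⟨y, rfl⟩) b
  -- the (possibly non-diagonal) preimage
  have hd : kmap (k := k) (C.d q) (LinearMap.id : N →ₗ[S] N)
      (kmap (k := k) (GrLC.gam mR (C.X q)).subtype (LinearMap.id : N →ₗ[S] N) v') =
      (w.1.1 : C.X (q + 1) ⊗[k] N) := by
    have e1 : (w.1.1 : C.X (q + 1) ⊗[k] N) =
        kmap (k := k) (ZR C mR (q + 1)).subtype (LinearMap.id : N →ₗ[S] N) z := hz.symm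
    rw [e1, ← hb, ← hv', kmap_comp_id, kmap_comp_id, kmap_comp_id]
    rfl
  have ht : kmap (k := k) (GrLC.gam mR (C.X q)).mkQ (LinearMap.id : N →ₗ[S] N)
      (kmap (k := k) (GrLC.gam mR (C.X q)).subtype (LinearMap.id : N →ₗ[S] N) v') = 0 := by
    rw [kmap_comp_id]
    exact kmap_zero_left _ (fun x => (Submodule.Quotient.mk_eq_zero _).mpr x.2) v'
  have ht' := (mem_torsionSub_TP_iff C 𝒯 mT hI hC hN hN0 q
    (kmap (k := k) (GrLC.gam mR (C.X q)).subtype (LinearMap.id : N →ₗ[S] N) v')).mpr ht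
  have ht'' := DRing.map_mem_torsionSub mT.toIdeal (DT 𝒜 ℬ (C.gr q) 𝒩 𝒯 hT) ht'
  refine ⟨⟨DT 𝒜 ℬ (C.gr q) 𝒩 𝒯 hT
    (kmap (k := k) (GrLC.gam mR (C.X q)).subtype (LinearMap.id : N →ₗ[S] N) v'),
    DT_mem 𝒜 ℬ (C.gr q) 𝒩 𝒯 hT _⟩, ?_, ?_⟩
  · exact (mem_torsionSub_submodule mT.toIdeal _ _).mpr ht''
  · apply Subtype.ext
    change kmap (k := k) (C.d q) (LinearMap.id : N →ₗ[S] N)
      (Dk 𝒜 ℬ (C.gr q) 𝒩 (kmap (k := k) (GrLC.gam mR (C.X q)).subtype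
        (LinearMap.id : N →ₗ[S] N) v')) = (w.1.1 : C.X (q + 1) ⊗[k] N)
    rw [kmap_Dk 𝒜 ℬ (C.gr q) 𝒩 (C.gr (q + 1)) 𝒩 (C.d q) LinearMap.id (C.d_gr q)
      (fun _ _ h => h), hd]
    exact Dk_of_mem_diag 𝒜 ℬ (C.gr (q + 1)) 𝒩 w.1.2

end Kill

section Pieces

variable {H : Type u} [AddCommGroup H] [Module R H] [Module k H] [IsScalarTower k R H]

/-- the class of `z ⊗ y` goes to `[z] ⊗ y` -/
theorem PhiC_tmul (q : ℕ) (π : ↥(ZR C mR q) →ₗ[R] H) (n : ℤ) (z' : ↥(ZR C mR q))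
    (hz' : z'.1 ∈ C.gr q n) (y : N) (hy : y ∈ 𝒩 n) :
    ∃ w : ↥(ZT C 𝒯 hT 𝒩 mT q), w.1 ∈ segGr 𝒜 ℬ (C.gr q) 𝒩 𝒯 hT n ∧
      PhiC C 𝒯 hT 𝒩 mT hI hC hN hN0 q π w = (π z' ⊗ₜ[k] y : H ⊗[k] N) := by
  have hdiag : (z'.1 ⊗ₜ[k] y : C.X q ⊗[k] N) ∈ diagPart (k := k) (C.gr q) 𝒩 :=
    Submodule.subset_span ⟨n, z'.1, hz', y, hy, rfl⟩
  have hpiece : (z'.1 ⊗ₜ[k] y : C.X q ⊗[k] N) ∈ GrSeg.segrePiece k (C.gr q) 𝒩 n :=
    Submodule.subset_span ⟨z'.1, hz', y, hy, rfl⟩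
  have htor : kmap (k := k) (GrLC.gam mR (C.X q)).mkQ (LinearMap.id : N →ₗ[S] N)
      (z'.1 ⊗ₜ[k] y : C.X q ⊗[k] N) = 0 := by
    have h0 : (GrLC.gam mR (C.X q)).mkQ z'.1 = 0 := (Submodule.Quotient.mk_eq_zero _).mpr z'.2.1
    rw [kmap_tmul, h0, TensorProduct.zero_tmul]
  have hd : kmap (k := k) (C.d q) (LinearMap.id : N →ₗ[S] N)
      (z'.1 ⊗ₜ[k] y : C.X q ⊗[k] N) = 0 := by
    have h0 : C.d q z'.1 = 0 := LinearMap.mem_ker.mp z'.2.2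
    rw [kmap_tmul, h0, TensorProduct.zero_tmul]
  let x : ↥(XN C 𝒯 hT 𝒩 q) := ⟨(z'.1 ⊗ₜ[k] y : C.X q ⊗[k] N), hdiag⟩
  have hx1 : x ∈ GT C 𝒯 hT 𝒩 mT q :=
    (mem_torsionSub_submodule mT.toIdeal _ x).mpr
      ((mem_torsionSub_TP_iff C 𝒯 mT hI hC hN hN0 q _).mpr htor)
  have hx2 : x ∈ LinearMap.ker (dN C 𝒯 hT 𝒩 q) := by
    rw [LinearMap.mem_ker]
    exact Subtype.ext hd
  refine ⟨⟨x, hx1, hx2⟩, hpiece, ?_⟩
  rw [PhiC_eq C 𝒯 hT 𝒩 mT hI hC hN hN0 q π _ (z' ⊗ₜ[k] y : ↥(ZR C mR q) ⊗[k] N) rfl]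
  rfl

/-- the graded projection of the cocycles -/
noncomputable def pZ (aR : HomogeneousIdeal 𝒜) (q : ℕ) (n : ℤ) :
    ↥(ZR C aR.toIdeal q) →ₗ[k] ↥(ZR C aR.toIdeal q) where
  toFun x := ⟨gproj (C.gr q) (hk 𝒜 (C.gr q)) n x.1,
    GrStar.inf_isHomogeneous (C.gr q) _ _ (GrStar.gam_isHomogeneous 𝒜 (C.gr q) aR)
      (GrStar.ker_isHomogeneous (C.gr q) (C.gr (q + 1)) (C.d q) (C.d_gr q)) n x.2⟩
  map_add' a b := Subtype.ext (map_add (gproj (C.gr q) (hk 𝒜 (C.gr q)) n) a.1 b.1)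
  map_smul' c a := Subtype.ext (map_smul (gproj (C.gr q) (hk 𝒜 (C.gr q)) n) c a.1)

theorem pZ_coe (aR : HomogeneousIdeal 𝒜) (q : ℕ) (n : ℤ) (x : ↥(ZR C aR.toIdeal q)) :
    ((pZ C aR q n x : ↥(ZR C aR.toIdeal q)) : C.X q) = gproj (C.gr q) (hk 𝒜 (C.gr q)) n x.1 := rfl

theorem kmap_subtype_map_pZ (aR : HomogeneousIdeal 𝒜) (q : ℕ) (n : ℤ)
    (t : ↥(ZR C aR.toIdeal q) ⊗[k] N) :
    kmap (k := k) (ZR C aR.toIdeal q).subtype (LinearMap.id : N →ₗ[S] N)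
      (TensorProduct.map (pZ C aR q n) (gproj 𝒩 (hk ℬ 𝒩) n) t) =
    bproj (C.gr q) 𝒩 (hk 𝒜 (C.gr q)) (hk ℬ 𝒩) n n
      (kmap (k := k) (ZR C aR.toIdeal q).subtype (LinearMap.id : N →ₗ[S] N) t) := by
  induction t using TensorProduct.induction_on with
  | zero => simp
  | tmul a b => rfl
  | add a b ha hb => rw [map_add, map_add, ha, hb, map_add, map_add]

theorem kmap_map_pZ_mem (aR : HomogeneousIdeal 𝒜) (q : ℕ) (π : ↥(ZR C aR.toIdeal q) →ₗ[R] H)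
    (ℋ : ℤ → AddSubgroup H)
    (hℋ : ∀ (n : ℤ) (z : ↥(ZR C aR.toIdeal q)), z.1 ∈ C.gr q n → π z ∈ ℋ n) (n : ℤ)
    (t : ↥(ZR C aR.toIdeal q) ⊗[k] N) :
    kmap (k := k) π (LinearMap.id : N →ₗ[S] N)
      (TensorProduct.map (pZ C aR q n) (gproj 𝒩 (hk ℬ 𝒩) n) t) ∈ GrSeg.segrePiece k ℋ 𝒩 n := by
  induction t using TensorProduct.induction_on with
  | zero => rw [map_zero, map_zero]; exact Submodule.zero_mem _
  | tmul a b =>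
    exact Submodule.subset_span ⟨π (pZ C aR q n a),
      hℋ n _ (gproj_mem (C.gr q) (hk 𝒜 (C.gr q)) n a.1), gproj 𝒩 (hk ℬ 𝒩) n b,
      gproj_mem 𝒩 (hk ℬ 𝒩) n b, rfl⟩
  | add a b ha hb => rw [map_add, map_add]; exact Submodule.add_mem _ ha hb

end Pieces

section PiecesH

variable {H : Type u} [AddCommGroup H] [Module R H] [Module k H] [IsScalarTower k R H]
  (aR : HomogeneousIdeal 𝒜) (hI' : IdealHyp ψ aR.toIdeal mS mT.toIdeal)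
  (hC' : ∀ a j, Subsingleton (LocCoh.H aR.toIdeal (j + 1) (C.X a)))

include ℬ in
theorem kmap_mem_piece_of_subtype (q : ℕ) (π : ↥(ZR C aR.toIdeal q) →ₗ[R] H)
    (ℋ : ℤ → AddSubgroup H)
    (hℋ : ∀ (n : ℤ) (z : ↥(ZR C aR.toIdeal q)), z.1 ∈ C.gr q n → π z ∈ ℋ n) (n : ℤ)
    (z : ↥(ZR C aR.toIdeal q) ⊗[k] N)
    (hz : kmap (k := k) (ZR C aR.toIdeal q).subtype (LinearMap.id : N →ₗ[S] N) z ∈
      GrSeg.segrePiece k (C.gr q) 𝒩 n) :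
    kmap (k := k) π (LinearMap.id : N →ₗ[S] N) z ∈ GrSeg.segrePiece k ℋ 𝒩 n := by
  have hfix : TensorProduct.map (pZ C aR q n) (gproj 𝒩 (hk ℬ 𝒩) n) z = z := by
    apply kmap_injective (k := k) (ZR C aR.toIdeal q).subtype (LinearMap.id : N →ₗ[S] N)
      (Submodule.injective_subtype _) (fun _ _ h => h)
    rw [kmap_subtype_map_pZ (ℬ := ℬ)]
    exact bproj_of_mem_piece 𝒜 ℬ (C.gr q) 𝒩 hz
  have h1 := kmap_map_pZ_mem (ℬ := ℬ) C 𝒩 aR q π ℋ hℋ n z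
  rw [hfix] at h1
  exact h1

theorem PhiC_mem_piece (q : ℕ) (π : ↥(ZR C aR.toIdeal q) →ₗ[R] H) (ℋ : ℤ → AddSubgroup H)
    (hℋ : ∀ (n : ℤ) (z : ↥(ZR C aR.toIdeal q)), z.1 ∈ C.gr q n → π z ∈ ℋ n) (n : ℤ)
    (w : ↥(ZT C 𝒯 hT 𝒩 mT q)) (hw : w.1 ∈ segGr 𝒜 ℬ (C.gr q) 𝒩 𝒯 hT n) :
    (PhiC C 𝒯 hT 𝒩 mT hI' hC' hN hN0 q π w : H ⊗[k] N) ∈ GrSeg.segrePiece k ℋ 𝒩 n := by
  obtain ⟨z, hz⟩ := exists_jT_eq C 𝒯 hT 𝒩 mT hI' hC' hN hN0 q w.1 w.2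
  rw [PhiC_eq C 𝒯 hT 𝒩 mT hI' hC' hN hN0 q π w z hz]
  have hz' : kmap (k := k) (ZR C aR.toIdeal q).subtype (LinearMap.id : N →ₗ[S] N) z =
      (w.1.1 : C.X q ⊗[k] N) := hz
  have hw' : (w.1.1 : C.X q ⊗[k] N) ∈ GrSeg.segrePiece k (C.gr q) 𝒩 n := hw
  rw [← hz'] at hw'
  exact kmap_mem_piece_of_subtype (ℬ := ℬ) C 𝒩 aR q π ℋ hℋ n z hw'

end PiecesH

section Assemble

variable {H : Type u} [AddCommGroup H] [Module R H] [Module k H] [IsScalarTower k R H]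

theorem PhiC_eq_zero_iff (q : ℕ) (π : ↥(ZR C mR q) →ₗ[R] H)
    (hπk : LinearMap.ker π =
      (cobdy (k := R) C.d (fun n => GrLC.gam mR (C.X n)) q).comap (ZR C mR q).subtype)
    (w : ↥(ZT C 𝒯 hT 𝒩 mT q)) :
    PhiC C 𝒯 hT 𝒩 mT hI hC hN hN0 q π w = 0 ↔
      w.1 ∈ cobdy (k := T) (dN C 𝒯 hT 𝒩) (GT C 𝒯 hT 𝒩 mT) q := by
  cases q with
  | zero =>
    have hinj : Function.Injective π := by
      rw [← LinearMap.ker_eq_bot, hπk]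
      change Submodule.comap (ZR C mR 0).subtype ⊥ = ⊥
      rw [Submodule.comap_bot, Submodule.ker_subtype]
    exact ⟨PhiC_ker_zero C 𝒯 hT 𝒩 mT hI hC hN hN0 π hinj w,
      PhiC_cobdy_zero C 𝒯 hT 𝒩 mT hI hC hN hN0 π w⟩
  | succ q =>
    have h0 : ∀ x : ↥(GrLC.gam mR (C.X q)), π (delR C mR q x) = 0 := by
      intro x
      have : delR C mR q x ∈ LinearMap.ker π := by
        rw [hπk]
        exact ⟨x.1, x.2, rfl⟩
      exact this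
    have h1 : ∀ x, π x = 0 → ∃ y : ↥(GrLC.gam mR (C.X q)), delR C mR q y = x := by
      intro x hx
      have : x ∈ LinearMap.ker π := hx
      rw [hπk] at this
      obtain ⟨y, hy, hyx⟩ := this
      exact ⟨⟨y, hy⟩, Subtype.ext hyx⟩
    exact ⟨PhiC_ker_succ C 𝒯 hT 𝒩 mT hI hC hN hN0 q π h0 h1 w,
      PhiC_cobdy_succ C 𝒯 hT 𝒩 mT hI hC hN hN0 q π h0 w⟩

include hN hN0 in
/-- **The cohomology of `Γ_P(C^• # N)` is `H^q(Γ_m(C^•)) # N`.** -/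
theorem exists_segH (aR : HomogeneousIdeal 𝒜) (hI' : IdealHyp ψ aR.toIdeal mS mT.toIdeal)
    (hC' : ∀ a j, Subsingleton (LocCoh.H aR.toIdeal (j + 1) (C.X a)))
    (q : ℕ) (π : ↥(ZR C aR.toIdeal q) →ₗ[R] H)
    (hπk : LinearMap.ker π =
      (cobdy (k := R) C.d (fun n => GrLC.gam aR.toIdeal (C.X n)) q).comap
        (ZR C aR.toIdeal q).subtype)
    (ℋ : ℤ → AddSubgroup H)
    (hℋ : ∀ (n : ℤ) (x : H), x ∈ ℋ n ↔ ∃ z : ↥(ZR C aR.toIdeal q), z.1 ∈ C.gr q n ∧ π z = x) :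
    ∃ Φ : HT C 𝒯 hT 𝒩 mT q →ₗ[T] TP ψ H N, Function.Injective Φ ∧
      ∀ (n : ℤ) (y : H ⊗[k] N),
        (∃ w : ↥(ZT C 𝒯 hT 𝒩 mT q), w.1 ∈ segGr 𝒜 ℬ (C.gr q) 𝒩 𝒯 hT n ∧
          (Φ (Submodule.Quotient.mk w) : H ⊗[k] N) = y) ↔ y ∈ GrSeg.segrePiece k ℋ 𝒩 n := by
  have hle : (cobdy (k := T) (dN C 𝒯 hT 𝒩) (GT C 𝒯 hT 𝒩 mT) q).comap
      (ZT C 𝒯 hT 𝒩 mT q).subtype ≤ LinearMap.ker (PhiC C 𝒯 hT 𝒩 mT hI' hC' hN hN0 q π) :=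
    fun w hw => (PhiC_eq_zero_iff C 𝒯 hT 𝒩 mT hI' hC' hN hN0 q π hπk w).mpr hw
  obtain ⟨Φ, hΦ⟩ : ∃ Φ : HT C 𝒯 hT 𝒩 mT q →ₗ[T] TP ψ H N,
      ∀ w, Φ (Submodule.Quotient.mk w) = PhiC C 𝒯 hT 𝒩 mT hI' hC' hN hN0 q π w :=
    ⟨Submodule.liftQ _ (PhiC C 𝒯 hT 𝒩 mT hI' hC' hN hN0 q π) hle, fun w => rfl⟩
  refine ⟨Φ, ?_, ?_⟩
  · rw [← LinearMap.ker_eq_bot, Submodule.eq_bot_iff]
    intro x hx
    obtain ⟨w, rfl⟩ := Submodule.Quotient.mk_surjective _ x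
    rw [LinearMap.mem_ker, hΦ] at hx
    exact (Submodule.Quotient.mk_eq_zero _).mpr
      ((PhiC_eq_zero_iff C 𝒯 hT 𝒩 mT hI' hC' hN hN0 q π hπk w).mp hx)
  · intro n y
    constructor
    · rintro ⟨w, hw, rfl⟩
      rw [hΦ]
      exact PhiC_mem_piece C 𝒯 hT 𝒩 mT hN hN0 aR hI' hC' q π ℋ
        (fun n z hz => (hℋ n _).mpr ⟨z, hz, rfl⟩) n w hw
    · intro hy
      induction hy using Submodule.span_induction with
      | mem v hv =>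
        obtain ⟨a, ha, b, hb, rfl⟩ := hv
        obtain ⟨z', hz', rfl⟩ := (hℋ n a).mp ha
        obtain ⟨w, hw, hw2⟩ := PhiC_tmul C 𝒯 hT 𝒩 mT hI' hC' hN hN0 q π n z' hz' b hb
        exact ⟨w, hw, (hΦ w).trans hw2⟩
      | zero => exact ⟨0, (segGr 𝒜 ℬ (C.gr q) 𝒩 𝒯 hT n).zero_mem, map_zero Φ⟩
      | add x y _ _ hx hy =>
        obtain ⟨w1, h1, e1⟩ := hx
        obtain ⟨w2, h2, e2⟩ := hy
        refine ⟨w1 + w2, (segGr 𝒜 ℬ (C.gr q) 𝒩 𝒯 hT n).add_mem h1 h2, ?_⟩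
        rw [← e1, ← e2]
        exact map_add Φ (Submodule.Quotient.mk w1) (Submodule.Quotient.mk w2)
      | smul c x _ hx =>
        obtain ⟨w, h, e⟩ := hx
        refine ⟨algebraMap k T c • w, ?_, ?_⟩
        · change ((algebraMap k T c • (w.1.1 : TP ψ (C.X q) N) : TP ψ (C.X q) N) : C.X q ⊗[k] N) ∈
            GrSeg.segrePiece k (C.gr q) 𝒩 n
          rw [algebraMap_smul]
          exact Submodule.smul_mem _ c h
        · rw [← e]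
          have e1 : Φ (Submodule.Quotient.mk (algebraMap k T c • w)) =
              algebraMap k T c • Φ (Submodule.Quotient.mk w) :=
            map_smul Φ (algebraMap k T c) (Submodule.Quotient.mk w)
          exact e1.trans (algebraMap_smul T c (Φ (Submodule.Quotient.mk w)))

end Assemble

end Main

end Groth.Agent.H81.Seg
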