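import Mathlib
import Groth.Agent.H81.Seg.SegH
import Groth.Agent.H81.Seg.Res
import Groth.Agent.H81.Kun.HsMap
import Groth.Agent.H81.Kun.Conn

set_option autoImplicit false
set_option linter.unusedSectionVars false
set_option linter.style.haveILetI false
universe u

/-!
# The top local cohomology of a Segre product: `H^{r+s-1}_{T_+}(M # N) ≅ H^r_m(M) # H^s_n(N)`
(graded assembly on top of the natural top-degree Künneth isomorphism)
-/

namespace Groth.Agent.H81.Seg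

open scoped TensorProduct
open Groth.Agent.H98 Groth.Agent.H81.Kun Groth.Agent.H98.Kun

section OneSide

variable {k : Type u} [Field k] {R : Type u} [CommRing R] [Algebra k R]
  {𝒜 : ℤ → Submodule k R} [GradedAlgebra 𝒜] (C : GCx k 𝒜)

/-- the torsion part as a `k`-subspace -/
def GCx.gk (m : Ideal R) (a : ℕ) : Submodule k (C.X a) :=
  (DRing.torsionSub m (C.X a)).restrictScalars k

theorem GCx.mem_gk {m : Ideal R} {a : ℕ} {x : C.X a} :
    x ∈ C.gk m a ↔ x ∈ DRing.torsionSub m (C.X a) := Iff.rfl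

theorem GCx.dk_mem_gk (m : Ideal R) (a : ℕ) (x : C.X a) (hx : x ∈ C.gk m a) :
    C.dk a x ∈ C.gk m (a + 1) :=
  DRing.map_mem_torsionSub m (C.d a) hx

theorem GCx.dk_exact (hex : ∀ a, LinearMap.ker (C.d (a + 1)) = LinearMap.range (C.d a)) (a : ℕ) :
    LinearMap.ker (C.dk (a + 1)) = LinearMap.range (C.dk a) := by
  ext x
  constructor
  · intro hx
    have : x ∈ LinearMap.ker (C.d (a + 1)) := hx
    rw [hex a] at this
    obtain ⟨y, rfl⟩ := this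
    exact ⟨y, rfl⟩
  · rintro ⟨y, rfl⟩
    exact C.dk_dk a y

/-- the `k`-linear version of the cohomology of the torsion part maps isomorphically to any
presentation of the `R`-linear version -/
theorem GCx.exists_kEquiv (m : Ideal R) (q : ℕ) {H : Type u} [AddCommGroup H] [Module R H]
    [Module k H] [IsScalarTower k R H] (π : ↥(ZR C m (q + 1)) →ₗ[R] H)
    (hπs : Function.Surjective π)
    (hπk : LinearMap.ker π =
      (cobdy (k := R) C.d (fun n => GrLC.gam m (C.X n)) (q + 1)).comap (ZR C m (q + 1)).subtype) :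
    ∃ e : Hs (k := k) C.dk (C.gk m) (q + 1) ≃ₗ[k] H,
      ∀ (z : C.X (q + 1)) (hz : z ∈ cocyc (k := k) C.dk (C.gk m) (q + 1))
        (hz' : z ∈ ZR C m (q + 1)), e (Submodule.Quotient.mk ⟨z, hz⟩) = π ⟨z, hz'⟩ := by
  let πk : ↥(cocyc (k := k) C.dk (C.gk m) (q + 1)) →ₗ[k] H :=
    { toFun := fun z => π ⟨z.1, ⟨z.2.1, z.2.2⟩⟩
      map_add' := fun a b => map_add π ⟨a.1, ⟨a.2.1, a.2.2⟩⟩ ⟨b.1, ⟨b.2.1, b.2.2⟩⟩
      map_smul' := fun c a => by
        have h1 : (⟨(c • a).1, ⟨(c • a).2.1, (c • a).2.2⟩⟩ : ↥(ZR C m (q + 1))) =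
            c • (⟨a.1, ⟨a.2.1, a.2.2⟩⟩ : ↥(ZR C m (q + 1))) := rfl
        rw [h1, LinearMap.map_smul_of_tower]
        rfl }
  have hπk' : ∀ z : ↥(cocyc (k := k) C.dk (C.gk m) (q + 1)),
      πk z = 0 ↔ z.1 ∈ cobdy (k := k) C.dk (C.gk m) (q + 1) := by
    intro z
    have h1 : πk z = 0 ↔ (⟨z.1, ⟨z.2.1, z.2.2⟩⟩ : ↥(ZR C m (q + 1))) ∈ LinearMap.ker π := Iff.rfl
    rw [h1, hπk]
    constructor
    · rintro ⟨y, hy, hyz⟩
      exact ⟨y, hy, hyz⟩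
    · rintro ⟨y, hy, hyz⟩
      exact ⟨y, hy, hyz⟩
  have hle : (cobdy (k := k) C.dk (C.gk m) (q + 1)).comap
      (cocyc (k := k) C.dk (C.gk m) (q + 1)).subtype ≤ LinearMap.ker πk :=
    fun z hz => (hπk' z).mpr hz
  let e0 : Hs (k := k) C.dk (C.gk m) (q + 1) →ₗ[k] H := Submodule.liftQ _ πk hle
  have he0 : ∀ z, e0 (Submodule.Quotient.mk z) = πk z := fun z => rfl
  have hinj : Function.Injective e0 := by
    rw [← LinearMap.ker_eq_bot, Submodule.eq_bot_iff]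
    intro x hx
    obtain ⟨z, rfl⟩ := Submodule.Quotient.mk_surjective _ x
    rw [LinearMap.mem_ker, he0] at hx
    exact (Submodule.Quotient.mk_eq_zero _).mpr ((hπk' z).mp hx)
  have hsurj : Function.Surjective e0 := by
    intro h
    obtain ⟨z, rfl⟩ := hπs h
    exact ⟨Submodule.Quotient.mk ⟨z.1, ⟨z.2.1, z.2.2⟩⟩, rfl⟩
  exact ⟨LinearEquiv.ofBijective e0 ⟨hinj, hsurj⟩, fun z hz hz' => rfl⟩

/-- vanishing of the `R`-linear version gives vanishing of the `k`-linear version -/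
theorem GCx.subsingleton_Hs_k (m : Ideal R) (j : ℕ) (h : Subsingleton (HR C m (j + 1))) :
    Subsingleton (Hs (k := k) C.dk (C.gk m) (j + 1)) := by
  apply Hs_subsingleton_succ
  intro x hx hdx
  have hz : x ∈ ZR C m (j + 1) := ⟨hx, hdx⟩
  have h0 : (Submodule.Quotient.mk ⟨x, hz⟩ : HR C m (j + 1)) = 0 := Subsingleton.elim _ _
  rw [Submodule.Quotient.mk_eq_zero] at h0
  obtain ⟨y, hy, hyx⟩ := h0
  exact ⟨y, hy, hyx⟩

/-- multiplication by `r` as a `k`-linear chain map -/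
def GCx.mulk (r : R) (a : ℕ) : C.X a →ₗ[k] C.X a := Algebra.lsmul k k (C.X a) r

theorem GCx.mulk_apply (r : R) (a : ℕ) (x : C.X a) : C.mulk r a x = r • x := rfl

theorem GCx.mulk_dk (r : R) (a : ℕ) (x : C.X a) :
    C.mulk r (a + 1) (C.dk a x) = C.dk a (C.mulk r a x) :=
  (map_smul (C.d a) r x).symm

theorem GCx.mulk_mem_gk (m : Ideal R) (r : R) (a : ℕ) (x : C.X a) (hx : x ∈ C.gk m a) :
    C.mulk r a x ∈ C.gk m a :=
  Submodule.smul_mem (DRing.torsionSub m (C.X a)) r hx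

/-- the graded projection as a `k`-linear chain map -/
noncomputable def GCx.prk (d : ℤ) (a : ℕ) : C.X a →ₗ[k] C.X a :=
  gproj (C.gr a) (hk 𝒜 (C.gr a)) d

theorem GCx.prk_apply (d : ℤ) (a : ℕ) (x : C.X a) :
    C.prk d a x = (DirectSum.decompose (C.gr a) x d : C.X a) := rfl

theorem GCx.prk_mem (d : ℤ) (a : ℕ) (x : C.X a) : C.prk d a x ∈ C.gr a d :=
  gproj_mem (C.gr a) (hk 𝒜 (C.gr a)) d x

theorem GCx.prk_of_mem (d : ℤ) (a : ℕ) (x : C.X a) (hx : x ∈ C.gr a d) : C.prk d a x = x :=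
  gproj_of_mem_same (C.gr a) (hk 𝒜 (C.gr a)) hx

theorem GCx.prk_dk (d : ℤ) (a : ℕ) (x : C.X a) :
    C.prk d (a + 1) (C.dk a x) = C.dk a (C.prk d a x) :=
  GrStar.decompose_grHom (C.gr a) (C.gr (a + 1)) (C.d a) (C.d_gr a) x d

theorem GCx.prk_mem_gk (aR : HomogeneousIdeal 𝒜) (d : ℤ) (a : ℕ) (x : C.X a)
    (hx : x ∈ C.gk aR.toIdeal a) : C.prk d a x ∈ C.gk aR.toIdeal a :=
  GrStar.gam_isHomogeneous 𝒜 (C.gr a) aR d hx

section Transport

variable (m : Ideal R) (q : ℕ) {H : Type u} [AddCommGroup H] [Module R H]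
  [Module k H] [IsScalarTower k R H] (π : ↥(ZR C m (q + 1)) →ₗ[R] H)
  (e : Hs (k := k) C.dk (C.gk m) (q + 1) ≃ₗ[k] H)
  (he : ∀ (z : C.X (q + 1)) (hz : z ∈ cocyc (k := k) C.dk (C.gk m) (q + 1))
        (hz' : z ∈ ZR C m (q + 1)), e (Submodule.Quotient.mk ⟨z, hz⟩) = π ⟨z, hz'⟩)

include he in
theorem GCx.kEquiv_mulk (r : R) (h : Hs (k := k) C.dk (C.gk m) (q + 1)) :
    e (HsMap C.dk (C.gk m) C.dk (C.gk m) (C.mulk r) (C.mulk_dk r) (C.mulk_mem_gk m r) (q + 1) h) =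
      r • e h := by
  obtain ⟨⟨z, hz⟩, rfl⟩ := Submodule.Quotient.mk_surjective _ h
  have hz' : z ∈ ZR C m (q + 1) := ⟨hz.1, hz.2⟩
  have h1 := he z hz hz'
  have h2 := he (C.mulk r (q + 1) z)
    (map_mem_cocyc C.dk (C.gk m) C.dk (C.gk m) (C.mulk r) (C.mulk_dk r) (C.mulk_mem_gk m r)
      (q + 1) z hz) (Submodule.smul_mem _ r hz')
  have h3 : π (⟨C.mulk r (q + 1) z, Submodule.smul_mem _ r hz'⟩ : ↥(ZR C m (q + 1))) =
      r • π ⟨z, hz'⟩ := map_smul π r ⟨z, hz'⟩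
  rw [h1]
  exact h2.trans h3

end Transport

section Proj

variable (aR : HomogeneousIdeal 𝒜) (q : ℕ) {H : Type u} [AddCommGroup H] [Module R H]
  [Module k H] [IsScalarTower k R H] (π : ↥(ZR C aR.toIdeal (q + 1)) →ₗ[R] H)
  (e : Hs (k := k) C.dk (C.gk aR.toIdeal) (q + 1) ≃ₗ[k] H)
  (he : ∀ (z : C.X (q + 1)) (hz : z ∈ cocyc (k := k) C.dk (C.gk aR.toIdeal) (q + 1))
        (hz' : z ∈ ZR C aR.toIdeal (q + 1)), e (Submodule.Quotient.mk ⟨z, hz⟩) = π ⟨z, hz'⟩)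

/-- the graded projection on (a presentation of) the cohomology -/
noncomputable def GCx.pH (d : ℤ) : H →ₗ[k] H :=
  e.toLinearMap ∘ₗ HsMap C.dk (C.gk aR.toIdeal) C.dk (C.gk aR.toIdeal) (C.prk d) (C.prk_dk d)
    (C.prk_mem_gk aR d) (q + 1) ∘ₗ e.symm.toLinearMap

theorem GCx.pH_e (d : ℤ) (h : Hs (k := k) C.dk (C.gk aR.toIdeal) (q + 1)) :
    C.pH aR q e d (e h) = e (HsMap C.dk (C.gk aR.toIdeal) C.dk (C.gk aR.toIdeal) (C.prk d)
      (C.prk_dk d) (C.prk_mem_gk aR d) (q + 1) h) := by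
  unfold GCx.pH
  rw [LinearMap.comp_apply, LinearMap.comp_apply, LinearEquiv.coe_coe, LinearEquiv.coe_coe,
    LinearEquiv.symm_apply_apply]

include he in
theorem GCx.pH_mem (ℋ : ℤ → AddSubgroup H)
    (hℋ : ∀ (d : ℤ) (z : ↥(ZR C aR.toIdeal (q + 1))), z.1 ∈ C.gr (q + 1) d → π z ∈ ℋ d)
    (d : ℤ) (h : H) : C.pH aR q e d h ∈ ℋ d := by
  obtain ⟨h0, rfl⟩ := e.surjective h
  obtain ⟨⟨z, hz⟩, rfl⟩ := Submodule.Quotient.mk_surjective _ h0
  rw [GCx.pH_e, HsMap_mk]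
  have hz2 := map_mem_cocyc C.dk (C.gk aR.toIdeal) C.dk (C.gk aR.toIdeal) (C.prk d) (C.prk_dk d)
      (C.prk_mem_gk aR d) (q + 1) z hz
  have h2 := he (C.prk d (q + 1) z) hz2 ⟨hz2.1, hz2.2⟩
  exact h2 ▸ hℋ d ⟨C.prk d (q + 1) z, ⟨hz2.1, hz2.2⟩⟩ (C.prk_mem d (q + 1) z)

end Proj

end OneSide

section TwoSides

variable {k : Type u} [Field k] {R S T : Type u} [CommRing R] [CommRing S] [CommRing T]
  [Algebra k R] [Algebra k S] [Algebra k T]
  {𝒜 : ℤ → Submodule k R} [GradedAlgebra 𝒜] {ℬ : ℤ → Submodule k S} [GradedAlgebra ℬ]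
  (C : GCx k 𝒜) (D : GCx k ℬ)
  (𝒯 : ℤ → Submodule k T) [GradedAlgebra 𝒯] {ψ : T →ₐ[k] R ⊗[k] S}
  (hT : GrSeg.IsSegreRing 𝒜 ℬ 𝒯 ψ)

/-- comparison of the two quotients by the torsion -/
theorem map_mkQ_eq_zero_iff (mR : Ideal R) (mS : Ideal S) (a b : ℕ) (t : C.X a ⊗[k] D.X b) :
    TensorProduct.map (C.gk mR a).mkQ (D.gk mS b).mkQ t = 0 ↔
      kmap (k := k) (DRing.torsionSub mR (C.X a)).mkQ (DRing.torsionSub mS (D.X b)).mkQ t = 0 := by
  let eR : (C.X a ⧸ C.gk mR a) ≃ₗ[k] C.X a ⧸ DRing.torsionSub mR (C.X a) :=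
    Submodule.Quotient.restrictScalarsEquiv k (DRing.torsionSub mR (C.X a))
  let eS : (D.X b ⧸ D.gk mS b) ≃ₗ[k] D.X b ⧸ DRing.torsionSub mS (D.X b) :=
    Submodule.Quotient.restrictScalarsEquiv k (DRing.torsionSub mS (D.X b))
  have h1 : kmap (k := k) (DRing.torsionSub mR (C.X a)).mkQ (DRing.torsionSub mS (D.X b)).mkQ t =
      TensorProduct.map eR.toLinearMap eS.toLinearMap
        (TensorProduct.map (C.gk mR a).mkQ (D.gk mS b).mkQ t) := by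
    rw [← LinearMap.comp_apply, ← TensorProduct.map_comp]
    rfl
  have hinj : Function.Injective (TensorProduct.map eR.toLinearMap eS.toLinearMap) :=
    (TensorProduct.congr eR eS).injective
  rw [h1]
  constructor
  · intro h
    rw [h, map_zero]
  · intro h
    exact hinj (h.trans (map_zero _).symm)

theorem mem_GG_iff (mR : Ideal R) (mS : Ideal S) (n : ℕ) (w : TotX k C.X D.X n) :
    w ∈ GG (C.gk mR) (D.gk mS) n ↔
      ∀ p : Idx n, kmap (k := k) (DRing.torsionSub mR (C.X p.1.1)).mkQ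
        (DRing.torsionSub mS (D.X p.1.2)).mkQ (w p) = 0 := by
  rw [LinearMap.mem_ker]
  constructor
  · intro h p
    rw [← map_mkQ_eq_zero_iff]
    have := congrFun h p
    rw [TotMap_apply] at this
    exact this
  · intro h
    funext p
    rw [TotMap_apply]
    exact (map_mkQ_eq_zero_iff C D mR mS _ _ _).mpr (h p)

/-- the componentwise action of `c ∈ R ⊗ S` on the total complex -/
noncomputable def actT (c : R ⊗[k] S) (n : ℕ) : TotX k C.X D.X n →ₗ[k] TotX k C.X D.X n :=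
  PiMap (fun a b => GrSeg.act k R S (C.X a) (D.X b) c) n

theorem actT_apply (c : R ⊗[k] S) (n : ℕ) (w : TotX k C.X D.X n) (p : Idx n) :
    actT C D c n w p = GrSeg.act k R S (C.X p.1.1) (D.X p.1.2) c (w p) := rfl

theorem actT_zero (n : ℕ) (w : TotX k C.X D.X n) : actT C D 0 n w = 0 := by
  funext p
  rw [actT_apply, map_zero, LinearMap.zero_apply]
  rfl

theorem actT_add (c c' : R ⊗[k] S) (n : ℕ) (w : TotX k C.X D.X n) :
    actT C D (c + c') n w = actT C D c n w + actT C D c' n w := by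
  funext p
  rw [Pi.add_apply, actT_apply, actT_apply, actT_apply, map_add, LinearMap.add_apply]

theorem actT_tmul (r : R) (s : S) (n : ℕ) (w : TotX k C.X D.X n) :
    actT C D (r ⊗ₜ[k] s) n w = TotMap (C.mulk r) (D.mulk s) n w := by
  funext p
  rw [actT_apply, TotMap_apply]
  rfl

theorem actT_TotD (c : R ⊗[k] S) (n : ℕ) (w : TotX k C.X D.X n) :
    actT C D c (n + 1) (TotD C.dk D.dk n w) = TotD C.dk D.dk n (actT C D c n w) :=
  PiMap_TotD C.dk D.dk C.dk D.dk (fun a b => GrSeg.act k R S (C.X a) (D.X b) c)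
    (fun a b x => by rw [rTensor_eq_kmap, rTensor_eq_kmap, kmap_act])
    (fun a b x => by rw [lTensor_eq_kmap, lTensor_eq_kmap, kmap_act]) n w

theorem actT_mem_GG (mR : Ideal R) (mS : Ideal S) (c : R ⊗[k] S) (n : ℕ) (w : TotX k C.X D.X n)
    (hw : w ∈ GG (C.gk mR) (D.gk mS) n) : actT C D c n w ∈ GG (C.gk mR) (D.gk mS) n := by
  rw [mem_GG_iff] at hw ⊢
  intro p
  rw [actT_apply, kmap_act, hw p, map_zero]

theorem smul_eq_actT (t : T) (n : ℕ) (w : TT C D ψ n) : t • w = actT C D (ψ t) n w := rfl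

section Data

variable (aR : HomogeneousIdeal 𝒜) (aS : HomogeneousIdeal ℬ) {a b M : ℕ} (hM : a + b + 1 = M)
  {HR : Type u} [AddCommGroup HR] [Module R HR] [Module k HR] [IsScalarTower k R HR]
  (πR : ↥(ZR C aR.toIdeal (a + 2)) →ₗ[R] HR)
  {HS : Type u} [AddCommGroup HS] [Module S HS] [Module k HS] [IsScalarTower k S HS]
  (πS : ↥(ZR D aS.toIdeal (b + 2)) →ₗ[S] HS)

/-- the top cohomology of the torsion part of the full total complex -/
abbrev HTot (n : ℕ) : Type u :=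
  Hs (TotD C.dk D.dk) (GG (C.gk aR.toIdeal) (D.gk aS.toIdeal)) n

/-- the cocycles of the torsion part of the full total complex -/
noncomputable abbrev ZTot (n : ℕ) : Submodule k (TotX k C.X D.X n) :=
  cocyc (TotD C.dk D.dk) (GG (C.gk aR.toIdeal) (D.gk aS.toIdeal)) n

/-- the data of the top Künneth isomorphism -/
structure TopData where
  eR : Hs (k := k) C.dk (C.gk aR.toIdeal) (a + 2) ≃ₗ[k] HR
  heR : ∀ (z : C.X (a + 2)) (hz : z ∈ cocyc (k := k) C.dk (C.gk aR.toIdeal) (a + 2))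
    (hz' : z ∈ ZR C aR.toIdeal (a + 2)), eR (Submodule.Quotient.mk ⟨z, hz⟩) = πR ⟨z, hz'⟩
  eS : Hs (k := k) D.dk (D.gk aS.toIdeal) (b + 2) ≃ₗ[k] HS
  heS : ∀ (z : D.X (b + 2)) (hz : z ∈ cocyc (k := k) D.dk (D.gk aS.toIdeal) (b + 2))
    (hz' : z ∈ ZR D aS.toIdeal (b + 2)), eS (Submodule.Quotient.mk ⟨z, hz⟩) = πS ⟨z, hz'⟩
  Ψ : (Hs (k := k) C.dk (C.gk aR.toIdeal) (a + 2) ⊗[k] Hs (k := k) D.dk (D.gk aS.toIdeal) (b + 2))
    ≃ₗ[k] HTot C D aR aS (M + 1 + 1)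
  hΨ : ∀ (ξ : C.X (a + 1)) (η : D.X (b + 1))
    (h1 : C.dk (a + 1) ξ ∈ cocyc (k := k) C.dk (C.gk aR.toIdeal) (a + 2))
    (h2 : D.dk (b + 1) η ∈ cocyc (k := k) D.dk (D.gk aS.toIdeal) (b + 2))
    (h3 : TotD C.dk D.dk (M + 1) (inc (show a + 1 + (b + 1) = M + 1 by omega) (ξ ⊗ₜ[k] η)) ∈
      ZTot C D aR aS (M + 1 + 1)),
    Ψ ((Submodule.Quotient.mk ⟨C.dk (a + 1) ξ, h1⟩ :
          Hs (k := k) C.dk (C.gk aR.toIdeal) (a + 2)) ⊗ₜ[k]
        (Submodule.Quotient.mk ⟨D.dk (b + 1) η, h2⟩ :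
          Hs (k := k) D.dk (D.gk aS.toIdeal) (b + 2))) =
      Submodule.Quotient.mk ⟨_, h3⟩

theorem nonempty_topData
    (hexC : ∀ a, LinearMap.ker (C.d (a + 1)) = LinearMap.range (C.d a))
    (hexD : ∀ b, LinearMap.ker (D.d (b + 1)) = LinearMap.range (D.d b))
    (hπRs : Function.Surjective πR)
    (hπRk : LinearMap.ker πR =
      (cobdy (k := R) C.d (fun n => GrLC.gam aR.toIdeal (C.X n)) (a + 2)).comap
        (ZR C aR.toIdeal (a + 2)).subtype)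
    (hπSs : Function.Surjective πS)
    (hπSk : LinearMap.ker πS =
      (cobdy (k := S) D.d (fun n => GrLC.gam aS.toIdeal (D.X n)) (b + 2)).comap
        (ZR D aS.toIdeal (b + 2)).subtype)
    (hvC : ∀ i, a + 2 < i → Subsingleton (Hs (k := k) C.dk (C.gk aR.toIdeal) i))
    (hvD : ∀ j, b + 2 < j → Subsingleton (Hs (k := k) D.dk (D.gk aS.toIdeal) j)) :
    Nonempty (TopData C D aR aS hM πR πS) := by
  obtain ⟨eR, heR⟩ := C.exists_kEquiv aR.toIdeal (a + 1) πR hπRs hπRk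
  obtain ⟨eS, heS⟩ := D.exists_kEquiv aS.toIdeal (b + 1) πS hπSs hπSk
  obtain ⟨Ψ, hΨ⟩ := topKun C.dk D.dk C.dk_dk D.dk_dk (C.gk aR.toIdeal) (C.dk_mem_gk aR.toIdeal)
    (D.gk aS.toIdeal) (D.dk_mem_gk aS.toIdeal) (C.dk_exact hexC) (D.dk_exact hexD) hM hvC hvD
  exact ⟨{ eR := eR, heR := heR, eS := eS, heS := heS, Ψ := Ψ,
           hΨ := fun ξ η h1 h2 h3 => hΨ ξ η h1.1 h2.1 }⟩

theorem actT_mem_ZTot (c : R ⊗[k] S) (n : ℕ) (w : TotX k C.X D.X n)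
    (hw : w ∈ ZTot C D aR aS n) : actT C D c n w ∈ ZTot C D aR aS n := by
  refine ⟨actT_mem_GG C D aR.toIdeal aS.toIdeal c n w hw.1, ?_⟩
  change TotD C.dk D.dk n (actT C D c n w) = 0
  have h2 : TotD C.dk D.dk n w = 0 := hw.2
  rw [← actT_TotD, h2, map_zero]

namespace TopData

variable {C D aR aS hM πR πS} (X : TopData C D aR aS hM πR πS)

/-- the top Künneth isomorphism on the presentations -/
noncomputable def Ψ' : HR ⊗[k] HS ≃ₗ[k] HTot C D aR aS (M + 1 + 1) :=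
  (TensorProduct.congr X.eR X.eS).symm.trans X.Ψ

theorem Ψ'_congr (z : Hs (k := k) C.dk (C.gk aR.toIdeal) (a + 2) ⊗[k]
    Hs (k := k) D.dk (D.gk aS.toIdeal) (b + 2)) :
    X.Ψ' (TensorProduct.congr X.eR X.eS z) = X.Ψ z := by
  unfold Ψ'
  rw [LinearEquiv.trans_apply, LinearEquiv.symm_apply_apply]

/-- naturality of `Ψ'` with respect to pairs of chain maps -/
theorem Ψ'_nat (f : ∀ i, C.X i →ₗ[k] C.X i) (hf : ∀ i x, f (i + 1) (C.dk i x) = C.dk i (f i x))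
    (hf' : ∀ i x, x ∈ C.gk aR.toIdeal i → f i x ∈ C.gk aR.toIdeal i)
    (g : ∀ j, D.X j →ₗ[k] D.X j) (hg : ∀ j y, g (j + 1) (D.dk j y) = D.dk j (g j y))
    (hg' : ∀ j y, y ∈ D.gk aS.toIdeal j → g j y ∈ D.gk aS.toIdeal j)
    (fH : HR →ₗ[k] HR) (gH : HS →ₗ[k] HS)
    (hfH : ∀ h, fH (X.eR h) = X.eR (HsMap C.dk (C.gk aR.toIdeal) C.dk (C.gk aR.toIdeal) f hf hf'
      (a + 2) h))
    (hgH : ∀ h, gH (X.eS h) = X.eS (HsMap D.dk (D.gk aS.toIdeal) D.dk (D.gk aS.toIdeal) g hg hg'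
      (b + 2) h))
    (hexC : ∀ a, LinearMap.ker (C.d (a + 1)) = LinearMap.range (C.d a))
    (hexD : ∀ b, LinearMap.ker (D.d (b + 1)) = LinearMap.range (D.d b))
    (z : HR ⊗[k] HS) :
    X.Ψ' (TensorProduct.map fH gH z) =
      HsMap (TotD C.dk D.dk) (GG (C.gk aR.toIdeal) (D.gk aS.toIdeal)) (TotD C.dk D.dk)
        (GG (C.gk aR.toIdeal) (D.gk aS.toIdeal)) (TotMap f g)
        (fun n w => TotMap_TotD C.dk D.dk f g C.dk D.dk hf hg n w)
        (fun n w hw => TotMap_mem_GG (C.gk aR.toIdeal) (D.gk aS.toIdeal) f hf' g hg' n w hw)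
        (M + 1 + 1) (X.Ψ' z) := by
  obtain ⟨z₀, rfl⟩ := (TensorProduct.congr X.eR X.eS).surjective z
  have h1 : TensorProduct.map fH gH (TensorProduct.congr X.eR X.eS z₀) =
      TensorProduct.congr X.eR X.eS
        (TensorProduct.map (HsMap C.dk (C.gk aR.toIdeal) C.dk (C.gk aR.toIdeal) f hf hf' (a + 2))
          (HsMap D.dk (D.gk aS.toIdeal) D.dk (D.gk aS.toIdeal) g hg hg' (b + 2)) z₀) := by
    induction z₀ using TensorProduct.induction_on with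
    | zero => simp
    | tmul x y =>
      rw [TensorProduct.congr_tmul, TensorProduct.map_tmul, TensorProduct.map_tmul,
        TensorProduct.congr_tmul, hfH, hgH]
    | add x y hx hy => rw [map_add, map_add, hx, hy, map_add, map_add]
  rw [h1, Ψ'_congr, Ψ'_congr]
  exact Psi_natural C.dk D.dk C.dk_dk D.dk_dk (C.gk aR.toIdeal) (D.gk aS.toIdeal) f hf hf' g hg hg'
    hM (C.dk_exact hexC) (D.dk_exact hexD) X.Ψ.toLinearMap X.hΨ z₀

/-- `Ψ'` is compatible with the action of `R ⊗ S` -/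
theorem Ψ'_act (hexC : ∀ a, LinearMap.ker (C.d (a + 1)) = LinearMap.range (C.d a))
    (hexD : ∀ b, LinearMap.ker (D.d (b + 1)) = LinearMap.range (D.d b))
    (c : R ⊗[k] S) (z : HR ⊗[k] HS) (w : ↥(ZTot C D aR aS (M + 1 + 1)))
    (hzw : X.Ψ' z = Submodule.Quotient.mk w) :
    X.Ψ' (GrSeg.act k R S HR HS c z) =
      Submodule.Quotient.mk ⟨actT C D c (M + 1 + 1) w.1,
        actT_mem_ZTot C D aR aS c (M + 1 + 1) w.1 w.2⟩ := by
  induction c using TensorProduct.induction_on with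
  | zero =>
    rw [map_zero, LinearMap.zero_apply, map_zero]
    symm
    rw [Submodule.Quotient.mk_eq_zero]
    change actT C D 0 (M + 1 + 1) w.1 ∈
      cobdy (TotD C.dk D.dk) (GG (C.gk aR.toIdeal) (D.gk aS.toIdeal)) (M + 1 + 1)
    rw [actT_zero]
    exact Submodule.zero_mem _
  | tmul r s =>
    have h1 : GrSeg.act k R S HR HS (r ⊗ₜ[k] s) z =
        TensorProduct.map (Algebra.lsmul k k HR r) (Algebra.lsmul k k HS s) z := rfl
    rw [h1, X.Ψ'_nat (C.mulk r) (C.mulk_dk r) (C.mulk_mem_gk aR.toIdeal r) (D.mulk s) (D.mulk_dk s)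
      (D.mulk_mem_gk aS.toIdeal s) (Algebra.lsmul k k HR r) (Algebra.lsmul k k HS s)
      (fun h => (C.kEquiv_mulk aR.toIdeal (a + 1) πR X.eR X.heR r h).symm)
      (fun h => (D.kEquiv_mulk aS.toIdeal (b + 1) πS X.eS X.heS s h).symm) hexC hexD z, hzw,
      HsMap_mk]
    congr 1
  | add c c' hc hc' =>
    rw [map_add, LinearMap.add_apply, map_add, hc, hc', ← Submodule.Quotient.mk_add]
    congr 1
    apply Subtype.ext
    exact (actT_add C D c c' (M + 1 + 1) w.1).symm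

end TopData

end Data

section TSide

variable [IsNoetherianRing R] [IsNoetherianRing S] [IsNoetherianRing T]
  [IsNoetherianRing (R ⊗[k] S)]
  (aR : HomogeneousIdeal 𝒜) (aS : HomogeneousIdeal ℬ) (mT : HomogeneousIdeal 𝒯)
  (hI : IdealHyp ψ aR.toIdeal aS.toIdeal mT.toIdeal)
  (hC : ∀ a j, Subsingleton (LocCoh.H aR.toIdeal (j + 1) (C.X a)))
  (hD : ∀ b j, Subsingleton (LocCoh.H aS.toIdeal (j + 1) (D.X b)))

include hI hC hD in
/-- the `P`-torsion of the full total complex is `GG` -/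
theorem mem_torsionSub_TT_iff (n : ℕ) (w : TT C D ψ n) :
    w ∈ DRing.torsionSub mT.toIdeal (TT C D ψ n) ↔
      (w : TotX k C.X D.X n) ∈ GG (C.gk aR.toIdeal) (D.gk aS.toIdeal) n := by
  have h1 := mem_GG_iff C D aR.toIdeal aS.toIdeal n (w : TotX k C.X D.X n)
  have h2 := mem_torsionSub_pi mT.toIdeal (fun p : Idx n => TP ψ (C.X p.1.1) (D.X p.1.2)) w
  refine h2.trans (Iff.trans (forall_congr' fun p => ?_) h1.symm)
  rw [torsionSub_TP_eq hI (hC p.1.1) (hD p.1.2), LinearMap.mem_ker]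
  rfl

/-- the torsion part of `Tot(C # D)` -/
noncomputable abbrev GSeg (n : ℕ) : Submodule T ↥(SegT C D 𝒯 hT n) :=
  GrLC.gam mT.toIdeal ↥(SegT C D 𝒯 hT n)

/-- the cocycles of the torsion part of `Tot(C # D)` -/
noncomputable abbrev ZSeg (n : ℕ) : Submodule T ↥(SegT C D 𝒯 hT n) :=
  cocyc (k := T) (dSeg C D 𝒯 hT) (GSeg C D 𝒯 hT mT) n

/-- the cohomology of the torsion part of `Tot(C # D)` -/
noncomputable abbrev HSeg (n : ℕ) : Type u :=
  Hs (k := T) (dSeg C D 𝒯 hT) (GSeg C D 𝒯 hT mT) n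

include hI hC hD in
theorem mem_GSeg_iff (n : ℕ) (w : ↥(SegT C D 𝒯 hT n)) :
    w ∈ GSeg C D 𝒯 hT mT n ↔
      ((w : TT C D ψ n) : TotX k C.X D.X n) ∈ GG (C.gk aR.toIdeal) (D.gk aS.toIdeal) n := by
  rw [← mem_torsionSub_TT_iff C D 𝒯 aR aS mT hI hC hD]
  exact mem_torsionSub_submodule mT.toIdeal _ w

include hI hC hD in
theorem mem_ZTot_of_mem_ZSeg (n : ℕ) (w : ↥(SegT C D 𝒯 hT n)) (hw : w ∈ ZSeg C D 𝒯 hT mT n) :
    ((w : TT C D ψ n) : TotX k C.X D.X n) ∈ ZTot C D aR aS n := by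
  refine ⟨(mem_GSeg_iff C D 𝒯 hT aR aS mT hI hC hD n w).mp hw.1, ?_⟩
  have h2 : dSeg C D 𝒯 hT n w = 0 := hw.2
  exact congrArg Subtype.val h2

section Phi

variable {a b M : ℕ} {hM : a + b + 1 = M}
  {HR : Type u} [AddCommGroup HR] [Module R HR] [Module k HR] [IsScalarTower k R HR]
  {πR : ↥(ZR C aR.toIdeal (a + 2)) →ₗ[R] HR}
  {HS : Type u} [AddCommGroup HS] [Module S HS] [Module k HS] [IsScalarTower k S HS]
  {πS : ↥(ZR D aS.toIdeal (b + 2)) →ₗ[S] HS}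
  (X : TopData C D aR aS hM πR πS)
  (hexC : ∀ a, LinearMap.ker (C.d (a + 1)) = LinearMap.range (C.d a))
  (hexD : ∀ b, LinearMap.ker (D.d (b + 1)) = LinearMap.range (D.d b))

/-- a cocycle of `Γ_P(Tot(C # D))` as a cocycle of the torsion part of the full total complex -/
def toZTot (n : ℕ) (w : ↥(ZSeg C D 𝒯 hT mT n)) : ↥(ZTot C D aR aS n) :=
  ⟨((w.1 : TT C D ψ n) : TotX k C.X D.X n),
    mem_ZTot_of_mem_ZSeg C D 𝒯 hT aR aS mT hI hC hD n w.1 w.2⟩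

/-- the comparison map on cocycles -/
noncomputable def PhiTop : ↥(ZSeg C D 𝒯 hT mT (M + 1 + 1)) →ₗ[T] TP ψ HR HS where
  toFun w := X.Ψ'.symm (Submodule.Quotient.mk (toZTot C D 𝒯 hT aR aS mT hI hC hD (M + 1 + 1) w))
  map_add' w w' := by
    have h1 : (Submodule.Quotient.mk (toZTot C D 𝒯 hT aR aS mT hI hC hD (M + 1 + 1) (w + w')) :
        HTot C D aR aS (M + 1 + 1)) =
        Submodule.Quotient.mk (toZTot C D 𝒯 hT aR aS mT hI hC hD (M + 1 + 1) w) +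
          Submodule.Quotient.mk (toZTot C D 𝒯 hT aR aS mT hI hC hD (M + 1 + 1) w') := rfl
    rw [h1, map_add]
    rfl
  map_smul' t w := by
    have h1 := X.Ψ'_act hexC hexD (ψ t)
      (X.Ψ'.symm (Submodule.Quotient.mk (toZTot C D 𝒯 hT aR aS mT hI hC hD (M + 1 + 1) w)))
      (toZTot C D 𝒯 hT aR aS mT hI hC hD (M + 1 + 1) w) (LinearEquiv.apply_symm_apply _ _)
    have h2 : (Submodule.Quotient.mk (toZTot C D 𝒯 hT aR aS mT hI hC hD (M + 1 + 1) (t • w)) :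
        HTot C D aR aS (M + 1 + 1)) =
        Submodule.Quotient.mk ⟨actT C D (ψ t) (M + 1 + 1)
          (toZTot C D 𝒯 hT aR aS mT hI hC hD (M + 1 + 1) w).1,
          actT_mem_ZTot C D aR aS (ψ t) (M + 1 + 1) _
            (toZTot C D 𝒯 hT aR aS mT hI hC hD (M + 1 + 1) w).2⟩ := rfl
    rw [h2, ← h1, LinearEquiv.symm_apply_apply]
    rfl

theorem PhiTop_apply (w : ↥(ZSeg C D 𝒯 hT mT (M + 1 + 1))) :
    X.Ψ' (PhiTop C D 𝒯 hT aR aS mT hI hC hD X hexC hexD w) =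
      Submodule.Quotient.mk (toZTot C D 𝒯 hT aR aS mT hI hC hD (M + 1 + 1) w) :=
  LinearEquiv.apply_symm_apply _ _

theorem PhiTop_eq_zero_iff (w : ↥(ZSeg C D 𝒯 hT mT (M + 1 + 1))) :
    PhiTop C D 𝒯 hT aR aS mT hI hC hD X hexC hexD w = 0 ↔
      w.1 ∈ cobdy (k := T) (dSeg C D 𝒯 hT) (GSeg C D 𝒯 hT mT) (M + 1 + 1) := by
  have h0 : PhiTop C D 𝒯 hT aR aS mT hI hC hD X hexC hexD w = 0 ↔
      (Submodule.Quotient.mk (toZTot C D 𝒯 hT aR aS mT hI hC hD (M + 1 + 1) w) :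
        HTot C D aR aS (M + 1 + 1)) = 0 := by
    rw [← PhiTop_apply C D 𝒯 hT aR aS mT hI hC hD X hexC hexD w]
    exact (LinearEquiv.map_eq_zero_iff X.Ψ').symm
  rw [h0, Submodule.Quotient.mk_eq_zero]
  constructor
  · rintro ⟨v, hv, hvw⟩
    have hvw' : TotD C.dk D.dk (M + 1) v = ((w.1 : TT C D ψ (M + 1 + 1)) : TotX k C.X D.X _) := hvw
    let v0 : TT C D ψ (M + 1) := v
    have ht : v0 ∈ DRing.torsionSub mT.toIdeal (TT C D ψ (M + 1)) :=
      (mem_torsionSub_TT_iff C D 𝒯 aR aS mT hI hC hD (M + 1) v0).mpr hv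
    have ht' := DRing.map_mem_torsionSub mT.toIdeal (DeltaT C D 𝒯 hT (M + 1)) ht
    refine ⟨retrT C D 𝒯 hT (M + 1) v0, ?_, ?_⟩
    · exact (mem_GSeg_iff C D 𝒯 hT aR aS mT hI hC hD (M + 1) _).mpr
        ((mem_torsionSub_TT_iff C D 𝒯 aR aS mT hI hC hD (M + 1) _).mp ht')
    · apply Subtype.ext
      change DTot C D (M + 1) (DeltaT C D 𝒯 hT (M + 1) v0) = w.1.1
      rw [DTot_DeltaT]
      have h3 : DTot C D (M + 1) v0 = w.1.1 := hvw'
      rw [h3]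
      exact DeltaT_of_mem C D 𝒯 hT w.1.2
  · rintro ⟨v, hv, hvw⟩
    refine ⟨v.1, (mem_GSeg_iff C D 𝒯 hT aR aS mT hI hC hD (M + 1) v).mp hv, ?_⟩
    exact congrArg Subtype.val hvw

include hexC hexD in
/-- the class of a tensor of homogeneous classes is in the image of the piece -/
theorem exists_PhiTop_eq_tmul (d : ℤ) (x : ↥(ZR C aR.toIdeal (a + 2)))
    (hx : x.1 ∈ C.gr (a + 2) d) (y : ↥(ZR D aS.toIdeal (b + 2))) (hy : y.1 ∈ D.gr (b + 2) d) :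
    ∃ w : ↥(ZSeg C D 𝒯 hT mT (M + 1 + 1)), w.1 ∈ segTGr C D 𝒯 hT (M + 1 + 1) d ∧
      PhiTop C D 𝒯 hT aR aS mT hI hC hD X hexC hexD w = (πR x ⊗ₜ[k] πS y : HR ⊗[k] HS) := by
  -- homogeneous primitives
  have hx2 : x.1 ∈ LinearMap.ker (C.d (a + 1 + 1)) := x.2.2
  rw [hexC (a + 1)] at hx2
  obtain ⟨ξ₀, hξ₀⟩ := hx2
  have hy2 : y.1 ∈ LinearMap.ker (D.d (b + 1 + 1)) := y.2.2
  rw [hexD (b + 1)] at hy2
  obtain ⟨η₀, hη₀⟩ := hy2
  have hξ : C.dk (a + 1) (C.prk d (a + 1) ξ₀) = x.1 := by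
    rw [← C.prk_dk]
    have : C.dk (a + 1) ξ₀ = x.1 := hξ₀
    rw [this]
    exact C.prk_of_mem d _ _ hx
  have hη : D.dk (b + 1) (D.prk d (b + 1) η₀) = y.1 := by
    rw [← D.prk_dk]
    have : D.dk (b + 1) η₀ = y.1 := hη₀
    rw [this]
    exact D.prk_of_mem d _ _ hy
  have hξW : C.prk d (a + 1) ξ₀ ∈ WW C.dk (C.gk aR.toIdeal) a := by
    change C.dk (a + 1) (C.prk d (a + 1) ξ₀) ∈ C.gk aR.toIdeal (a + 2)
    rw [hξ]
    exact x.2.1
  have hηW : D.prk d (b + 1) η₀ ∈ WW D.dk (D.gk aS.toIdeal) b := by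
    change D.dk (b + 1) (D.prk d (b + 1) η₀) ∈ D.gk aS.toIdeal (b + 2)
    rw [hη]
    exact y.2.1
  have hZ := D_inc_mem_cocyc C.dk D.dk C.dk_dk D.dk_dk (C.gk aR.toIdeal) (D.gk aS.toIdeal) hM
    _ _ hξW hηW
  have hcomp : ∀ p : Idx (M + 1 + 1), TotD C.dk D.dk (M + 1)
      (inc (show a + 1 + (b + 1) = M + 1 by omega)
        (C.prk d (a + 1) ξ₀ ⊗ₜ[k] D.prk d (b + 1) η₀)) p ∈
      GrSeg.segrePiece k (C.gr p.1.1) (D.gr p.1.2) d := by
    intro p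
    exact TotD_mem C.dk D.dk (fun a b => GrSeg.segrePiece k (C.gr a) (D.gr b) d)
      (fun a b t ht => by
        rw [rTensor_eq_kmap]
        exact kmap_mem_piece _ _ _ _ (C.d a) LinearMap.id (C.d_gr a) (fun _ _ h => h) ht)
      (fun a b t ht => by
        rw [lTensor_eq_kmap]
        exact kmap_mem_piece _ _ _ _ LinearMap.id (D.d b) (fun _ _ h => h) (D.d_gr b) ht)
      (M + 1) _
      (fun q => inc_mem (fun a b => GrSeg.segrePiece k (C.gr a) (D.gr b) d) _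
        (Submodule.subset_span ⟨_, C.prk_mem d (a + 1) ξ₀, _, D.prk_mem d (b + 1) η₀, rfl⟩) q) p
  let W : ↥(SegT C D 𝒯 hT (M + 1 + 1)) :=
    ⟨TotD C.dk D.dk (M + 1) (inc (show a + 1 + (b + 1) = M + 1 by omega)
      (C.prk d (a + 1) ξ₀ ⊗ₜ[k] D.prk d (b + 1) η₀)),
      fun p => segrePiece_le_diag (C.gr p.1.1) (D.gr p.1.2) d (hcomp p)⟩
  have hW : W ∈ ZSeg C D 𝒯 hT mT (M + 1 + 1) := by
    refine ⟨(mem_GSeg_iff C D 𝒯 hT aR aS mT hI hC hD (M + 1 + 1) W).mpr hZ.1, ?_⟩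
    change dSeg C D 𝒯 hT (M + 1 + 1) W = 0
    apply Subtype.ext
    exact hZ.2
  refine ⟨⟨W, hW⟩, hcomp, ?_⟩
  apply X.Ψ'.injective
  rw [PhiTop_apply]
  have hx' : x.1 ∈ cocyc (k := k) C.dk (C.gk aR.toIdeal) (a + 2) := ⟨x.2.1, x.2.2⟩
  have hy' : y.1 ∈ cocyc (k := k) D.dk (D.gk aS.toIdeal) (b + 2) := ⟨y.2.1, y.2.2⟩
  have e1 : πR x = X.eR (Submodule.Quotient.mk ⟨x.1, hx'⟩) := (X.heR x.1 hx' x.2).symm
  have e2 : πS y = X.eS (Submodule.Quotient.mk ⟨y.1, hy'⟩) := (X.heS y.1 hy' y.2).symm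
  have hξc : C.dk (a + 1) (C.prk d (a + 1) ξ₀) ∈ cocyc (k := k) C.dk (C.gk aR.toIdeal) (a + 2) :=
    hξ ▸ hx'
  have hηc : D.dk (b + 1) (D.prk d (b + 1) η₀) ∈ cocyc (k := k) D.dk (D.gk aS.toIdeal) (b + 2) :=
    hη ▸ hy'
  have e3 : (Submodule.Quotient.mk ⟨x.1, hx'⟩ : Hs (k := k) C.dk (C.gk aR.toIdeal) (a + 2)) =
      Submodule.Quotient.mk ⟨C.dk (a + 1) (C.prk d (a + 1) ξ₀), hξc⟩ := by
    congr 1
    exact Subtype.ext hξ.symm
  have e4 : (Submodule.Quotient.mk ⟨y.1, hy'⟩ : Hs (k := k) D.dk (D.gk aS.toIdeal) (b + 2)) =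
      Submodule.Quotient.mk ⟨D.dk (b + 1) (D.prk d (b + 1) η₀), hηc⟩ := by
    congr 1
    exact Subtype.ext hη.symm
  rw [e1, e2, ← TensorProduct.congr_tmul, X.Ψ'_congr, e3, e4, X.hΨ _ _ hξc hηc hZ]
  rfl

include hexC hexD in
/-- the image of the degree `d` piece lies in the degree `d` Segre piece -/
theorem PhiTop_mem_piece (ℋR : ℤ → AddSubgroup HR)
    (hℋR : ∀ (d : ℤ) (z : ↥(ZR C aR.toIdeal (a + 2))), z.1 ∈ C.gr (a + 2) d → πR z ∈ ℋR d)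
    (ℋS : ℤ → AddSubgroup HS)
    (hℋS : ∀ (d : ℤ) (z : ↥(ZR D aS.toIdeal (b + 2))), z.1 ∈ D.gr (b + 2) d → πS z ∈ ℋS d)
    (d : ℤ) (w : ↥(ZSeg C D 𝒯 hT mT (M + 1 + 1))) (hw : w.1 ∈ segTGr C D 𝒯 hT (M + 1 + 1) d) :
    (PhiTop C D 𝒯 hT aR aS mT hI hC hD X hexC hexD w : HR ⊗[k] HS) ∈
      GrSeg.segrePiece k ℋR ℋS d := by
  have hmem : ∀ t : HR ⊗[k] HS,
      TensorProduct.map (C.pH aR (a + 1) X.eR d) (D.pH aS (b + 1) X.eS d) t ∈
        GrSeg.segrePiece k ℋR ℋS d := by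
    intro t
    induction t using TensorProduct.induction_on with
    | zero => rw [map_zero]; exact Submodule.zero_mem _
    | tmul h1 h2 =>
      exact Submodule.subset_span ⟨_, C.pH_mem aR (a + 1) πR X.eR X.heR ℋR hℋR d h1, _,
        D.pH_mem aS (b + 1) πS X.eS X.heS ℋS hℋS d h2, rfl⟩
    | add t t' ht ht' => rw [map_add]; exact Submodule.add_mem _ ht ht'
  have hnat := X.Ψ'_nat (C.prk d) (C.prk_dk d) (C.prk_mem_gk aR d) (D.prk d) (D.prk_dk d)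
    (D.prk_mem_gk aS d) (C.pH aR (a + 1) X.eR d) (D.pH aS (b + 1) X.eS d)
    (fun h => C.pH_e aR (a + 1) X.eR d h) (fun h => D.pH_e aS (b + 1) X.eS d h) hexC hexD
    (PhiTop C D 𝒯 hT aR aS mT hI hC hD X hexC hexD w)
  rw [PhiTop_apply, HsMap_mk] at hnat
  have hfix : TotMap (C.prk d) (D.prk d) (M + 1 + 1)
      (toZTot C D 𝒯 hT aR aS mT hI hC hD (M + 1 + 1) w).1 =
      (toZTot C D 𝒯 hT aR aS mT hI hC hD (M + 1 + 1) w).1 :=
    funext fun p => bproj_of_mem_piece 𝒜 ℬ _ _ (hw p)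
  have hz : TensorProduct.map (C.pH aR (a + 1) X.eR d) (D.pH aS (b + 1) X.eS d)
      (PhiTop C D 𝒯 hT aR aS mT hI hC hD X hexC hexD w) =
      PhiTop C D 𝒯 hT aR aS mT hI hC hD X hexC hexD w := by
    apply X.Ψ'.injective
    rw [hnat, PhiTop_apply]
    congr 1
    exact Subtype.ext hfix
  rw [← hz]
  exact hmem _

end Phi

section Assemble

variable {a b M : ℕ} (hM : a + b + 1 = M)
  {HR : Type u} [AddCommGroup HR] [Module R HR] [Module k HR] [IsScalarTower k R HR]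
  (πR : ↥(ZR C aR.toIdeal (a + 2)) →ₗ[R] HR)
  {HS : Type u} [AddCommGroup HS] [Module S HS] [Module k HS] [IsScalarTower k S HS]
  (πS : ↥(ZR D aS.toIdeal (b + 2)) →ₗ[S] HS)

set_option synthInstance.maxHeartbeats 200000 in
set_option maxHeartbeats 4000000 in
include hI hC hD hM in
/-- **The top cohomology of `Γ_P(Tot(C # D))` is `H^r(Γ_m C) # H^s(Γ_n D)`.** -/
theorem exists_topSegH
    (hexC : ∀ a, LinearMap.ker (C.d (a + 1)) = LinearMap.range (C.d a))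
    (hexD : ∀ b, LinearMap.ker (D.d (b + 1)) = LinearMap.range (D.d b))
    (hπRs : Function.Surjective πR)
    (hπRk : LinearMap.ker πR =
      (cobdy (k := R) C.d (fun n => GrLC.gam aR.toIdeal (C.X n)) (a + 2)).comap
        (ZR C aR.toIdeal (a + 2)).subtype)
    (hπSs : Function.Surjective πS)
    (hπSk : LinearMap.ker πS =
      (cobdy (k := S) D.d (fun n => GrLC.gam aS.toIdeal (D.X n)) (b + 2)).comap
        (ZR D aS.toIdeal (b + 2)).subtype)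
    (hvC : ∀ i, a + 2 < i → Subsingleton (Hs (k := k) C.dk (C.gk aR.toIdeal) i))
    (hvD : ∀ j, b + 2 < j → Subsingleton (Hs (k := k) D.dk (D.gk aS.toIdeal) j))
    (ℋR : ℤ → AddSubgroup HR)
    (hℋR : ∀ (d : ℤ) (x : HR), x ∈ ℋR d ↔
      ∃ z : ↥(ZR C aR.toIdeal (a + 2)), z.1 ∈ C.gr (a + 2) d ∧ πR z = x)
    (ℋS : ℤ → AddSubgroup HS)
    (hℋS : ∀ (d : ℤ) (y : HS), y ∈ ℋS d ↔
      ∃ z : ↥(ZR D aS.toIdeal (b + 2)), z.1 ∈ D.gr (b + 2) d ∧ πS z = y) :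
    ∃ Φ : HSeg C D 𝒯 hT mT (M + 1 + 1) →ₗ[T] TP ψ HR HS, Function.Injective Φ ∧
      ∀ (d : ℤ) (y : HR ⊗[k] HS),
        (∃ w : ↥(ZSeg C D 𝒯 hT mT (M + 1 + 1)), w.1 ∈ segTGr C D 𝒯 hT (M + 1 + 1) d ∧
          (Φ (Submodule.Quotient.mk w) : HR ⊗[k] HS) = y) ↔
        y ∈ GrSeg.segrePiece k ℋR ℋS d := by
  obtain ⟨X⟩ := nonempty_topData C D aR aS hM πR πS hexC hexD hπRs hπRk hπSs hπSk hvC hvD
  have hle : (cobdy (k := T) (dSeg C D 𝒯 hT) (GSeg C D 𝒯 hT mT) (M + 1 + 1)).comap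
      (ZSeg C D 𝒯 hT mT (M + 1 + 1)).subtype ≤
      LinearMap.ker (PhiTop C D 𝒯 hT aR aS mT hI hC hD X hexC hexD) :=
    fun w hw => (PhiTop_eq_zero_iff C D 𝒯 hT aR aS mT hI hC hD X hexC hexD w).mpr hw
  obtain ⟨Φ, hΦ⟩ : ∃ Φ : HSeg C D 𝒯 hT mT (M + 1 + 1) →ₗ[T] TP ψ HR HS,
      ∀ w, Φ (Submodule.Quotient.mk w) = PhiTop C D 𝒯 hT aR aS mT hI hC hD X hexC hexD w :=
    ⟨Submodule.liftQ _ (PhiTop C D 𝒯 hT aR aS mT hI hC hD X hexC hexD) hle, fun w => rfl⟩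
  refine ⟨Φ, ?_, ?_⟩
  · rw [← LinearMap.ker_eq_bot, Submodule.eq_bot_iff]
    intro x hx
    obtain ⟨w, rfl⟩ := Submodule.Quotient.mk_surjective _ x
    rw [LinearMap.mem_ker, hΦ] at hx
    exact (Submodule.Quotient.mk_eq_zero _).mpr
      ((PhiTop_eq_zero_iff C D 𝒯 hT aR aS mT hI hC hD X hexC hexD w).mp hx)
  · intro d y
    constructor
    · rintro ⟨w, hw, rfl⟩
      rw [hΦ]
      exact PhiTop_mem_piece C D 𝒯 hT aR aS mT hI hC hD X hexC hexD ℋR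
        (fun d z hz => (hℋR d _).mpr ⟨z, hz, rfl⟩) ℋS
        (fun d z hz => (hℋS d _).mpr ⟨z, hz, rfl⟩) d w hw
    · intro hy
      induction hy using Submodule.span_induction with
      | mem v hv =>
        obtain ⟨h1, hh1, h2, hh2, rfl⟩ := hv
        obtain ⟨x, hx, rfl⟩ := (hℋR d h1).mp hh1
        obtain ⟨y', hy', rfl⟩ := (hℋS d h2).mp hh2
        obtain ⟨w, hw, hw2⟩ := exists_PhiTop_eq_tmul C D 𝒯 hT aR aS mT hI hC hD X hexC hexD d
          x hx y' hy'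
        exact ⟨w, hw, (hΦ w).trans hw2⟩
      | zero => exact ⟨0, (segTGr C D 𝒯 hT (M + 1 + 1) d).zero_mem, map_zero Φ⟩
      | add x y _ _ hx hy =>
        obtain ⟨w1, h1, e1⟩ := hx
        obtain ⟨w2, h2, e2⟩ := hy
        refine ⟨w1 + w2, (segTGr C D 𝒯 hT (M + 1 + 1) d).add_mem h1 h2, ?_⟩
        rw [← e1, ← e2]
        exact map_add Φ (Submodule.Quotient.mk w1) (Submodule.Quotient.mk w2)
      | smul c x _ hx =>
        obtain ⟨w, h, e⟩ := hx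
        refine ⟨algebraMap k T c • w, ?_, ?_⟩
        · intro p
          change ((algebraMap k T c • (w.1.1 p : TP ψ (C.X p.1.1) (D.X p.1.2)) :
            TP ψ (C.X p.1.1) (D.X p.1.2)) : C.X p.1.1 ⊗[k] D.X p.1.2) ∈
            GrSeg.segrePiece k (C.gr p.1.1) (D.gr p.1.2) d
          rw [algebraMap_smul]
          exact Submodule.smul_mem _ c (h p)
        · rw [← e]
          have e1 : Φ (Submodule.Quotient.mk (algebraMap k T c • w)) =
              algebraMap k T c • Φ (Submodule.Quotient.mk w) :=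
            map_smul Φ (algebraMap k T c) (Submodule.Quotient.mk w)
          exact e1.trans (algebraMap_smul T c (Φ (Submodule.Quotient.mk w)))

end Assemble

end TSide

end TwoSides

end Groth.Agent.H81.Seg
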