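import Mathlib
import Groth.Agent.H81.Seg.Kunneth
import Groth.Agent.H81.Kun.TotExact

set_option autoImplicit false
universe u

/-!
# The linear algebra input `TotMain`
-/

namespace Groth.Agent.H81.Seg

open Groth.Agent.H81.Kun

theorem totMain (k : Type u) [Field k] : TotMain k :=
  fun dU dV hdU hdV hexU hexV =>
    ⟨tot_ker_zero dU dV hdU hdV hexU hexV, tot_exact_succ dU dV hdU hdV hexU hexV⟩

end Groth.Agent.H81.Seg
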