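import Mathlib
import Groth.Agent.H81.Seg.TopSeg
import Groth.Agent.H81.Seg.OfRes
import Groth.Agent.H81.Seg.Ideals
import Groth.Agent.H81.Seg.TotMainProof
import Groth.Agent.H98.GrStar.LCAcyc
import Groth.Agent.H98.SegreRingNoeth

set_option autoImplicit false
set_option linter.unusedSectionVars false
set_option linter.unusedVariables false
set_option linter.style.haveILetI false
universe u

/-!
# `H^{r+s-1}_{T_+}(M # N) ≅ H^r_m(M) # H^s_n(N)` as graded `T`-modules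
-/

namespace Groth.Agent.H81.Seg

open scoped TensorProduct
open Groth.Agent.H98 Groth.Agent.H81.Kun Groth.Agent.H98.Kun

set_option maxHeartbeats 4000000 in
set_option synthInstance.maxHeartbeats 200000 in
/-- **Top local cohomology of a Segre product** (top degrees `a + 2`, `b + 2`). -/
theorem topSegre_core (k : Type u) [Field k] (R : Type u) [CommRing R] [Algebra k R]
    (𝒜 : ℤ → Submodule k R) [GradedAlgebra 𝒜] [Algebra.FiniteType k R]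
    (S : Type u) [CommRing S] [Algebra k S] (ℬ : ℤ → Submodule k S) [GradedAlgebra ℬ]
    [Algebra.FiniteType k S]
    (T : Type u) [CommRing T] [Algebra k T] (𝒯 : ℤ → Submodule k T) [GradedAlgebra 𝒯]
    (ψ : T →ₐ[k] R ⊗[k] S) (hT : GrSeg.IsSegreRing 𝒜 ℬ 𝒯 ψ)
    (mR : HomogeneousIdeal 𝒜)
    (hmR : mR.toIdeal = Ideal.span (⋃ n ∈ Set.Ioi (0 : ℤ), (𝒜 n : Set R)))
    (mS : HomogeneousIdeal ℬ)
    (hmS : mS.toIdeal = Ideal.span (⋃ n ∈ Set.Ioi (0 : ℤ), (ℬ n : Set S)))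
    (mT : HomogeneousIdeal 𝒯)
    (hmT : mT.toIdeal = Ideal.span (⋃ n ∈ Set.Ioi (0 : ℤ), (𝒯 n : Set T)))
    (M : Type u) [AddCommGroup M] [Module R M] [Module k M] [IsScalarTower k R M]
    (ℳ : ℤ → AddSubgroup M) [DirectSum.Decomposition ℳ] [SetLike.GradedSMul 𝒜 ℳ]
    (EM : GrLC.StarInjRes 𝒜 ℳ)
    (N : Type u) [AddCommGroup N] [Module S N] [Module k N] [IsScalarTower k S N]
    (𝒩 : ℤ → AddSubgroup N) [DirectSum.Decomposition 𝒩] [SetLike.GradedSMul ℬ 𝒩]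
    (EN : GrLC.StarInjRes ℬ 𝒩)
    (P : Type u) [AddCommGroup P] [Module T P] [Module k P] [IsScalarTower k T P]
    (𝒬 : ℤ → AddSubgroup P) [DirectSum.Decomposition 𝒬] [SetLike.GradedSMul 𝒯 𝒬]
    (φ : P →ₗ[k] M ⊗[k] N) (hP : GrSeg.IsSegreMod ψ ℳ 𝒩 𝒬 φ)
    (EP : GrLC.StarInjRes 𝒯 𝒬)
    (a b n : ℕ) (hn : a + b + 1 + 1 + 1 = n)
    (hvR : ∀ i, a + 2 < i → Subsingleton (EM.H mR i))
    (hvS : ∀ j, b + 2 < j → Subsingleton (EN.H mS j))
    [Module k (EM.H mR (a + 2))] [IsScalarTower k R (EM.H mR (a + 2))]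
    [Module k (EN.H mS (b + 2))] [IsScalarTower k S (EN.H mS (b + 2))]
    [Module k (EP.H mT n)] [IsScalarTower k T (EP.H mT n)]
    [DirectSum.Decomposition (EP.Hgr mT n)] :
    ∃ Φ : EP.H mT n →ₗ[k] EM.H mR (a + 2) ⊗[k] EN.H mS (b + 2),
      GrSeg.IsSegreMod ψ (EM.Hgr mR (a + 2)) (EN.Hgr mS (b + 2)) (EP.Hgr mT n) Φ := by
  classical
  subst hn
  haveI : IsNoetherianRing R := Algebra.FiniteType.isNoetherianRing k R
  haveI : IsNoetherianRing S := Algebra.FiniteType.isNoetherianRing k S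
  haveI ftA : Algebra.FiniteType k (R ⊗[k] S) :=
    Algebra.FiniteType.trans (inferInstance : Algebra.FiniteType k R)
      (inferInstance : Algebra.FiniteType R (R ⊗[k] S))
  haveI : IsNoetherianRing (R ⊗[k] S) := Algebra.FiniteType.isNoetherianRing k _
  haveI : IsNoetherianRing T := segre_ring_isNoetherian 𝒜 ℬ 𝒯 ψ hT
  have hI : IdealHyp ψ mR.toIdeal mS.toIdeal mT.toIdeal := by
    rw [hmR, hmS, hmT]
    exact idealHyp 𝒜 ℬ 𝒯 hT
  have hC : ∀ a j, Subsingleton (LocCoh.H mR.toIdeal (j + 1) ((ofRes (k := k) EM).X a)) :=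
    fun a j => GrStar.locCoh_subsingleton_of_isStarInj 𝒜 (EM.X a).gr mR (EM.starInj a) (j + 1)
      (Nat.le_add_left 1 j)
  have hD : ∀ b j, Subsingleton (LocCoh.H mS.toIdeal (j + 1) ((ofRes (k := k) EN).X b)) :=
    fun b j => GrStar.locCoh_subsingleton_of_isStarInj ℬ (EN.X b).gr mS (EN.starInj b) (j + 1)
      (Nat.le_add_left 1 j)
  have hexC : ∀ a, LinearMap.ker ((ofRes (k := k) EM).d (a + 1)) =
      LinearMap.range ((ofRes (k := k) EM).d a) := EM.exact_succ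
  have hexD : ∀ b, LinearMap.ker ((ofRes (k := k) EN).d (b + 1)) =
      LinearMap.range ((ofRes (k := k) EN).d b) := EN.exact_succ
  have hex : TotExact (ofRes (k := k) EM) (ofRes (k := k) EN) :=
    ⟨(totMain k _ _ (ofRes (k := k) EM).dk_dk (ofRes (k := k) EN).dk_dk
        ((ofRes (k := k) EM).dk_exact hexC) ((ofRes (k := k) EN).dk_exact hexD)).1,
      (totMain k _ _ (ofRes (k := k) EM).dk_dk (ofRes (k := k) EN).dk_dk
        ((ofRes (k := k) EM).dk_exact hexC) ((ofRes (k := k) EN).dk_exact hexD)).2⟩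
  let V := totRes 𝒯 hT (augOfRes (k := k) EM) (augOfRes (k := k) EN) hP mT hI hC hD hex
  obtain ⟨e', he'⟩ := V.exists_equiv EP (a + b + 1 + 1 + 1)
  have hvC : ∀ i, a + 2 < i → Subsingleton (Hs (k := k) (ofRes (k := k) EM).dk
      ((ofRes (k := k) EM).gk mR.toIdeal) i) := by
    intro i hi
    obtain ⟨j, rfl⟩ : ∃ j, i = j + 1 := ⟨i - 1, by omega⟩
    exact (ofRes (k := k) EM).subsingleton_Hs_k mR.toIdeal j (hvR (j + 1) hi)
  have hvD : ∀ i, b + 2 < i → Subsingleton (Hs (k := k) (ofRes (k := k) EN).dk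
      ((ofRes (k := k) EN).gk mS.toIdeal) i) := by
    intro i hi
    obtain ⟨j, rfl⟩ : ∃ j, i = j + 1 := ⟨i - 1, by omega⟩
    exact (ofRes (k := k) EN).subsingleton_Hs_k mS.toIdeal j (hvS (j + 1) hi)
  obtain ⟨Φ, hΦinj, hΦpc⟩ := exists_topSegH (ofRes (k := k) EM) (ofRes (k := k) EN) 𝒯 hT mR mS mT
    hI hC hD (rfl : a + b + 1 = a + b + 1) (HR := EM.H mR (a + 2)) (EM.toH mR (a + 2))
    (HS := EN.H mS (b + 2)) (EN.toH mS (b + 2)) hexC hexD
    (Submodule.mkQ_surjective ((EM.cobdy mR (a + 2)).comap (EM.cocyc mR (a + 2)).subtype))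
    (Submodule.ker_mkQ _)
    (Submodule.mkQ_surjective ((EN.cobdy mS (b + 2)).comap (EN.cocyc mS (b + 2)).subtype))
    (Submodule.ker_mkQ _) hvC hvD (EM.Hgr mR (a + 2)) (fun d x => Iff.rfl)
    (EN.Hgr mS (b + 2)) (fun d x => Iff.rfl)
  have hsm : ∀ (t : T) (w : TP ψ (EM.H mR (a + 2)) (EN.H mS (b + 2))),
      t • w = GrSeg.act k R S (EM.H mR (a + 2)) (EN.H mS (b + 2)) (ψ t) w := fun t w => rfl
  refine ⟨(Φ ∘ₗ e'.symm.toLinearMap).restrictScalars k, ?_, ?_, ?_⟩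
  · exact hΦinj.comp e'.symm.injective
  · intro d
    ext y
    constructor
    · rintro ⟨x, hx, rfl⟩
      have hx' : e'.symm x ∈ V.Hgr (a + b + 1 + 1 + 1) d := by
        rw [he' d, LinearEquiv.apply_symm_apply]
        exact hx
      obtain ⟨z, hz, hzx⟩ := hx'
      exact (hΦpc d _).mp ⟨z, hz, congrArg Φ hzx⟩
    · intro hy
      obtain ⟨w, hw, hwy⟩ := (hΦpc d y).mpr hy
      refine ⟨e' (Submodule.Quotient.mk w), ?_, ?_⟩
      · exact (he' d _).mp ⟨w, hw, rfl⟩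
      · change Φ (e'.symm (e' (Submodule.Quotient.mk w))) = y
        rw [LinearEquiv.symm_apply_apply]
        exact hwy
  · intro t p
    exact (congrArg Φ (map_smul e'.symm t p)).trans
      ((map_smul Φ t (e'.symm p)).trans (hsm t _))

/-- **Top local cohomology of a Segre product**: if `H^i_m(M) = 0` for `i > r`, `H^j_n(N) = 0` for
`j > s` and `r, s ≥ 2`, then `H^{r+s-1}_{T_+}(M # N) ≅ H^r_m(M) # H^s_n(N)` as graded `T`-modules. -/
theorem topSegre (k : Type u) [Field k] (R : Type u) [CommRing R] [Algebra k R]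
    (𝒜 : ℤ → Submodule k R) [GradedAlgebra 𝒜] [Algebra.FiniteType k R]
    (S : Type u) [CommRing S] [Algebra k S] (ℬ : ℤ → Submodule k S) [GradedAlgebra ℬ]
    [Algebra.FiniteType k S]
    (T : Type u) [CommRing T] [Algebra k T] (𝒯 : ℤ → Submodule k T) [GradedAlgebra 𝒯]
    (ψ : T →ₐ[k] R ⊗[k] S) (hT : GrSeg.IsSegreRing 𝒜 ℬ 𝒯 ψ)
    (mR : HomogeneousIdeal 𝒜)
    (hmR : mR.toIdeal = Ideal.span (⋃ n ∈ Set.Ioi (0 : ℤ), (𝒜 n : Set R)))
    (mS : HomogeneousIdeal ℬ)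
    (hmS : mS.toIdeal = Ideal.span (⋃ n ∈ Set.Ioi (0 : ℤ), (ℬ n : Set S)))
    (mT : HomogeneousIdeal 𝒯)
    (hmT : mT.toIdeal = Ideal.span (⋃ n ∈ Set.Ioi (0 : ℤ), (𝒯 n : Set T)))
    (M : Type u) [AddCommGroup M] [Module R M] [Module k M] [IsScalarTower k R M]
    (ℳ : ℤ → AddSubgroup M) [DirectSum.Decomposition ℳ] [SetLike.GradedSMul 𝒜 ℳ]
    (EM : GrLC.StarInjRes 𝒜 ℳ)
    (N : Type u) [AddCommGroup N] [Module S N] [Module k N] [IsScalarTower k S N]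
    (𝒩 : ℤ → AddSubgroup N) [DirectSum.Decomposition 𝒩] [SetLike.GradedSMul ℬ 𝒩]
    (EN : GrLC.StarInjRes ℬ 𝒩)
    (P : Type u) [AddCommGroup P] [Module T P] [Module k P] [IsScalarTower k T P]
    (𝒬 : ℤ → AddSubgroup P) [DirectSum.Decomposition 𝒬] [SetLike.GradedSMul 𝒯 𝒬]
    (φ : P →ₗ[k] M ⊗[k] N) (hP : GrSeg.IsSegreMod ψ ℳ 𝒩 𝒬 φ)
    (EP : GrLC.StarInjRes 𝒯 𝒬)
    (r s : ℕ) (h2r : 2 ≤ r) (h2s : 2 ≤ s)
    (hvR : ∀ i, r < i → Subsingleton (EM.H mR i))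
    (hvS : ∀ j, s < j → Subsingleton (EN.H mS j))
    [Module k (EM.H mR r)] [IsScalarTower k R (EM.H mR r)]
    [Module k (EN.H mS s)] [IsScalarTower k S (EN.H mS s)]
    [Module k (EP.H mT (r + s - 1))] [IsScalarTower k T (EP.H mT (r + s - 1))]
    [DirectSum.Decomposition (EP.Hgr mT (r + s - 1))] :
    ∃ Φ : EP.H mT (r + s - 1) →ₗ[k] EM.H mR r ⊗[k] EN.H mS s,
      GrSeg.IsSegreMod ψ (EM.Hgr mR r) (EN.Hgr mS s) (EP.Hgr mT (r + s - 1)) Φ := by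
  obtain ⟨a, rfl⟩ : ∃ a, r = a + 2 := ⟨r - 2, by omega⟩
  obtain ⟨b, rfl⟩ : ∃ b, s = b + 2 := ⟨s - 2, by omega⟩
  exact topSegre_core k R 𝒜 S ℬ T 𝒯 ψ hT mR hmR mS hmS mT hmT M ℳ EM N 𝒩 EN P 𝒬 φ hP EP a b
    (a + 2 + (b + 2) - 1) (by omega) hvR hvS

end Groth.Agent.H81.Seg
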