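import Mathlib
import Groth.Agent.H81.Seg.Kunneth
import Groth.Agent.H81.Kun.Main

set_option autoImplicit false
universe u

/-!
# The linear algebra input `KunMain`
-/

namespace Groth.Agent.H81.Seg

open Groth.Agent.H81.Kun

theorem kunMain (k : Type u) [Field k] : KunMain k :=
  fun dU dV hdU hdV U' hU' V' hV' hexU hexV hU0 hU1 hV0 hV1 hfU hfV hfU0 hfV0 q =>
    Groth.Agent.H81.Kun.main dU dV hdU hdV U' hU' V' hV' hexU hexV hU0 hU1 hV0 hV1 hfU hfV
      hfU0 hfV0 q

end Groth.Agent.H81.Seg
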