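import Mathlib
import Groth.Agent.H81.Kun.Defs

set_option autoImplicit false
universe u

/-!
# The linear-algebra input for the top local cohomology of a Segre product (statement only)

`U`, `V` complexes exact in positive degrees with subcomplexes `U'`, `V'` whose cohomology vanishes
above `r + 1`, `s + 1` (`r, s ≥ 1`).  Then `H^{r+1}(U') ⊗ H^{s+1}(V') ≅ H^{r+s+1}(GG)`,
`GG = ker (Tot(U ⊗ V) → Tot(U/U' ⊗ V/V'))`, by `[x] ⊗ [y] ↦ [ξ ⊗ y - (-1)^{r+1} x ⊗ η]` for any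
`ξ`, `η` with `dξ = x`, `dη = y`.
-/

namespace Groth.Agent.H81.Seg

open scoped TensorProduct
open Groth.Agent.H81.Kun

/-- the linear algebra input: the top cohomology of the torsion part of a total complex -/
def TopKunMain (k : Type u) [Field k] : Prop :=
  ∀ {U : ℕ → Type u} [∀ a, AddCommGroup (U a)] [∀ a, Module k (U a)]
    {V : ℕ → Type u} [∀ b, AddCommGroup (V b)] [∀ b, Module k (V b)]
    (dU : ∀ a, U a →ₗ[k] U (a + 1)) (dV : ∀ b, V b →ₗ[k] V (b + 1))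
    (_ : ∀ a x, dU (a + 1) (dU a x) = 0) (_ : ∀ b y, dV (b + 1) (dV b y) = 0)
    (U' : ∀ a, Submodule k (U a)) (_ : ∀ a x, x ∈ U' a → dU a x ∈ U' (a + 1))
    (V' : ∀ b, Submodule k (V b)) (_ : ∀ b y, y ∈ V' b → dV b y ∈ V' (b + 1))
    (_ : ∀ a, LinearMap.ker (dU (a + 1)) = LinearMap.range (dU a))
    (_ : ∀ b, LinearMap.ker (dV (b + 1)) = LinearMap.range (dV b))
    (r s n : ℕ) (_ : 1 ≤ r) (_ : 1 ≤ s) (hn : r + 1 + s = n)
    (_ : ∀ i, r + 1 < i → Subsingleton (Hs dU U' i))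
    (_ : ∀ j, s + 1 < j → Subsingleton (Hs dV V' j)),
    ∃ Ψ : Hs dU U' (r + 1) ⊗[k] Hs dV V' (s + 1) →ₗ[k]
        Hs (TotD dU dV)
          (fun n => LinearMap.ker (TotMap (fun a => (U' a).mkQ) (fun b => (V' b).mkQ) n)) n,
      Function.Bijective Ψ ∧
      ∀ (x : cocyc dU U' (r + 1)) (y : cocyc dV V' (s + 1)) (ξ : U r) (η : V s),
        dU r ξ = x.1 → dV s η = y.1 →
        ∀ hw : inc (k := k) (U := U) (V := V) (show r + (s + 1) = n by omega) (ξ ⊗ₜ[k] y.1) -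
            ((-1 : k) ^ (r + 1)) •
              inc (k := k) (U := U) (V := V) (show r + 1 + s = n from hn) (x.1 ⊗ₜ[k] η) ∈
            cocyc (TotD dU dV)
              (fun n => LinearMap.ker (TotMap (fun a => (U' a).mkQ) (fun b => (V' b).mkQ) n)) n,
          Ψ ((Submodule.Quotient.mk x : Hs dU U' (r + 1)) ⊗ₜ[k]
              (Submodule.Quotient.mk y : Hs dV V' (s + 1))) =
            Submodule.Quotient.mk ⟨_, hw⟩

end Groth.Agent.H81.Seg
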